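import Groth.Agent.LAcyc.LineAcyclic
import Groth.Agent.EtAcycX.GeomFib
import Groth.Agent.EtAcycX.LocFib

/-!
# Lifting strict localisations along weakly étale maps; separably and algebraically closed points
-/

set_option autoImplicit false
set_option backward.isDefEq.respectTransparency false
set_option backward.isDefEq.respectTransparency.types false
set_option linter.style.haveILetI false
set_option maxHeartbeats 1000000
set_option synthInstance.maxHeartbeats 400000

universe u

open CategoryTheory CategoryTheory.Limits AlgebraicGeometry Opposite IsLocalRing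
open scoped TensorProduct

noncomputable section

namespace Groth.Agent.LAcyc

open EtBCQ (SH mkSH)

variable {Z : Scheme.{u}} {z : Z}

/-- maps of strict localisations at one point are bijective -/
theorem bijective_SH_hom (P P' : SH Z z) (lam : P.R →+* P'.R) [IsLocalHom lam]
    (h : Spec.map (CommRingCat.ofHom lam) ≫ P.spec = P'.spec) : Function.Bijective lam := by
  obtain ⟨θ, ⟨hθ, hθ'⟩, -⟩ := EtBCQ.existsUnique_strict P' (B := P.R) (C := P'.R) P.spec (RingHom.id _) lam
    (by rw [h, CommRingCat.ofHom_id, Spec.map_id, Category.id_comp])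
  obtain ⟨μ, -, hμ⟩ := EtBCQ.existsUnique_strict P (B := P.R) (C := P'.R) P.spec lam lam rfl
  have h1 := hμ (θ.comp lam) ⟨by rw [CommRingCat.ofHom_comp, Spec.map_comp, Category.assoc, h, hθ], by
    rw [← RingHom.comp_assoc, hθ', RingHom.id_comp]⟩
  have h2 := hμ (RingHom.id P.R) ⟨by rw [CommRingCat.ofHom_id, Spec.map_id, Category.id_comp], RingHom.comp_id _⟩
  exact Function.bijective_iff_has_inverse.2
    ⟨θ, fun b => RingHom.congr_fun (h1.trans h2.symm) b, fun c => RingHom.congr_fun hθ' c⟩

/-- maps of strict localisations over a weakly étale map are bijective -/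
theorem bijective_SH_hom_of_weaklyEtale {X' X : Scheme.{u}} (e : X' ⟶ X) [WeaklyEtale e] {x : X} (QX : SH X x)
    {x' : X'} (Q : SH X' x') (hx : e x' = x) (lam : Q.R →+* QX.R) [IsLocalHom lam]
    (h : Spec.map (CommRingCat.ofHom lam) ≫ Q.spec ≫ e = QX.spec) : Function.Bijective lam := by
  subst hx
  obtain ⟨aQ, lQ, sQ, hQ⟩ := EtAcycX.exists_push_SH e Q
  let P : SH X (e x') := { R := Q.R, alg := aQ, lh := lQ, sh := sQ }
  exact bijective_SH_hom P QX lam ((congrArg (Spec.map (CommRingCat.ofHom lam) ≫ ·) hQ).trans h)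

/-- a strict localisation is one of any weakly étale neighbourhood receiving it -/
theorem exists_SH_lift {X' X : Scheme.{u}} (e : X' ⟶ X) [WeaklyEtale e] {x : X} (QX : SH X x)
    (v : Spec (CommRingCat.of QX.R) ⟶ X') (hv : v ≫ e = QX.spec) :
    ∃ (Q : SH X' (v (closedPoint QX.R))) (lam : Q.R ≃+* QX.R),
      Spec.map (CommRingCat.ofHom lam.toRingHom) ≫ Q.spec = v := by
  let Q := mkSH X' (v (closedPoint QX.R))
  obtain ⟨lam, hl, hlam⟩ := EtBCQ.exists_strict_hom Q v rfl
  haveI := hl
  refine ⟨Q, RingEquiv.ofBijective lam (bijective_SH_hom_of_weaklyEtale e QX Q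
    (by rw [← Scheme.Hom.comp_apply, hv, QX.spec_closed]) lam ?_), hlam⟩
  rw [← Category.assoc, hlam, hv]

/-- an algebraic extension of a residue field is algebraic over the ring in the weak sense -/
theorem halg_of_isAlgebraic (A : Type u) [CommRing A] (y : ↥(Spec (CommRingCat.of A))) (Ω : Type u) [Field Ω]
    [Algebra ((Spec (CommRingCat.of A)).residueField y) Ω]
    [Algebra.IsAlgebraic ((Spec (CommRingCat.of A)).residueField y) Ω]
    [Algebra A Ω] (hA : Spec.map (CommRingCat.ofHom (algebraMap A Ω)) = EtAcyc.geomPt (Spec (CommRingCat.of A)) y Ω)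
    (w : Ω) : ∃ m : A, algebraMap A Ω m ≠ 0 ∧ IsIntegral A (m • w) := by
  let κ := (Spec (CommRingCat.of A)).residueField y
  let γ : A →+* κ := (Spec.preimage ((Spec (CommRingCat.of A)).fromSpecResidueField y)).hom
  have hγ : algebraMap A Ω = (algebraMap κ Ω).comp γ := by
    refine congrArg CommRingCat.Hom.hom (Spec.map_injective (?_ : Spec.map (CommRingCat.ofHom (algebraMap A Ω)) =
      Spec.map (CommRingCat.ofHom ((algebraMap κ Ω).comp γ))))
    rw [hA, CommRingCat.ofHom_comp, Spec.map_comp]
    exact congrArg (Spec.map (CommRingCat.ofHom (algebraMap κ Ω)) ≫ ·) (Spec.map_preimage _).symm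
  letI : Algebra A κ := γ.toAlgebra
  haveI : IsScalarTower A κ Ω := IsScalarTower.of_algebraMap_eq fun a => by rw [hγ]; rfl
  have hfrac : ∀ c : κ, ∃ a b : A, γ b ≠ 0 ∧ c * γ b = γ a := by
    intro c
    obtain ⟨l, rfl⟩ := Scheme.residue_surjective _ y c
    obtain ⟨q, hq⟩ : ∃ q, (Spec.stalkIso (CommRingCat.of A) y).inv q = l :=
      ⟨(Spec.stalkIso (CommRingCat.of A) y).hom l, Iso.hom_inv_id_apply _ l⟩
    obtain ⟨a, b, rfl⟩ := IsLocalization.exists_mk'_eq y.asIdeal.primeCompl q
    have hγ' : γ = ((((Spec (CommRingCat.of A)).residue y).hom.comp (Spec.stalkIso (CommRingCat.of A) y).inv.hom)).comp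
        (algebraMap A (Localization.AtPrime y.asIdeal)) := by
      refine congrArg CommRingCat.Hom.hom (Spec.map_injective (?_ : Spec.map (CommRingCat.ofHom γ) =
        Spec.map (CommRingCat.ofHom (((((Spec (CommRingCat.of A)).residue y).hom.comp
          (Spec.stalkIso (CommRingCat.of A) y).inv.hom)).comp (algebraMap A (Localization.AtPrime y.asIdeal))))))
      rw [CommRingCat.ofHom_comp, CommRingCat.ofHom_comp, Spec.map_comp, Spec.map_comp]
      refine (Spec.map_preimage _).trans ?_
      rw [Scheme.fromSpecResidueField, fromSpecStalk_eq_loc]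
      simp
    refine ⟨a, (b : A), ?_, ?_⟩
    · rw [hγ', RingHom.comp_apply]
      exact (IsUnit.map _ (IsLocalization.map_units (Localization.AtPrime y.asIdeal) b)).ne_zero
    · rw [← hq, hγ']
      let F : Localization.AtPrime y.asIdeal →+* κ :=
        ((Spec (CommRingCat.of A)).residue y).hom.comp (Spec.stalkIso (CommRingCat.of A) y).inv.hom
      show F (IsLocalization.mk' (Localization.AtPrime y.asIdeal) a b) * F (algebraMap A _ (b : A)) = F (algebraMap A _ a)
      rw [← map_mul]
      exact congrArg F (IsLocalization.mk'_spec (Localization.AtPrime y.asIdeal) a b)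
  obtain ⟨p, hp, hp0⟩ := (Algebra.IsAlgebraic.isAlgebraic (R := κ) w).isIntegral
  classical
  choose num den hden hnum using hfrac
  let N := p.natDegree
  let m : A := ∏ i ∈ Finset.range N, den (p.coeff i)
  have hm : γ m ≠ 0 := by
    rw [map_prod]
    exact Finset.prod_ne_zero_iff.2 fun i _ => hden _
  refine ⟨m, by rw [hγ, RingHom.comp_apply]; exact (map_ne_zero _).2 hm, ?_⟩
  let P : Polynomial κ := p.scaleRoots (γ m)
  have hPm : P.Monic := (Polynomial.monic_scaleRoots_iff _).2 hp
  obtain ⟨Q, hQ, -, hQm⟩ := Polynomial.lifts_and_degree_eq_and_monic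
    ((Polynomial.lifts_iff_coeff_lifts (f := γ) P).2 fun i => by
      rcases lt_trichotomy i N with hi | hi | hi
      · obtain ⟨e, he⟩ : den (p.coeff i) ∣ m := Finset.dvd_prod_of_mem _ (Finset.mem_range.2 hi)
        obtain ⟨j, hj⟩ : ∃ j, N - i = j + 1 := ⟨N - i - 1, by omega⟩
        refine ⟨num (p.coeff i) * e * m ^ j, ?_⟩
        rw [Polynomial.coeff_scaleRoots, hj, pow_succ', map_mul, map_mul, map_pow, ← hnum,
          show γ m = γ (den (p.coeff i)) * γ e by rw [← map_mul, ← he]]
        ring
      · exact ⟨1, by rw [Polynomial.coeff_scaleRoots, hi, hp.coeff_natDegree]; simp [N]⟩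
      · exact ⟨0, by rw [Polynomial.coeff_scaleRoots, Polynomial.coeff_eq_zero_of_natDegree_lt hi]; simp⟩) hPm
  refine ⟨Q, hQm, ?_⟩
  have h1 := Polynomial.scaleRoots_eval₂_eq_zero (p := p) (algebraMap κ Ω) (r := w) (s := γ m) hp0
  rw [show algebraMap κ Ω (γ m) * w = m • w by rw [Algebra.smul_def, hγ, RingHom.comp_apply]] at h1
  rw [hγ, ← Polynomial.eval₂_map, hQ]
  exact h1

/-- vanishing of cohomology descends along purely inseparable extensions of the geometric point -/
theorem subsingleton_H_of_algClosure {T S : Scheme.{u}} (f : T ⟶ S) (Ω Ω' : Type u) [Field Ω] [Field Ω'] [Algebra Ω Ω']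
    [IsPurelyInseparable Ω Ω'] (γ : Spec (CommRingCat.of Ω) ⟶ S) (M : Type) [AddCommGroup M] (q : ℕ)
    (h : Subsingleton (EtCoh.H (pullback f (Spec.map (CommRingCat.ofHom (algebraMap Ω Ω')) ≫ γ))
      (EtCoh.const _ M) q)) :
    Subsingleton (EtCoh.H (pullback f γ) (EtCoh.const _ M) q) := by
  let ρ := Spec.map (CommRingCat.ofHom (algebraMap Ω Ω'))
  haveI : UniversallyInjective ρ := EtAcycX.universallyInjective_specMap Ω Ω'
  haveI : IsIntegralHom ρ := by
    rw [IsIntegralHom.SpecMap_iff]
    exact fun x => Algebra.IsIntegral.isIntegral x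
  haveI : Surjective ρ := ⟨fun t => ⟨default, Subsingleton.elim (α := PrimeSpectrum Ω) _ _⟩⟩
  let i := pullback.fst (pullback.snd f γ) ρ
  haveI : UniversallyInjective i := MorphismProperty.pullback_fst _ _ inferInstance
  haveI : IsIntegralHom i := MorphismProperty.pullback_fst _ _ inferInstance
  haveI : Surjective i := MorphismProperty.pullback_fst _ _ inferInstance
  refine EtPBC.subsingleton_H_of_univHomeo i _ q (EtPBC.subsingleton_H_of_iso (EtCore.pullConst i M).symm q ?_)
  exact (subsingleton_H_const_iff (pullbackLeftPullbackSndIso f γ ρ) M q).2 h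

/-- connectedness descends along extensions of the geometric point -/
theorem connected_of_extension {T S : Scheme.{u}} (f : T ⟶ S) (Ω Ω' : Type u) [Field Ω] [Field Ω'] [Algebra Ω Ω']
    (γ : Spec (CommRingCat.of Ω) ⟶ S)
    [ConnectedSpace ↥(pullback f (Spec.map (CommRingCat.ofHom (algebraMap Ω Ω')) ≫ γ))] :
    ConnectedSpace ↥(pullback f γ) := by
  let ρ := Spec.map (CommRingCat.ofHom (algebraMap Ω Ω'))
  haveI : Surjective ρ := ⟨fun t => ⟨default, Subsingleton.elim (α := PrimeSpectrum Ω) _ _⟩⟩
  haveI : Surjective (pullback.fst (pullback.snd f γ) ρ) := MorphismProperty.pullback_fst _ _ inferInstance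
  let i := (pullbackLeftPullbackSndIso f γ ρ).inv ≫ pullback.fst (pullback.snd f γ) ρ
  exact i.surjective.connectedSpace i.continuous

end Groth.Agent.LAcyc
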