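import Groth.Agent.LAcyc.IntSH
import Groth.Agent.EtOpenBC.Fwd
import Mathlib

/-!
# Local acyclicity and integral base change
-/

set_option autoImplicit false
set_option backward.isDefEq.respectTransparency false
set_option backward.isDefEq.respectTransparency.types false
set_option maxHeartbeats 1000000
set_option linter.style.haveILetI false
set_option linter.overlappingInstances false
set_option linter.unusedSectionVars false

universe u

open CategoryTheory CategoryTheory.Limits AlgebraicGeometry Opposite IsLocalRing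
open scoped TensorProduct

noncomputable section

namespace Groth.Agent.LAcyc

open Groth.Agent.EtAcycX Groth.Agent.EtBCQ
open EtOpenBC (algResidue_specMap)

attribute [local instance 100000] EtCoh.H._proof_1 Groth.Agent.EtMV.hext
attribute [local instance 200000] Groth.Agent.EtMV.hextAb

/-- local acyclicity is stable under base changes inducing integral maps of strict localisations -/
theorem isLocAcyclicN_pullback_intSH {X S S' : Scheme.{u}} (f : X ⟶ S) (g : S' ⟶ S) (hg : IntSH g) {L : Set ℕ} (hL : ∃ ℓ ∈ L, ℓ.Prime) {n : ℕ} (hf : EtAcyc.IsLocAcyclicN f L n) :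
    EtAcyc.IsLocAcyclicN (pullback.snd f g) L n := by
  refine isLocAcyclicN_of_fibres _ ?_
  intro x' RS' RX' _ _ _ _ _ _ _ _ _ _ _ _ hc
  let QS' : EtBCQ.SH S' ((pullback.snd f g).base x') := { R := RS' }
  let QX' : EtBCQ.SH (pullback f g) x' := { R := RX' }
  let x := (pullback.fst f g).base x'
  let QS := EtBCQ.mkSH S (f.base x)
  let QX := EtBCQ.mkSH X x
  let θ : QS'.R →+* QX'.R := algebraMap RS' RX'
  haveI : IsLocalHom θ := ‹IsLocalHom (algebraMap RS' RX')›
  haveI : HenselianLocalRing QS'.R := QS'.sh.henselian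
  haveI : IsSepClosed (ResidueField QS'.R) := QS'.sh.isSepClosure.1
  haveI : HenselianLocalRing QX'.R := QX'.sh.henselian
  haveI : IsSepClosed (ResidueField QX'.R) := QX'.sh.isSepClosure.1
  have hθ : Spec.map (CommRingCat.ofHom θ) ≫ QS'.spec = QX'.spec ≫ pullback.snd f g :=
    (EtBCQ.specOf_comp (pullback.snd f g) x' RS' RX' θ hc).symm
  have hxs : (QS'.spec ≫ g) (closedPoint QS'.R) = f.base x := by
    rw [Scheme.Hom.comp_apply, QS'.spec_closed]
    exact (congrArg (fun h : pullback f g ⟶ S => h x') pullback.condition).symm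
  obtain ⟨φ, hφl, hφ⟩ := EtBCQ.exists_strict_hom QS (QS'.spec ≫ g) hxs
  obtain ⟨ι, hιl, hι⟩ := EtBCQ.exists_strict_hom QX (QX'.spec ≫ pullback.fst f g) (by
    rw [Scheme.Hom.comp_apply, QX'.spec_closed])
  haveI := hφl
  haveI := hιl
  haveI : IsLocalHom (θ.comp φ) := RingHom.isLocalHom_comp _ _
  obtain ⟨ψ, ⟨hψ, hιψ⟩, -⟩ := EtBCQ.existsUnique_strict QS (B := QX.R) (C := QX'.R) (QX.spec ≫ f) (θ.comp φ) ι (by
    refine (Category.assoc _ _ _).symm.trans ((congrArg (· ≫ f) hι).trans ?_)
    refine (Category.assoc _ _ _).trans ((congrArg (QX'.spec ≫ ·) pullback.condition).trans ?_)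
    refine (Category.assoc _ _ _).symm.trans ((congrArg (· ≫ g) hθ.symm).trans ?_)
    refine (Category.assoc _ _ _).trans ((congrArg (Spec.map (CommRingCat.ofHom θ) ≫ ·) hφ.symm).trans ?_)
    refine (Category.assoc _ _ _).symm.trans ?_
    rw [← Spec.map_comp]
    rfl)
  haveI hψl : IsLocalHom ψ := ⟨fun a ha => isUnit_of_map_unit (θ.comp φ) a (by
    rw [← hιψ]; exact ha.map ι)⟩
  letI : Algebra QS.R QX.R := ψ.toAlgebra
  letI : Algebra QS.R QS'.R := φ.toAlgebra
  haveI : IsLocalHom (algebraMap QS.R QX.R) := hψl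
  haveI : IsLocalHom (algebraMap QS.R QS'.R) := hφl
  have hint : φ.IsIntegral := hg _ QS _ QS' φ hφl hφ
  haveI : Algebra.IsIntegral QS.R QS'.R := ⟨hint⟩
  letI : Algebra QS.R QX'.R := (θ.comp φ).toAlgebra
  let ιA : QX.R →ₐ[QS.R] QX'.R := { ι with commutes' := RingHom.congr_fun hιψ }
  let θA : QS'.R →ₐ[QS.R] QX'.R := { θ with commutes' := fun _ => rfl }
  let Λ := (Algebra.TensorProduct.lift ιA θA fun _ _ => .all _ _)
  have hΛ₁ : ∀ b, Λ (b ⊗ₜ 1) = ι b := fun b => by
    rw [Algebra.TensorProduct.lift_tmul, map_one, mul_one]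
    rfl
  have hΛ₂ : ∀ d, Λ (1 ⊗ₜ d) = θ d := fun d => by
    rw [Algebra.TensorProduct.lift_tmul, map_one, one_mul]
    rfl
  have hΛ : Function.Bijective Λ.toRingHom := bijective_tensor_strict f g QX QS' QX' QS.spec hψ hφ ι θ hι hθ
    Λ.toRingHom hΛ₁ hΛ₂
  haveI : IsIso (CommRingCat.ofHom Λ.toRingHom) := (ConcreteCategory.isIso_iff_bijective _).2 hΛ
  have h1 : IsPushout (CommRingCat.ofHom ψ) (CommRingCat.ofHom φ)
      (CommRingCat.ofHom ι) (CommRingCat.ofHom θ) := by
    refine (CommRingCat.isPushout_tensorProduct QS.R QX.R QS'.R).of_iso (Iso.refl _) (Iso.refl _) (Iso.refl _)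
      (asIso (CommRingCat.ofHom Λ.toRingHom)) (by rfl) (by rfl) ?_ ?_
    · ext b; exact hΛ₁ b
    · ext d; exact hΛ₂ d
  refine geomFibres_of_isPullback (a := Spec.map (CommRingCat.ofHom ι)) (g := Spec.map (CommRingCat.ofHom ψ))
    (p := Spec.map (CommRingCat.ofHom φ)) (isPullback_SpecMap_of_isPushout _ _ _ _ h1) (algResidue_specMap φ hint) ?_
  exact apply_onStrict' (onStrict_fibres_of_isLocAcyclicN f hL hf) (x := x) rfl QS QX ψ hψ

end Groth.Agent.LAcyc
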