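import Groth.Agent.LAcyc.ConstRpush
import Groth.Agent.LAcyc.BaseChangeInt
import Groth.Agent.Hensel.Branches
import Groth.Agent.Hensel.NormRed
import Groth.Agent.EtAcycX.Descend
import Groth.Agent.EtCons.Presentation
import Groth.Agent.S6642
import Groth.Agent.S8525
import Mathlib

/-!
# Higher direct images of finite locally constant sheaves along proper locally acyclic morphisms
-/

set_option autoImplicit false
set_option backward.isDefEq.respectTransparency false
set_option backward.isDefEq.respectTransparency.types false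
set_option linter.style.haveILetI false
set_option linter.unusedSectionVars false
set_option linter.overlappingInstances false
set_option maxHeartbeats 1000000
set_option synthInstance.maxHeartbeats 400000

universe u

open CategoryTheory CategoryTheory.Limits AlgebraicGeometry Opposite IsLocalRing

noncomputable section

namespace Groth.Agent.LAcyc

open EtBCQ (SH mkSH)
open EtAcycX (constB)

theorem isLocallyConstant_of_isFLC {X : Scheme.{u}} {F : EtCoh.Ab X} (h : EtCoh.IsFiniteLocallyConstant F) :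
    EtRest.IsLocallyConstant F :=
  (EtFLC.isLC_iff F).2 fun x => by
    obtain ⟨U, u₀, M, iM, fM, σ, hu, hσ⟩ := (EtFLC.isFLC_iff F).1 h x
    exact ⟨U, u₀, ULift.{u + 1} M, inferInstance, σ.comp AddEquiv.ulift.toAddMonoidHom, hu,
      hσ.congr AddEquiv.ulift⟩

/-- zero sheaves are constant -/
theorem nonempty_iso_constB_of_isZero {X : Scheme.{u}} {G : EtCoh.Ab X} (h : IsZero G) :
    ∃ M, Nonempty (G ≅ constB X M) := by
  haveI : (constantSheaf X.smallEtaleTopology AddCommGrpCat.{u + 1}).IsLeftAdjoint := (EtCore.constAdj X).isLeftAdjoint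
  exact ⟨AddCommGrpCat.of PUnit.{u + 2}, ⟨h.iso (Functor.map_isZero _ (AddCommGrpCat.isZero_of_subsingleton _))⟩⟩

/-- over every point of a strictly henselian spectrum there is a normal one with separably closed function field -/
theorem exists_normal_over (R : Type u) [CommRing R] [HenselianLocalRing R] [IsSepClosed (ResidueField R)]
    (y : Spec (CommRingCat.of R)) :
    ∃ (A : Type u) (_ : CommRing A) (_ : HenselianLocalRing A) (_ : IsSepClosed (ResidueField A)) (_ : IsDomain A)
      (_ : IsIntegrallyClosed A)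
      (_ : IsSepClosed ((Spec (CommRingCat.of A)).residueField (genericPoint ↥(Spec (CommRingCat.of A)))))
      (σ : Spec (CommRingCat.of A) ⟶ Spec (CommRingCat.of R)),
      IsIntegralHom σ ∧ σ (closedPoint A) = closedPoint R ∧ ∃ w, σ w = y := by
  let p := y.asIdeal
  obtain ⟨Ω, _, _, _, _⟩ : ∃ (Ω : Type u) (_ : Field Ω) (_ : IsSepClosed Ω) (_ : Algebra p.ResidueField Ω),
      Algebra.IsAlgebraic p.ResidueField Ω :=
    ⟨AlgebraicClosure p.ResidueField, inferInstance, inferInstance, inferInstance, inferInstance⟩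
  letI : Algebra (R ⧸ p) Ω := ((algebraMap p.ResidueField Ω).comp (algebraMap (R ⧸ p) p.ResidueField)).toAlgebra
  haveI : IsScalarTower (R ⧸ p) p.ResidueField Ω := IsScalarTower.of_algebraMap_eq' rfl
  haveI : Algebra.IsAlgebraic (R ⧸ p) Ω :=
    (IsFractionRing.comap_isAlgebraic_iff (A := R ⧸ p) (K := p.ResidueField) (C := Ω)).2 inferInstance
  letI : Algebra R Ω := ((algebraMap (R ⧸ p) Ω).comp (Ideal.Quotient.mk p)).toAlgebra
  haveI : IsScalarTower R (R ⧸ p) Ω := IsScalarTower.of_algebraMap_eq' rfl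
  let A := integralClosure (R ⧸ p) Ω
  haveI : IsFractionRing A Ω := integralClosure.isFractionRing_of_algebraic fun a ha => by
    have h1 : algebraMap (R ⧸ p) p.ResidueField a = 0 :=
      (algebraMap p.ResidueField Ω).injective (ha.trans (map_zero _).symm)
    exact IsFractionRing.injective (R ⧸ p) p.ResidueField (h1.trans (map_zero _).symm)
  letI : Algebra R A := ((algebraMap (R ⧸ p) A).comp (Ideal.Quotient.mk p)).toAlgebra
  haveI : IsScalarTower R (R ⧸ p) A := IsScalarTower.of_algebraMap_eq' rfl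
  haveI : Algebra.IsIntegral R A := Algebra.IsIntegral.trans (R ⧸ p)
  haveI : IsLocalRing A := Hensel.isLocalRing_of_integral_domain R A
  haveI : HenselianLocalRing A := Hensel.henselianLocalRing_finite R A
  haveI : IsLocalHom (algebraMap R A) := ⟨fun a ha => by
    by_contra hau
    have hm : ((maximalIdeal A).comap (algebraMap R A)).IsMaximal :=
      Ideal.isMaximal_comap_of_isIntegral_of_isMaximal (R := R) (maximalIdeal A)
    exact ((eq_maximalIdeal hm).ge hau) ha⟩
  haveI : IsSepClosed (ResidueField A) := by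
    haveI : Algebra.IsIntegral R (ResidueField A) :=
      Algebra.IsIntegral.of_surjective (IsScalarTower.toAlgHom R A _) residue_surjective
    haveI : Algebra.IsIntegral (ResidueField R) (ResidueField A) := Algebra.IsIntegral.tower_top R
    haveI : Algebra.IsAlgebraic (ResidueField R) (ResidueField A) := inferInstance
    exact Algebra.IsAlgebraic.isSepClosed (F := ResidueField R)
  haveI : IsIntegrallyClosed A := Hensel.isIntegrallyClosed_integralClosure_field (R ⧸ p) Ω
  let σ := Spec.map (CommRingCat.ofHom (algebraMap R A))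
  haveI : IsIntegralHom σ := IsIntegralHom.SpecMap_iff.2 (algebraMap_isIntegral_iff.2 ‹_›)
  let Y := Spec (CommRingCat.of A)
  let η := genericPoint Y
  let τ : Spec (CommRingCat.of Ω) ⟶ Y := Spec.map (CommRingCat.ofHom (algebraMap A Ω))
  have hη : η = ⟨⊥, Ideal.isPrime_bot⟩ := genericPoint_eq_bot_of_affine (CommRingCat.of A)
  have hτ : τ (closedPoint Ω) = η := by
    rw [hη]
    refine PrimeSpectrum.ext ?_
    show (maximalIdeal Ω).comap (algebraMap A Ω) = ⊥
    rw [IsLocalRing.isField_iff_maximalIdeal_eq.1 (Field.toIsField Ω), ← RingHom.ker_eq_comap_bot,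
      RingHom.ker_eq_bot_iff_eq_zero]
    exact fun a ha => IsFractionRing.injective A Ω (ha.trans (map_zero _).symm)
  obtain ⟨ρ, hρ⟩ : ∃ ρ : Y.residueField η ⟶ CommRingCat.of Ω, Spec.map ρ ≫ Y.fromSpecResidueField η = τ := by
    rw [← hτ]
    exact ⟨Y.descResidueField (Scheme.stalkClosedPointTo τ),
      Scheme.descResidueField_stalkClosedPointTo_fromSpecResidueField (f := τ) ..⟩
  have hρA : (Spec.preimage (Y.fromSpecResidueField η)) ≫ ρ = CommRingCat.ofHom (algebraMap A Ω) := by
    refine Spec.map_injective ?_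
    rw [Spec.map_comp, Spec.map_preimage, hρ]
  have hρb : Function.Bijective ρ.hom := ⟨ρ.hom.injective, fun w => by
    obtain ⟨a, s, hs, rfl⟩ := IsFractionRing.div_surjective (A := A) w
    refine ⟨(Spec.preimage (Y.fromSpecResidueField η)).hom a / (Spec.preimage (Y.fromSpecResidueField η)).hom s, ?_⟩
    rw [map_div₀]
    exact congrArg₂ (· / ·) (ConcreteCategory.congr_hom hρA a) (ConcreteCategory.congr_hom hρA s)⟩
  haveI : IsSepClosed (Y.residueField η) := Hensel.isSepClosed_of_ringEquiv (RingEquiv.ofBijective ρ.hom hρb).symm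
  refine ⟨A, inferInstance, inferInstance, inferInstance, inferInstance, inferInstance, ‹_›, σ, ‹_›,
    EtBCQ.Spec_closedPoint' (algebraMap R A), ⟨⊥, Ideal.isPrime_bot⟩, PrimeSpectrum.ext ?_⟩
  show (⊥ : Ideal A).comap (algebraMap R A) = p
  refine SetLike.ext fun r => ?_
  rw [Ideal.mem_comap, Ideal.mem_bot]
  refine ⟨fun h => ?_, fun h => ?_⟩
  · have h1 : algebraMap (R ⧸ p) Ω (Ideal.Quotient.mk p r) = 0 := congrArg Subtype.val h
    exact Ideal.Quotient.eq_zero_iff_mem.1 (IsFractionRing.injective (R ⧸ p) p.ResidueField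
      (((algebraMap p.ResidueField Ω).injective (h1.trans (map_zero _).symm)).trans (map_zero _).symm))
  · show algebraMap (R ⧸ p) A (Ideal.Quotient.mk p r) = 0
    rw [Ideal.Quotient.eq_zero_iff_mem.2 h, map_zero]

/-- base change of higher direct images along a composite -/
theorem nonempty_pull_rpush {X Y T : Scheme.{u}} (f : X ⟶ Y) [IsProper f] (t : T ⟶ Y) (F : EtCoh.Ab X)
    (hU : EtAcyc.IsLTorsion Set.univ F) (q : ℕ) :
    Nonempty ((EtCoh.pull t).obj ((EtCoh.Rpush f q).obj F) ≅
      (EtCoh.Rpush (pullback.snd f t) q).obj ((EtCoh.pull (pullback.fst f t)).obj F)) := by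
  haveI := EtCohDesc.pull_preservesFiniteLimits (pullback.fst f t)
  haveI := EtPBC.isIso_bcQ_proper f t (pullback.snd f t) (pullback.fst f t) (IsPullback.of_hasPullback f t) F hU q
  exact ⟨asIso (EtBC.bcQ f t (pullback.snd f t) (pullback.fst f t) pullback.condition q F)⟩

/-- **constancy on strict localisations** -/
theorem exists_iso_constB_pull_rpush {X Y : Scheme.{u}} (f : X ⟶ Y) [IsProper f] (F : EtCoh.Ab X)
    (hU : EtAcyc.IsLTorsion Set.univ F) (hlc : EtRest.IsLocallyConstant F) {n q : ℕ} (hq : q ≤ n)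
    (hC : EtPBC.IsConstructible ((EtCoh.Rpush f q).obj F))
    (hA : ∀ (A : Type u) [CommRing A] [HenselianLocalRing A] [IsSepClosed (ResidueField A)]
      (t : Spec (CommRingCat.of A) ⟶ Y), IntSH t → ∃ L, EtAcyc.IsLocAcyclicN (pullback.snd f t) L n ∧
        EtAcyc.IsLTorsion L ((EtCoh.pull (pullback.fst f t)).obj F))
    (R : Type u) [CommRing R] [HenselianLocalRing R] [IsSepClosed (ResidueField R)]
    (t : Spec (CommRingCat.of R) ⟶ Y) (ht : IntSH t) :
    ∃ M, Nonempty ((EtCoh.pull t).obj ((EtCoh.Rpush f q).obj F) ≅ constB (Spec (CommRingCat.of R)) M) := by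
  refine exists_iso_constB_of_pulls R _ fun y => ?_
  obtain ⟨A, _, _, _, _, _, _, σ, hint, hσ, w, hw⟩ := exists_normal_over R y
  haveI := hint
  refine ⟨A, inferInstance, inferInstance, inferInstance, σ, w, hσ, hw, ?_⟩
  let tA := σ ≫ t
  obtain ⟨L, hla, hLt⟩ := hA A tA (intSH_comp (intSH_integral σ) ht)
  obtain ⟨pp⟩ := EtCons.nonempty_pull_pull σ t tA rfl
  obtain ⟨b⟩ := nonempty_pull_rpush f tA F hU q
  haveI : IsProper (pullback.snd f tA) := MorphismProperty.pullback_snd _ _ ‹_›
  let FA := (EtCoh.pull (pullback.fst f tA)).obj F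
  let GA := (EtCoh.Rpush (pullback.snd f tA) q).obj FA
  suffices h : ∃ M, Nonempty (GA ≅ constB (Spec (CommRingCat.of A)) M) by
    obtain ⟨M, ⟨i⟩⟩ := h
    exact ⟨M, ⟨pp.app _ ≪≫ b ≪≫ i⟩⟩
  by_cases hL : ∃ ℓ ∈ L, ℓ.Prime
  · haveI := EtCohDesc.pull_preservesFiniteLimits (pullback.fst f tA)
    refine exists_iso_constB_rpush A (pullback.snd f tA) hL hla hLt
      ((Groth.Agent.S6642.result (pullback.fst f tA)).1 F hlc) hq fun Ω _ _ ξ => ?_
    exact EtCons.finite_stalk_of_isConstructible _
      (EtCons.isConstructible_of_iso b (EtCons.isConstructible_pull tA hC)) ξ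
  · exact nonempty_iso_constB_of_isZero (Functor.map_isZero _ (EtAcycX.isZero_of_noPrimes hL hLt))

/-- **finite local constancy** -/
theorem isFLC_rpush {X Y : Scheme.{u}} (f : X ⟶ Y) [IsProper f] (F : EtCoh.Ab X)
    (hU : EtAcyc.IsLTorsion Set.univ F) (hlc : EtRest.IsLocallyConstant F) {n q : ℕ} (hq : q ≤ n)
    (hC : EtPBC.IsConstructible ((EtCoh.Rpush f q).obj F))
    (hA : ∀ (A : Type u) [CommRing A] [HenselianLocalRing A] [IsSepClosed (ResidueField A)]
      (t : Spec (CommRingCat.of A) ⟶ Y), IntSH t → ∃ L, EtAcyc.IsLocAcyclicN (pullback.snd f t) L n ∧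
        EtAcyc.IsLTorsion L ((EtCoh.pull (pullback.fst f t)).obj F)) :
    EtCoh.IsFiniteLocallyConstant ((EtCoh.Rpush f q).obj F) := by
  refine isFLC_of_const _ hC fun g hg u₀ Q => ?_
  haveI := hg
  haveI : WeaklyEtale Q.spec := EtAcycX.weaklyEtale_specOf u₀ Q.R
  haveI : WeaklyEtale (Q.spec ≫ g) := inferInstance
  exact exists_iso_constB_pull_rpush f F hU hlc hq hC hA Q.R (Q.spec ≫ g) (intSH_weaklyEtale _)

end Groth.Agent.LAcyc
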