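import Groth.Agent.EtAcycX.EtRestLA
import Mathlib

/-!
# Cohomology with coefficients `ℤ/n` from prime coefficients
-/

set_option autoImplicit false
set_option backward.isDefEq.respectTransparency false
set_option backward.isDefEq.respectTransparency.types false
set_option linter.style.haveILetI false
set_option linter.unusedSectionVars false
set_option linter.overlappingInstances false
set_option maxHeartbeats 1000000
set_option synthInstance.maxHeartbeats 400000

universe u

open CategoryTheory CategoryTheory.Limits CategoryTheory.Abelian AlgebraicGeometry Opposite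

noncomputable section

namespace Groth.Agent.LAcyc

attribute [local instance 100000] EtCoh.H._proof_1 Groth.Agent.EtMV.hext
attribute [local instance 200000] Groth.Agent.EtMV.hextAb

variable {W : Scheme.{u}}

/-- degree zero cohomology of a constant sheaf on a connected scheme -/
theorem nonempty_H_zero_const [ConnectedSpace W] (M : Type) [AddCommGroup M] :
    Nonempty (EtCoh.H W (EtCoh.const W M) 0 ≃+ M) := by
  haveI : Nonempty (EtCoh.top W).left := (inferInstance : Nonempty W)
  let a : M →+ EtCoh.sect (EtCoh.const W M) (EtCoh.top W) :=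
    AddMonoidHom.mk' (fun m => EtMV.cst (EtCoh.top W) m) fun m m' =>
      map_add ((toSheafify W.smallEtaleTopology (EtMV.cPre0 W M)).app (op (EtCoh.top W))).hom ⟨m⟩ ⟨m'⟩
  let b : (EtCoh.const W ℤ ⟶ EtCoh.const W M) →+ EtCoh.sect (EtCoh.const W M) (EtCoh.top W) :=
    AddMonoidHom.mk' (fun φ => EtMV.κ φ) fun φ ψ => rfl
  exact ⟨(Ext.addEquiv₀.trans (AddEquiv.ofBijective b (EtMV.κ_bijective _))).trans
    (AddEquiv.ofBijective a ⟨fun m m' h => EtMV.cst_inj (Classical.arbitrary (EtCoh.top W).left) h,
      EtAcycX.cst_top_surjective⟩).symm⟩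

/-- coefficients `ℤ/n` from prime coefficients -/
theorem subsingleton_H_zmod {q : ℕ} : ∀ n : ℕ, 0 < n →
    (∀ ℓ : ℕ, ℓ.Prime → ℓ ∣ n → Subsingleton (EtCoh.H W (EtCoh.const W (ZMod ℓ)) q)) →
      Subsingleton (EtCoh.H W (EtCoh.const W (ZMod n)) q) := by
  intro n
  induction n using Nat.strong_induction_on with
  | h n ih =>
    intro hn h
    rcases (Nat.succ_le_of_lt hn).eq_or_lt with h1 | h1
    · obtain rfl : n = 1 := h1.symm
      refine subsingleton_of_forall_eq 0 fun x => ?_
      rw [← Ext.comp_mk₀_id x, (EtAcycX.isZero_const_zmod_one W).eq_of_tgt (𝟙 _) 0, Ext.mk₀_zero, Ext.comp_zero]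
    · obtain ⟨b, hb⟩ := Nat.minFac_dvd n
      have hp := Nat.minFac_prime h1.ne'
      have hb0 : 0 < b := Nat.pos_of_ne_zero fun h0 => by
        rw [h0, mul_zero] at hb; omega
      have hbn : b < n := by
        rw [hb]; exact lt_mul_of_one_lt_left hb0 hp.one_lt
      haveI : NeZero n.minFac := ⟨hp.ne_zero⟩
      haveI : NeZero b := ⟨hb0.ne'⟩
      obtain ⟨S, hS, e₁, e₂, e₃⟩ := EtAcycX.exists_shortExact_zmod (W := W) hb.symm
      haveI : Subsingleton (EtCoh.H W S.X₁ q) := by rw [e₁]; exact h _ hp ⟨b, hb⟩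
      haveI : Subsingleton (EtCoh.H W S.X₃ q) := by
        rw [e₃]; exact ih b hbn hb0 fun ℓ hℓ hd => h ℓ hℓ (hd.trans ⟨n.minFac, by rw [mul_comm, ← hb]⟩)
      rw [← e₂]
      refine subsingleton_of_forall_eq 0 fun x => ?_
      obtain ⟨z, hz⟩ := Ext.covariant_sequence_exact₂ (EtCoh.const W ℤ) hS x (Subsingleton.elim _ _)
      rw [← hz, Subsingleton.elim z 0]
      exact Ext.zero_comp _ _ _ _ _

end Groth.Agent.LAcyc
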