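import Groth.Agent.LAcyc.GenFib

/-!
# Acyclicity of all base changes of strict localisations
-/

set_option autoImplicit false
set_option backward.isDefEq.respectTransparency false
set_option backward.isDefEq.respectTransparency.types false
set_option linter.style.haveILetI false
set_option linter.unusedSectionVars false
set_option linter.overlappingInstances false
set_option maxHeartbeats 1000000
set_option synthInstance.maxHeartbeats 400000

universe u

open CategoryTheory CategoryTheory.Limits AlgebraicGeometry Opposite IsLocalRing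

noncomputable section

namespace Groth.Agent.LAcyc

attribute [local instance 100000] EtCoh.H._proof_1 Groth.Agent.EtMV.hext
attribute [local instance 200000] Groth.Agent.EtMV.hextAb

open EtBCQ (SH)

section Strict

variable {R R' : Type u} [CommRing R] [HenselianLocalRing R] [IsSepClosed (ResidueField R)] [CommRing R']
  [HenselianLocalRing R'] [IsSepClosed (ResidueField R')] {ψ : R →+* R'} [IsLocalHom ψ] {L : Set ℕ} {n : ℕ}

/-- all geometric fibres of all base changes are acyclic -/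
theorem geomFibres_bc (hσ : EtAcyc.GeomFibresAcyclicN L n (Spec.map (CommRingCat.ofHom ψ))) (hu : UFib ψ L n)
    {Z : Scheme.{u}} (c : Z ⟶ Spec (CommRingCat.of R)) :
    EtAcyc.GeomFibresAcyclicN L n (pullback.fst c (Spec.map (CommRingCat.ofHom ψ))) := by
  intro z Ω _ _ _ _
  let σ := Spec.map (CommRingCat.ofHom ψ)
  let γ := EtAcyc.geomPt Z z Ω ≫ c
  letI : Algebra R Ω := (Spec.preimage γ).hom.toAlgebra
  have hγ : FEtSepBC.st R Ω = γ := Spec.map_preimage γ
  have e : pullback σ (FEtSepBC.st R Ω) ≅ pullback (pullback.fst c σ) (EtAcyc.geomPt Z z Ω) :=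
    pullback.congrHom rfl hγ ≪≫
      ((IsPullback.of_hasPullback (pullback.fst c σ) (EtAcyc.geomPt Z z Ω)).paste_horiz
        (IsPullback.of_hasPullback c σ).flip).isoPullback.symm
  haveI hconn : ConnectedSpace ↥(pullback σ (FEtSepBC.st R Ω)) := fibre_connected hσ Ω _
  refine EtAcycX.isAcyclicSchemeN_of_iso e ⟨inferInstance, hconn, fun ℓ hℓ hℓL q hq hqn => ?_⟩
  exact fibre_vanish hu Ω hℓ hℓL hq hqn

/-- **all base changes are acyclic** -/
theorem isAcyclicN_bc (hσ : EtAcyc.GeomFibresAcyclicN L n (Spec.map (CommRingCat.ofHom ψ))) (hu : UFib ψ L n)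
    {Z : Scheme.{u}} (c : Z ⟶ Spec (CommRingCat.of R)) :
    EtAcyc.IsAcyclicN (pullback.fst c (Spec.map (CommRingCat.ofHom ψ))) L n :=
  EtAcycX.isAcyclicN_of_fibres _ (geomFibres_bc hσ hu c) (onStrict_mono _ (Nat.sub_le n 1) (hu c))

/-- base changes compare cohomology -/
theorem compN_bc_strict (hσ : EtAcyc.GeomFibresAcyclicN L n (Spec.map (CommRingCat.ofHom ψ))) (hu : UFib ψ L n)
    {Z Z' : Scheme.{u}} {c : Z ⟶ Spec (CommRingCat.of R)} {m : Z' ⟶ Z} {c' : Z' ⟶ Spec (CommRingCat.of R')}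
    (sq : IsPullback m c' c (Spec.map (CommRingCat.ofHom ψ))) : EtAcyc.CompN m L n := by
  rw [← sq.isoPullback_hom_fst]
  exact EtAcycX.compN_congr _ _ (compN_of_isAcyclicN _ (isAcyclicN_bc hσ hu c))

end Strict

section Loc

variable {X Y : Scheme.{u}} (g : X ⟶ Y) {x : X} {y : Y} (QS : SH Y y) (QX : SH X x) (φ : QS.R →+* QX.R)
  (hφ : Spec.map (CommRingCat.ofHom φ) ≫ QS.spec = QX.spec ≫ g) {L : Set ℕ} {n : ℕ}

include hφ in
/-- base changes of strict localisations from base changes of the morphism -/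
theorem ufib_of_bc (H : ∀ ⦃Z : Scheme.{u}⦄ (c : Z ⟶ Spec (CommRingCat.of QS.R)),
    EtAcyc.OnStrictLocalizations (pullback.fst (c ≫ QS.spec) g) (fun _ _ m => EtAcyc.GeomFibresAcyclicN L n m)) :
    UFib φ L n := by
  intro Z c
  let σ := Spec.map (CommRingCat.ofHom φ)
  let v : Spec (CommRingCat.of QX.R) ⟶ pullback QS.spec g := pullback.lift σ QX.spec hφ
  haveI : WeaklyEtale QS.spec := EtAcycX.weaklyEtale_specOf y QS.R
  haveI : WeaklyEtale QX.spec := EtAcycX.weaklyEtale_specOf x QX.R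
  haveI : WeaklyEtale (v ≫ pullback.snd QS.spec g) := by
    rw [pullback.lift_snd]
    infer_instance
  haveI : WeaklyEtale v := WeaklyEtale.of_comp v (pullback.snd QS.spec g)
  let X₁ := pullback (c ≫ QS.spec) g
  let r : X₁ ⟶ pullback QS.spec g := pullback.lift (pullback.fst (c ≫ QS.spec) g ≫ c) (pullback.snd (c ≫ QS.spec) g)
    (by rw [Category.assoc]; exact pullback.condition)
  have sq1 : IsPullback r (pullback.fst (c ≫ QS.spec) g) (pullback.fst QS.spec g) c := by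
    refine IsPullback.of_right (h₁₂ := pullback.snd QS.spec g) (v₁₃ := g) (h₂₂ := QS.spec) ?_ (pullback.lift_fst _ _ _)
      (IsPullback.of_hasPullback QS.spec g).flip
    rw [pullback.lift_snd]
    exact (IsPullback.of_hasPullback (c ≫ QS.spec) g).flip
  let eX : pullback c σ ⟶ X₁ := sq1.lift (pullback.snd c σ ≫ v) (pullback.fst c σ)
    (by rw [Category.assoc, pullback.lift_fst]; exact pullback.condition.symm)
  have sq2 : IsPullback (pullback.snd c σ) eX v r := by
    refine IsPullback.of_bot (v₂₁ := pullback.fst (c ≫ QS.spec) g) (v₂₂ := pullback.fst QS.spec g) (h₃₁ := c) ?_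
      (sq1.lift_fst _ _ _).symm sq1
    rw [sq1.lift_snd, pullback.lift_fst]
    exact (IsPullback.of_hasPullback c σ).flip
  haveI : WeaklyEtale eX := MorphismProperty.of_isPullback (P := @WeaklyEtale) sq2 ‹_›
  exact EtAcycX.onStrict_of_weaklyEtale eX (𝟙 Z) (by rw [sq1.lift_snd, Category.comp_id]) (H c)

include hφ in
/-- universally locally acyclic morphisms -/
theorem ufib_of_uloc (hL : ∃ ℓ ∈ L, ℓ.Prime) (hg : EtAcyc.IsULocAcyclicN g L n) : UFib φ L n :=
  ufib_of_bc g QS QX φ hφ fun _ c => EtAcycX.onStrict_fibres_of_isLocAcyclicN _ hL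
    (hg _ _ _ (IsPullback.of_hasPullback (c ≫ QS.spec) g).flip)

end Loc

theorem geomFibres_of_uloc {X Y : Scheme.{u}} (g : X ⟶ Y) {x : X} (QS : SH Y (g.base x)) (QX : SH X x)
    (φ : QS.R →+* QX.R) [IsLocalHom φ] (hφ : Spec.map (CommRingCat.ofHom φ) ≫ QS.spec = QX.spec ≫ g)
    {L : Set ℕ} {n : ℕ} (hL : ∃ ℓ ∈ L, ℓ.Prime) (hg : EtAcyc.IsULocAcyclicN g L n) :
    EtAcyc.GeomFibresAcyclicN L n (Spec.map (CommRingCat.ofHom φ)) :=
  EtAcycX.apply_onStrict (EtAcycX.onStrict_fibres_of_isLocAcyclicN g hL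
    (hg g (𝟙 X) (𝟙 Y) IsPullback.of_id_fst)) QS QX φ hφ

theorem geomFibresAcyclicN_singleton {X Y : Scheme.{u}} {m : X ⟶ Y} {L : Set ℕ} {ℓ : ℕ} (hℓ : ℓ ∈ L) {n : ℕ}
    (h : EtAcyc.GeomFibresAcyclicN L n m) : EtAcyc.GeomFibresAcyclicN {ℓ} n m := fun y Ω _ _ _ _ => by
  obtain ⟨h1, h2, h3⟩ := h y Ω
  refine ⟨h1, h2, fun p hp hp' => ?_⟩
  obtain rfl : p = ℓ := hp'
  exact h3 p hp hℓ

/-- smooth morphisms at points where `ℓ` is invertible -/
theorem ufib_smooth {X Y : Scheme.{u}} (g : X ⟶ Y) [Smooth g] {x : X} {y : Y} (QS : SH Y y) (QX : SH X x)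
    (φ : QS.R →+* QX.R) [IsLocalHom φ] (hφ : Spec.map (CommRingCat.ofHom φ) ≫ QS.spec = QX.spec ≫ g)
    {ℓ : ℕ} (hℓ : ℓ.Prime) (hunit : IsUnit (ℓ : QS.R)) (n : ℕ) : UFib φ {ℓ} n := by
  refine ufib_of_bc g QS QX φ hφ fun Z c => ?_
  haveI : Smooth (pullback.fst (c ≫ QS.spec) g) := MorphismProperty.pullback_fst _ _ ‹_›
  have hmem : ℓ ∈ EtAcyc.primesInvertibleOn (pullback (c ≫ QS.spec) g) := ⟨hℓ, fun p => by
    let w := pullback.fst (c ≫ QS.spec) g ≫ c
    let f := (Spec.preimage ((pullback (c ≫ QS.spec) g).fromSpecResidueField p ≫ w)).hom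
    have h := hunit.map f
    rw [map_natCast] at h
    exact h.ne_zero⟩
  intro x₁ RY RX _ _ _ _ _ _ _ _ _ _ _ _ hc
  exact geomFibresAcyclicN_singleton hmem (onStrict_fibres_smooth _ n x₁ RY RX hc)

theorem geomFibres_smooth {X Y : Scheme.{u}} (g : X ⟶ Y) [Smooth g] {x : X} (QS : SH Y (g.base x)) (QX : SH X x)
    (φ : QS.R →+* QX.R) [IsLocalHom φ] (hφ : Spec.map (CommRingCat.ofHom φ) ≫ QS.spec = QX.spec ≫ g)
    {ℓ : ℕ} (hℓ : ℓ.Prime) (hx : (ℓ : X.residueField x) ≠ 0) (n : ℕ) :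
    EtAcyc.GeomFibresAcyclicN {ℓ} n (Spec.map (CommRingCat.ofHom φ)) :=
  EtAcycX.geomFibresAcyclicN _ {ℓ} ⟨ℓ, rfl, hℓ⟩ n (isAcyclicN_strict_smooth g hℓ n hx QS QX φ hφ)

end Groth.Agent.LAcyc
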