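import Groth.Agent.EtPBC.RpushVan
import Groth.Agent.EtPBC.AffineCurve
import Groth.Agent.EtPBC.AffineLefDim
import Groth.Agent.EtPBC.LocSheaf
import Groth.Agent.EtPBC.StalkZero
import Groth.Agent.EtAcycX.EtRestLA
import Groth.Agent.EtStrictLoc.Main
import Groth.Agent.EtFinCrit.Main
import Groth.Agent.EtBCQ.Crit

/-!
# Higher direct images from the line over a geometric point of an affine base

`j : 𝔸¹_Ω → 𝔸¹_A`: `R^q j_* (ℤ/ℓ) = 0` for `q ≥ 2`, and its stalks are the cohomology of the
geometric fibres of the strict localisations of `𝔸¹_A`.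
-/

set_option autoImplicit false
set_option backward.isDefEq.respectTransparency false
set_option backward.isDefEq.respectTransparency.types false
set_option linter.style.haveILetI false
set_option maxHeartbeats 1000000

universe u

open CategoryTheory CategoryTheory.Limits AlgebraicGeometry Opposite
open scoped TensorProduct Polynomial

noncomputable section

namespace Groth.Agent.LAcyc

attribute [local instance 100000] EtCoh.H._proof_1 EtMV.hext
attribute [local instance 200000] EtMV.hextAb

variable (A : Type u) [CommRing A] (Ω : Type u) [Field Ω] [Algebra A Ω]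

/-- the structure map of the line -/
abbrev lineStr : Spec (CommRingCat.of (Polynomial A)) ⟶ Spec (CommRingCat.of A) :=
  Spec.map (CommRingCat.ofHom Polynomial.C)

/-- the line over the geometric point in the line over the base -/
abbrev jLine : Spec (CommRingCat.of (Polynomial Ω)) ⟶ Spec (CommRingCat.of (Polynomial A)) :=
  Spec.map (CommRingCat.ofHom (Polynomial.mapRingHom (algebraMap A Ω)))

theorem isPullback_polyMap (B : Type u) [CommRing B] [Algebra A B] :
    IsPullback (Spec.map (CommRingCat.ofHom (Polynomial.mapRingHom (algebraMap A B)))) (lineStr B) (lineStr A)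
      (Spec.map (CommRingCat.ofHom (algebraMap A B))) := by
  refine isPullback_SpecMap_of_isPushout _ _ _ _ ?_
  refine IsPushout.of_isColimit (c := PushoutCocone.mk
    (CommRingCat.ofHom (Polynomial.mapRingHom (algebraMap A B))) (CommRingCat.ofHom Polynomial.C) ?_) ?_
  · ext a
    simp
  refine PushoutCocone.IsColimit.mk _
    (fun s => CommRingCat.ofHom (Polynomial.eval₂RingHom s.inr.hom (s.inl Polynomial.X)))
    (fun s => ?_) (fun s => ?_) (fun s m h1 h2 => ?_)
  · refine CommRingCat.hom_ext (Polynomial.ringHom_ext (fun a => ?_) ?_)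
    · have h := congr($(s.condition) a)
      simp only [CommRingCat.hom_comp, CommRingCat.hom_ofHom, RingHom.comp_apply] at h ⊢
      rw [Polynomial.coe_mapRingHom, Polynomial.map_C, Polynomial.coe_eval₂RingHom, Polynomial.eval₂_C]
      exact h.symm
    · simp
  · ext a
    simp
  · refine CommRingCat.hom_ext (Polynomial.ringHom_ext (fun a => ?_) ?_)
    · have h := congr($(h2) a)
      simp only [CommRingCat.hom_comp, CommRingCat.hom_ofHom, RingHom.comp_apply] at h ⊢
      rw [Polynomial.coe_eval₂RingHom, Polynomial.eval₂_C]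
      exact h
    · have h := congr($(h1) Polynomial.X)
      simp only [CommRingCat.hom_comp, CommRingCat.hom_ofHom, RingHom.comp_apply, Polynomial.coe_mapRingHom,
        Polynomial.map_X] at h ⊢
      rw [Polynomial.coe_eval₂RingHom, Polynomial.eval₂_X]
      exact h

theorem isPullback_jLine : IsPullback (jLine A Ω) (lineStr Ω) (lineStr A)
    (Spec.map (CommRingCat.ofHom (algebraMap A Ω))) := isPullback_polyMap A Ω

theorem isTorsion_const (W : Scheme.{u}) {n : ℕ} (hn : 0 < n) : EtCoh.IsTorsion (EtCoh.const W (ZMod n)) :=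
  fun U t x => by
    obtain ⟨V, g, m, hv, hm, h⟩ := EtAcycX.isLTorsion_const_zmod (W := W) hn U t x
    exact ⟨V, g, hv, isOfFinAddOrder_iff_nsmul_eq_zero.2 ⟨m, hm.1, h⟩⟩

/-- **higher direct images from the line vanish from degree two on** -/
theorem isZero_rpush_line [IsAlgClosed Ω] (ℓ : ℕ) (hℓ : 0 < ℓ) (q : ℕ) :
    IsZero ((EtCoh.Rpush (jLine A Ω) (q + 2)).obj (EtCoh.const (Spec (CommRingCat.of (Polynomial Ω))) (ZMod ℓ))) := by
  haveI := EtPBC.preservesFiniteLimits_push (jLine A Ω)
  refine EtPBC.isZero_rpush_of_locVan (jLine A Ω) (q + 1) _ fun V hV c => ?_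
  haveI := hV
  haveI : Etale V.hom := V.prop
  let o := (EtCoh.bc (jLine A Ω)).obj V
  haveI : Etale o.hom := o.prop
  haveI : IsAffineHom (jLine A Ω) := isAffineHom_of_isAffine _
  haveI : IsAffine ((𝟭 Scheme.{u}).obj V.left) := hV
  haveI : IsAffineHom (pullback.fst V.hom (jLine A Ω)) := MorphismProperty.pullback_fst _ _ inferInstance
  haveI : IsAffine o.left := (isAffine_of_isAffineHom (pullback.fst V.hom (jLine A Ω)) :)
  haveI : IsAffine ((𝟭 Scheme.{u}).obj o.left) := ‹IsAffine o.left›
  haveI : IsAffine ((Functor.fromPUnit (Spec (CommRingCat.of (Polynomial Ω)))).obj o.right) :=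
    inferInstanceAs (IsAffine (Spec (CommRingCat.of (Polynomial Ω))))
  haveI : IsAffineHom o.hom := isAffineHom_of_isAffine o.hom
  haveI : QuasiCompact o.hom := inferInstance
  let c₀ : Spec (CommRingCat.of (Polynomial Ω)) ⟶ Spec (CommRingCat.of Ω) := lineStr Ω
  haveI : LocallyOfFiniteType c₀ := by
    rw [HasRingHomProperty.Spec_iff (P := @LocallyOfFiniteType)]
    exact RingHom.finiteType_algebraMap.2 (inferInstance : Algebra.FiniteType Ω (Polynomial Ω))
  have hd : topologicalKrullDim ↥(Spec (CommRingCat.of (Polynomial Ω))) ≤ ((1 : ℕ) : WithBot ℕ∞) := by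
    refine (PrimeSpectrum.topologicalKrullDim_eq_ringKrullDim (R := (Polynomial Ω))).le.trans ?_
    rw [Polynomial.ringKrullDim_of_isNoetherianRing, ringKrullDim_eq_zero_of_field Ω]
    simp
  have hdim := EtPBC.dim_le_of_etale c₀ hd (W := o.left) o.hom
  haveI : LocallyOfFiniteType (o.hom ≫ c₀) := inferInstance
  have hcd := EtPBC.cohDimLE_affine_curve (k := Ω) o.left (o.hom ≫ c₀) (by exact_mod_cast hdim)
  haveI := EtMV.jcont_etale o.hom
  haveI : Subsingleton (EtCoh.H o.left ((EtCoh.pull o.hom).obj (EtCoh.const _ (ZMod ℓ))) (q + 1 + 1)) :=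
    EtPBC.subsingleton_H_of_iso (EtCore.pullConst o.hom (ZMod ℓ)).symm _
      (hcd _ (isTorsion_const _ hℓ) _ (by omega))
  exact @Subsingleton.elim _ ((EtMV.subsingleton_H_iff_of_etale o.hom _ _).1 ‹_›) c 0

/-- the geometric fibre of a strict localisation of the line -/
theorem exists_fibre_iso {x : ↥(Spec (CommRingCat.of (Polynomial A)))}
    (QX : EtBCQ.SH (Spec (CommRingCat.of (Polynomial A))) x) [Algebra A QX.R]
    (hX : Spec.map (CommRingCat.ofHom (algebraMap A QX.R)) = QX.spec ≫ lineStr A) :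
    Nonempty (pullback (jLine A Ω) QX.spec ≅ Spec (CommRingCat.of (QX.R ⊗[A] Ω))) :=
  ⟨((IsPullback.of_hasPullback (jLine A Ω) QX.spec).flip.paste_vert (isPullback_jLine A Ω)).isoPullback ≪≫
    pullback.congrHom hX.symm rfl ≪≫ pullbackSpecIso A QX.R Ω⟩

/-- cohomology with constant coefficients along isomorphisms -/
theorem subsingleton_H_const_iff {W W' : Scheme.{u}} (i : W ≅ W') (M : Type) [AddCommGroup M] (q : ℕ) :
    Subsingleton (EtCoh.H W (EtCoh.const W M) q) ↔ Subsingleton (EtCoh.H W' (EtCoh.const W' M) q) :=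
  ⟨fun h => EtPBC.subsingleton_H_of_univHomeo i.hom _ q
      (EtPBC.subsingleton_H_of_iso (EtCore.pullConst i.hom M).symm q h),
    fun h => EtPBC.subsingleton_H_of_univHomeo i.inv _ q
      (EtPBC.subsingleton_H_of_iso (EtCore.pullConst i.inv M).symm q h)⟩

/-- **stalks of the higher direct images are the cohomology of the geometric fibres** -/
theorem zeroAt_rpush_line_iff (ℓ q : ℕ) {x : ↥(Spec (CommRingCat.of (Polynomial A)))}
    (QX : EtBCQ.SH (Spec (CommRingCat.of (Polynomial A))) x) [Algebra A QX.R]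
    (hX : Spec.map (CommRingCat.ofHom (algebraMap A QX.R)) = QX.spec ≫ lineStr A) :
    EtPBC.ZeroAt ((EtCoh.Rpush (jLine A Ω) q).obj (EtCoh.const (Spec (CommRingCat.of (Polynomial Ω))) (ZMod ℓ))) x ↔
      Subsingleton (EtCoh.H (Spec (CommRingCat.of (QX.R ⊗[A] Ω)))
        (EtCoh.const (Spec (CommRingCat.of (QX.R ⊗[A] Ω))) (ZMod ℓ)) q) := by
  obtain ⟨θ⟩ := exists_fibre_iso A Ω QX hX
  haveI : IsAffineHom (jLine A Ω) := isAffineHom_of_isAffine _
  obtain ⟨e⟩ := EtStrictLoc.nonempty_stalkRpush (jLine A Ω) x QX.R q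
  rw [← subsingleton_H_const_iff θ, ← EtPBC.isZero_stalk_iff_zeroAt
    (ξ := Hens2.geomPt (Spec (CommRingCat.of (Polynomial A))) x QX.R)
    (EtBCQ.geomPt_apply x QX.R) ((EtCoh.Rpush (jLine A Ω) q).obj _)]
  let F := EtCoh.const (Spec (CommRingCat.of (Polynomial Ω))) (ZMod ℓ)
  let P := pullback (jLine A Ω) QX.spec
  have h1 : IsZero ((EtCoh.stalk (Hens2.geomPt _ x QX.R)).obj ((EtCoh.Rpush (jLine A Ω) q).obj F)) ↔
      Subsingleton (EtCoh.H P ((EtCoh.pull (pullback.fst (jLine A Ω) QX.spec)).obj F) q) := by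
    rw [AddCommGrpCat.isZero_iff_subsingleton]
    exact ((e.app F).addCommGroupIsoToAddEquiv.toEquiv).subsingleton_congr
  refine h1.trans ⟨fun h => ?_, fun h => ?_⟩
  · exact EtPBC.subsingleton_H_of_iso (EtCore.pullConst _ (ZMod ℓ)) q h
  · exact EtPBC.subsingleton_H_of_iso (EtCore.pullConst _ (ZMod ℓ)).symm q h

end Groth.Agent.LAcyc
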