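import Groth.Agent.LAcyc.GenAcyclic
import Groth.Agent.EtBCQ.DegZero
import Groth.Agent.EtAcycX.GenPt
import Groth.Agent.EtBCBridge.Main

/-!
# Base change along universally locally acyclic morphisms, smooth base change
-/

set_option autoImplicit false
set_option backward.isDefEq.respectTransparency false
set_option backward.isDefEq.respectTransparency.types false
set_option linter.style.haveILetI false
set_option linter.unusedSectionVars false
set_option linter.overlappingInstances false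
set_option maxHeartbeats 1000000
set_option synthInstance.maxHeartbeats 400000

universe u

open CategoryTheory CategoryTheory.Limits AlgebraicGeometry Opposite IsLocalRing

noncomputable section

namespace Groth.Agent.LAcyc

attribute [local instance 100000] EtCoh.H._proof_1 Groth.Agent.EtMV.hext
attribute [local instance 200000] Groth.Agent.EtMV.hextAb

open EtBCQ (SH)

theorem isLTorsion_mono {X : Scheme.{u}} {L L' : Set ℕ} (h : L ⊆ L') {F : EtCoh.Ab X}
    (hF : EtAcyc.IsLTorsion L F) : EtAcyc.IsLTorsion L' F := fun U s x => by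
  obtain ⟨V, g, m, hv, hm, h0⟩ := hF U s x
  exact ⟨V, g, m, hv, ⟨hm.1, fun p hp hpm => h (hm.2 p hp hpm)⟩, h0⟩

theorem isAcyclicN_mono {X Y : Scheme.{u}} {g : X ⟶ Y} {L L' : Set ℕ} (h : L ⊆ L') {n : ℕ}
    (hg : EtAcyc.IsAcyclicN g L' n) : EtAcyc.IsAcyclicN g L n := fun V F hF _ => hg V F (isLTorsion_mono h hF)

theorem primesInvertibleOn_subset {X Y : Scheme.{u}} (g : X ⟶ Y) :
    EtAcyc.primesInvertibleOn Y ⊆ EtAcyc.primesInvertibleOn X := fun ℓ hℓ => ⟨hℓ.1, fun x h => hℓ.2 (g.base x) (by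
  have h' : (g.residueFieldMap x).hom (ℓ : Y.residueField (g.base x)) = 0 := by rw [map_natCast]; exact h
  exact (map_eq_zero _).1 h')⟩

/-- smooth morphisms are universally locally acyclic for the primes invertible on the base -/
theorem isULocAcyclicN_smooth {X Y : Scheme.{u}} (g : X ⟶ Y) [Smooth g] (n : ℕ) :
    EtAcyc.IsULocAcyclicN g (EtAcyc.primesInvertibleOn Y) n := by
  intro X₁ Y₁ g₁ b' b sq x RY RX _ _ _ _ _ _ _ _ _ _ _ _ hc
  haveI : Smooth g₁ := MorphismProperty.of_isPullback (P := @Smooth) sq ‹_›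
  exact isAcyclicN_mono ((primesInvertibleOn_subset b).trans (primesInvertibleOn_subset g₁))
    (isLocAcyclic_smooth g₁ n x RY RX hc)

theorem isLTorsion_of_isTorsionInvertibleOn {S T : Scheme.{u}} (t : T ⟶ S) {F : EtCoh.Ab T}
    (hF : EtPBC.IsTorsionInvertibleOn S F) : EtAcyc.IsLTorsion (EtAcyc.primesInvertibleOn S) F := fun U s x => by
  obtain ⟨V, g, n, hv, hn, h0⟩ := hF U s x
  have hs : ∀ p : S, ∀ d : ℕ, d ∣ n → (d : S.residueField p) ≠ 0 := fun p d hd h => by
    have h1 := hn.map (S.evaluation ⊤ p trivial).hom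
    rw [map_natCast] at h1
    obtain ⟨e, rfl⟩ := hd
    rw [Nat.cast_mul, h, zero_mul] at h1
    exact not_isUnit_zero h1
  refine ⟨V, g, n, hv, ⟨Nat.pos_of_ne_zero fun h => ?_, fun p hp hpn => ⟨hp, fun y => hs y p hpn⟩⟩, h0⟩
  exact hs (t.base (U.hom.base x)) n dvd_rfl (by rw [h, Nat.cast_zero])

theorem bijective_Hpull_of_isZero {X Y : Scheme.{u}} (m : X ⟶ Y) [PreservesFiniteLimits (EtCoh.pull m)]
    {F : EtCoh.Ab Y} (hF : IsZero F) (q : ℕ) : Function.Bijective (EtCore.Hpull m F q) := by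
  have h1 : ∀ {Z : Scheme.{u}} {G : EtCoh.Ab Z}, IsZero G → Subsingleton (EtCoh.H Z G q) := fun {Z G} hG =>
    subsingleton_of_forall_eq 0 fun e => by
      rw [← Abelian.Ext.comp_mk₀_id e, hG.eq_of_src (𝟙 G) 0, Abelian.Ext.mk₀_zero, Abelian.Ext.comp_zero]
  haveI := h1 hF
  haveI := h1 ((EtCoh.pull m).map_isZero hF)
  exact ⟨fun a b _ => Subsingleton.elim a b, fun b => ⟨0, Subsingleton.elim _ b⟩⟩

section BC

variable {X Y X' Y' : Scheme.{u}} (f : X ⟶ Y) (g : Y' ⟶ Y) (f' : X' ⟶ Y') (g' : X' ⟶ X)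
  (h : IsPullback g' f' f g) [QuasiCompact f] [QuasiSeparated f] [PreservesFiniteLimits (EtCoh.pull g')]
  {L : Set ℕ} {n : ℕ}

include h in
/-- restriction between strict localisations -/
theorem compN_restr (hg : EtAcyc.IsULocAcyclicN g L n) {x : Y'} (QS : SH Y (g.base x)) (QX : SH Y' x)
    (φ : QS.R →+* QX.R) [IsLocalHom φ] (hφ : Spec.map (CommRingCat.ofHom φ) ≫ QS.spec = QX.spec ≫ g)
    {PS PX : Scheme.{u}} {aS : PS ⟶ X} {bS : PS ⟶ Spec (CommRingCat.of QS.R)} (HS : IsPullback aS bS f QS.spec)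
    {aX : PX ⟶ X} {bX : PX ⟶ Spec (CommRingCat.of QX.R)} (HX : IsPullback aX bX f (QX.spec ≫ g)) (m : PX ⟶ PS)
    (w : m ≫ aS = aX) (wb : m ≫ bS = bX ≫ Spec.map (CommRingCat.ofHom φ))
    {F : EtCoh.Ab PS} (hF : EtAcyc.IsLTorsion L F) [PreservesFiniteLimits (EtCoh.pull m)] :
    (∀ q : ℕ, q ≤ n → Function.Bijective (EtCore.Hpull m F q)) ∧ Function.Injective (EtCore.Hpull m F (n + 1)) := by
  by_cases hL : ∃ ℓ ∈ L, ℓ.Prime
  · have sqm : IsPullback m bX bS (Spec.map (CommRingCat.ofHom φ)) := by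
      refine IsPullback.of_right (h₁₂ := aS) (v₁₃ := f) (h₂₂ := QS.spec) ?_ wb HS
      rw [w, hφ]
      exact HX
    exact compN_bc_strict (geomFibres_of_uloc g QS QX φ hφ hL hg) (ufib_of_uloc g QS QX φ hφ hL hg) sqm F hF
  · have hz := EtAcycX.isZero_of_noPrimes hL hF
    exact ⟨fun q _ => bijective_Hpull_of_isZero m hz q, (bijective_Hpull_of_isZero m hz (n + 1)).1⟩

include h in
/-- **base change along universally locally acyclic morphisms** -/
theorem isIso_bcQ_uloc (hg : EtAcyc.IsULocAcyclicN g L n) (F : EtCoh.Ab X) (hF : EtAcyc.IsLTorsion L F)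
    {q : ℕ} (hq : q ≤ n) : IsIso (EtBC.bcQ f g f' g' h.w q F) := by
  refine (EtBCQ.isIso_bcQ_iff_restr g f f' g' h F q).1 ?_
  intro x RS _ _ _ _ hS RX _ _ _ _ hX φ _ hφ PS PX aS bS HS aX bX HX m w wb _
  haveI := hS
  haveI := hX
  let QS : SH Y (g.base x) := { R := RS }
  let QX : SH Y' x := { R := RX }
  exact (EtPBC.bijective_HpullVia_iff m aS aX w F q).2 ((compN_restr f g f' g' h hg QS QX φ
    (EtBCQ.specOf_comp g x RS RX φ hφ).symm HS HX m w wb (EtAcycX.isLTorsion_pull aS hF)).1 q hq)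

include h in
/-- injectivity in the next degree -/
theorem mono_bcQ_uloc (hg : EtAcyc.IsULocAcyclicN g L n) (F : EtCoh.Ab X) (hF : EtAcyc.IsLTorsion L F) :
    Mono (EtBC.bcQ f g f' g' h.w (n + 1) F) := by
  haveI : QuasiCompact f' := MorphismProperty.of_isPullback (P := @QuasiCompact) h ‹_›
  haveI : QuasiSeparated f' := MorphismProperty.of_isPullback (P := @QuasiSeparated) h ‹_›
  refine EtBCQ.mono_bcQ (w := h.w) h F (n + 1) fun l => ?_
  haveI := l.locρ
  let QS : SH Y (g.base l.x) := { R := l.RS }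
  let QX : SH Y' l.x := { R := l.RX }
  have HX' : IsPullback (l.pY ≫ g') l.bX f (QX.spec ≫ g) := l.HX.paste_horiz h
  exact injective_r l F (n + 1) (compN_restr f g f' g' h hg QS QX l.ρ l.hρ.symm l.HS HX' l.m l.wm l.wb
    (EtAcycX.isLTorsion_pull l.aS hF)).2

end BC

end Groth.Agent.LAcyc
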