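import Groth.Agent.LAcyc.Transfer
import Groth.Agent.EtAcycX.Comp
import Groth.Agent.EtAcycX.LocComp
import Groth.Agent.EtAcycX.Restrict

/-!
# Locality of properties of strict localisations; isomorphisms are acyclic
-/

set_option autoImplicit false
set_option backward.isDefEq.respectTransparency false
set_option backward.isDefEq.respectTransparency.types false
set_option linter.style.haveILetI false
set_option maxHeartbeats 1000000

universe u

open CategoryTheory CategoryTheory.Limits AlgebraicGeometry Opposite IsLocalRing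

noncomputable section

namespace Groth.Agent.LAcyc

open EtBCQ (SH mkSH exists_strict_hom existsUnique_strict)

theorem isAcyclicN_of_isIso {A B : Scheme.{u}} (f : A ⟶ B) [IsIso f] (L : Set ℕ) (n : ℕ) :
    EtAcyc.IsAcyclicN f L n := by
  intro V F _ _
  haveI : IsIso (EtAcyc.prj f V) := inferInstance
  exact ⟨fun q _ => EtAcycX.Hpull_bijective_of_isIso (EtAcyc.prj f V) F q,
    (EtAcycX.Hpull_bijective_of_isIso (EtAcyc.prj f V) F (n + 1)).1⟩

/-- isomorphisms do not change `n`-acyclicity -/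
theorem isAcyclicN_iso_sandwich {A B C D : Scheme.{u}} (a : A ⟶ B) (b : B ⟶ C) (c : C ⟶ D) [IsIso a] [IsIso c]
    {L : Set ℕ} {n : ℕ} (h : EtAcyc.IsAcyclicN b L n) : EtAcyc.IsAcyclicN (a ≫ b ≫ c) L n :=
  (EtAcycX.isAcyclicN_comp_iff a (b ≫ c) (isAcyclicN_of_isIso a L n)).1
    ((EtAcycX.isAcyclicN_comp_iff b c h).1 (isAcyclicN_of_isIso c L n))

/-- strict localisations of weakly étale maps are isomorphisms -/
theorem onStrict_weaklyEtale {X Y : Scheme.{u}} (e : X ⟶ Y) [WeaklyEtale e]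
    (P : ∀ ⦃X' Y' : Scheme.{u}⦄, (X' ⟶ Y') → Prop) (hP : ∀ ⦃A B : Scheme.{u}⦄ (f : A ⟶ B), IsIso f → P f) :
    EtAcyc.OnStrictLocalizations e P := by
  refine EtAcycX.onStrict_of_weaklyEtale (g := 𝟙 Y) e (𝟙 Y) rfl fun x RY RX _ _ _ _ _ _ _ _ _ _ _ _ hc => hP _ ?_
  let QX : SH Y x := { R := RX }
  let QY : SH Y ((𝟙 Y : Y ⟶ Y).base x) := { R := RY }
  let QY' : SH Y x := QY
  let ψ : QY'.R →+* QX.R := algebraMap RY RX
  haveI : IsLocalHom ψ := ‹IsLocalHom (algebraMap RY RX)›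
  have hb := bijective_SH_hom QY' QX ψ ((EtAcycX.spec_of_comp_alg (𝟙 Y) QY QX _ hc).trans (Category.comp_id _))
  haveI : IsIso (CommRingCat.ofHom (algebraMap RY RX)) := (ConcreteCategory.isIso_iff_bijective _).2 hb
  infer_instance

theorem isLocAcyclicN_weaklyEtale {X Y : Scheme.{u}} (e : X ⟶ Y) [WeaklyEtale e] (L : Set ℕ) (n : ℕ) :
    EtAcyc.IsLocAcyclicN e L n :=
  onStrict_weaklyEtale e _ fun _ _ f _ => isAcyclicN_of_isIso f L n

/-- properties of strict localisations can be checked on weakly étale neighbourhoods -/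
theorem onStrict_at {X' Y' X Y : Scheme.{u}} {g' : X' ⟶ Y'} {g : X ⟶ Y} (eX : X' ⟶ X) (eY : Y' ⟶ Y)
    [WeaklyEtale eX] [WeaklyEtale eY] (w : eX ≫ g = g' ≫ eY)
    {P : ∀ ⦃X' Y' : Scheme.{u}⦄, (X' ⟶ Y') → Prop}
    (hP : ∀ ⦃A B C D : Scheme.{u}⦄ (a : A ⟶ B) (b : B ⟶ C) (c : C ⟶ D), IsIso a → IsIso c → P b → P (a ≫ b ≫ c))
    (hg' : EtAcyc.OnStrictLocalizations g' P) {x' : X'} {x : X} (hx : eX x' = x) (QY : SH Y (g.base x)) (QX : SH X x)
    (φ : QY.R →+* QX.R) [IsLocalHom φ] (hφ : Spec.map (CommRingCat.ofHom φ) ≫ QY.spec = QX.spec ≫ g) :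
    P (Spec.map (CommRingCat.ofHom φ)) := by
  subst hx
  let Q' := mkSH X' x'
  obtain ⟨lam, hlam, hlams⟩ := exists_strict_hom QX (B := Q'.R) (Q'.spec ≫ eX)
    (by rw [Scheme.Hom.comp_apply, Q'.spec_closed])
  haveI := hlam
  obtain ⟨aX, lX, sX, hX⟩ := EtAcycX.exists_push_SH eX Q'
  let PX : SH X (eX x') := { R := Q'.R, alg := aX, lh := lX, sh := sX }
  have hb : Function.Bijective lam := bijective_SH_hom QX PX lam (hlams.trans hX.symm)
  let QY' := mkSH Y' (g'.base x')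
  obtain ⟨φ', hφ'l, hφ'⟩ := exists_strict_hom QY' (B := Q'.R) (Q'.spec ≫ g')
    (by rw [Scheme.Hom.comp_apply, Q'.spec_closed])
  haveI := hφ'l
  obtain ⟨θ, ⟨hθs, hθc⟩, -⟩ := existsUnique_strict QY (B := QY'.R) (C := Q'.R) (QY'.spec ≫ eY) (lam.comp φ) φ'
    (((Category.assoc _ _ _).symm.trans (congrArg (· ≫ eY) hφ')).trans ((Category.assoc _ _ _).trans
      ((congrArg (Q'.spec ≫ ·) w.symm).trans (((Category.assoc _ _ _).symm.trans (congrArg (· ≫ g) hlams.symm)).trans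
        ((Category.assoc _ _ _).trans ((congrArg (Spec.map _ ≫ ·) hφ.symm).trans
          ((Category.assoc _ _ _).symm.trans (congrArg (· ≫ QY.spec) (Spec.map_comp _ _).symm))))))))
  haveI : IsLocalHom θ := by
    haveI : IsLocalHom (φ'.comp θ) := hθc ▸ RingHom.isLocalHom_comp lam φ
    exact isLocalHom_of_comp θ φ'
  have hxy : eY (g'.base x') = g.base (eX x') := by
    rw [← Scheme.Hom.comp_apply, ← w, Scheme.Hom.comp_apply]
  have hθb : Function.Bijective θ := by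
    refine ⟨?_, ?_⟩ <;>
    · obtain ⟨aY, lY, sY, hY⟩ := EtAcycX.exists_push_SH eY QY'
      revert hθs
      revert θ
      revert φ
      revert QY
      rw [← hxy]
      intro QY φ _ _ θ _ _ hθs
      let PY : SH Y (eY (g'.base x')) := { R := QY'.R, alg := aY, lh := lY, sh := sY }
      have h := bijective_SH_hom QY PY θ (hθs.trans hY.symm)
      first | exact h.1 | exact h.2
  have h1 := EtAcycX.apply_onStrict hg' QY' Q' φ' hφ'
  haveI : IsIso (CommRingCat.ofHom lam) := (ConcreteCategory.isIso_iff_bijective _).2 hb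
  haveI : IsIso (CommRingCat.ofHom θ) := (ConcreteCategory.isIso_iff_bijective _).2 hθb
  have h2 := hP (inv (Spec.map (CommRingCat.ofHom lam))) _ (Spec.map (CommRingCat.ofHom θ)) inferInstance inferInstance h1
  rw [← Spec.map_comp, ← CommRingCat.ofHom_comp, hθc, CommRingCat.ofHom_comp, Spec.map_comp,
    IsIso.inv_hom_id_assoc] at h2
  exact h2

variable {P : ∀ ⦃X' Y' : Scheme.{u}⦄, (X' ⟶ Y') → Prop}

/-- composition -/
theorem onStrict_comp {X Y Z : Scheme.{u}} (g : X ⟶ Y) (h : Y ⟶ Z)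
    (hP : ∀ ⦃A B C : Scheme.{u}⦄ (a : A ⟶ B) (b : B ⟶ C), P a → P b → P (a ≫ b))
    (hg : EtAcyc.OnStrictLocalizations g P) (hh : EtAcyc.OnStrictLocalizations h P) :
    EtAcyc.OnStrictLocalizations (g ≫ h) P := by
  intro x RZ RX _ _ _ _ _ _ _ _ _ _ _ _ hc
  let QX : SH X x := { R := RX }
  let QZ : SH Z ((g ≫ h).base x) := { R := RZ }
  let φ : QZ.R →+* QX.R := algebraMap RZ RX
  haveI : IsLocalHom φ := ‹IsLocalHom (algebraMap RZ RX)›
  haveI : HenselianLocalRing QX.R := QX.sh.henselian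
  haveI : IsSepClosed (ResidueField QX.R) := QX.sh.isSepClosure.1
  have hφ := EtAcycX.spec_of_comp_alg (g ≫ h) QZ QX φ hc
  let QY := mkSH Y (g.base x)
  obtain ⟨ψ, hψ, hψs⟩ := exists_strict_hom QY (B := QX.R) (QX.spec ≫ g)
    (by rw [Scheme.Hom.comp_apply, QX.spec_closed])
  obtain ⟨θ, ⟨hθs, hθc⟩, -⟩ := existsUnique_strict QZ (B := QY.R) (QY.spec ≫ h) φ ψ
    (by rw [← Category.assoc, hψs, hφ, Category.assoc])
  haveI : IsLocalHom θ := by
    haveI : IsLocalHom (ψ.comp θ) := hθc ▸ ‹IsLocalHom φ›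
    exact isLocalHom_of_comp θ ψ
  have h₃ := hP _ _ (EtAcycX.apply_onStrict hg QY QX ψ hψs)
    (EtAcycX.apply_onStrict (f := h) hh (x := g.base x) QZ QY θ hθs)
  rw [← Spec.map_comp, ← CommRingCat.ofHom_comp, hθc] at h₃
  exact h₃

theorem isLocAcyclicN_comp {X Y Z : Scheme.{u}} (g : X ⟶ Y) (h : Y ⟶ Z) {L : Set ℕ} {n : ℕ}
    (hg : EtAcyc.IsLocAcyclicN g L n) (hh : EtAcyc.IsLocAcyclicN h L n) : EtAcyc.IsLocAcyclicN (g ≫ h) L n :=
  onStrict_comp g h (fun _ _ _ a b ha hb => (EtAcycX.isAcyclicN_comp_iff a b ha).1 hb) hg hh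

end Groth.Agent.LAcyc
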