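import Groth.Agent.LAcyc.AffineLine
import Groth.Agent.LAcyc.Local

/-!
# Smooth morphisms are locally acyclic for the invertible primes
-/

set_option autoImplicit false
set_option backward.isDefEq.respectTransparency false
set_option backward.isDefEq.respectTransparency.types false
set_option linter.style.haveILetI false
set_option maxHeartbeats 1000000
set_option synthInstance.maxHeartbeats 400000

universe u

open CategoryTheory CategoryTheory.Limits AlgebraicGeometry Opposite IsLocalRing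
open scoped TensorProduct

noncomputable section

namespace Groth.Agent.LAcyc

open EtBCQ (SH mkSH exists_strict_hom existsUnique_strict)

/-- **affine space over a base on which `ℓ` is invertible is locally acyclic** -/
theorem isLocAcyclicN_mvPolynomial (A : Type u) [CommRing A] {ℓ : ℕ} (hp : ℓ.Prime) (hℓ : IsUnit (ℓ : A)) (n : ℕ) :
    ∀ d : ℕ, EtAcyc.IsLocAcyclicN (Spec.map (CommRingCat.ofHom
      (MvPolynomial.C : A →+* MvPolynomial (Fin d) A))) {ℓ} n := by
  intro d
  induction d with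
  | zero =>
    haveI : IsIso (CommRingCat.ofHom (MvPolynomial.C : A →+* MvPolynomial (Fin 0) A)) :=
      (ConcreteCategory.isIso_iff_bijective _).2 ⟨MvPolynomial.C_injective _ _, MvPolynomial.C_surjective (Fin 0)⟩
    exact isLocAcyclicN_weaklyEtale _ _ _
  | succ d ih =>
    let M := MvPolynomial (Fin d) A
    let e := (MvPolynomial.finSuccEquiv A d).toRingEquiv
    haveI : IsIso (Spec.map (CommRingCat.ofHom e.symm.toRingHom)) := by
      haveI : IsIso (CommRingCat.ofHom e.symm.toRingHom) := (ConcreteCategory.isIso_iff_bijective _).2 e.symm.bijective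
      infer_instance
    have h1 := isLocAcyclicN_comp (lineStr M) _
      (isLocAcyclicN_lineStr M hp (by simpa using hℓ.map (MvPolynomial.C : A →+* M)) n) ih
    have h2 := isLocAcyclicN_comp (Spec.map (CommRingCat.ofHom e.symm.toRingHom)) _
      (isLocAcyclicN_weaklyEtale _ {ℓ} n) h1
    have he : (e.symm.toRingHom.comp (Polynomial.C : M →+* Polynomial M)).comp (MvPolynomial.C : A →+* M) =
        MvPolynomial.C := by
      refine RingHom.ext fun a => ?_
      show (MvPolynomial.finSuccEquiv A d).symm (Polynomial.C (MvPolynomial.C a)) = MvPolynomial.C a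
      rw [AlgEquiv.symm_apply_eq]
      simp [MvPolynomial.finSuccEquiv_apply]
    rw [lineStr, ← Spec.map_comp, ← Spec.map_comp, ← CommRingCat.ofHom_comp, ← CommRingCat.ofHom_comp] at h2
    rw [RingHom.comp_assoc] at he
    rw [he] at h2
    exact h2

/-- smooth morphisms are locally acyclic at the points where `ℓ` is invertible -/
theorem isAcyclicN_strict_smooth {X Y : Scheme.{u}} (g : X ⟶ Y) [Smooth g] {ℓ : ℕ} (hp : ℓ.Prime) (n : ℕ)
    {x : X} (hℓ : (ℓ : X.residueField x) ≠ 0) (QY : SH Y (g.base x)) (QX : SH X x) (φ : QY.R →+* QX.R) [IsLocalHom φ]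
    (hφ : Spec.map (CommRingCat.ofHom φ) ≫ QY.spec = QX.spec ≫ g) :
    EtAcyc.IsAcyclicN (Spec.map (CommRingCat.ofHom φ)) {ℓ} n := by
  obtain ⟨W, hW, hxW, -⟩ := exists_isAffineOpen_mem_and_subset (x := g.base x) (U := ⊤) trivial
  let D := Y.basicOpen ((ℓ : Γ(Y, W)))
  have hxD : g.base x ∈ D := by
    refine (Y.mem_basicOpen _ _ hxW).2 ?_
    rw [map_natCast]
    by_contra h
    refine hℓ ?_
    have h1 : (Y.residue (g.base x)).hom ((ℓ : Y.presheaf.stalk (g.base x))) = 0 :=
      (residue_eq_zero_iff _).2 ((mem_maximalIdeal _).2 h)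
    rw [map_natCast] at h1
    rw [← map_natCast (g.residueFieldMap x).hom, h1, map_zero]
  haveI : Smooth (g ∣_ D) := IsZariskiLocalAtTarget.restrict ‹Smooth g› D
  let x₀ : ↥(g ⁻¹ᵁ D) := ⟨x, hxD⟩
  obtain ⟨U, hU, V, hV, hx₀, e, hstd⟩ := Smooth.exists_isStandardSmooth (g ∣_ D) x₀
  have hℓU : IsUnit (ℓ : Γ(D.toScheme, U)) := by
    have h1 : IsUnit (ℓ : Γ(D.toScheme, ⊤)) := by
      have h0 := Y.toRingedSpace.isUnit_res_basicOpen ((ℓ : Γ(Y, W)))
      rw [map_natCast] at h0
      have h2 := (h0.map D.topIso.inv.hom)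
      rwa [map_natCast] at h2
    simpa using h1.map (D.toScheme.presheaf.map (homOfLE (le_top : U ≤ ⊤)).op).hom
  obtain ⟨d, γ, hγC, hγ⟩ := hstd.exists_etale_mvPolynomial
  have hγS : Etale (Spec.map (CommRingCat.ofHom γ)) := (HasRingHomProperty.Spec_iff (P := @Etale)).2 hγ
  haveI := hγS
  let g' := Spec.map ((g ∣_ D).appLE U V e)
  have hg' : EtAcyc.IsLocAcyclicN g' {ℓ} n := by
    have heq : g' = Spec.map (CommRingCat.ofHom γ) ≫ Spec.map (CommRingCat.ofHom
        (MvPolynomial.C : Γ(D.toScheme, U) →+* MvPolynomial (Fin d) Γ(D.toScheme, U))) := by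
      rw [← Spec.map_comp, ← CommRingCat.ofHom_comp, hγC]
      rfl
    rw [heq]
    exact isLocAcyclicN_comp _ _ (isLocAcyclicN_weaklyEtale _ _ _) (isLocAcyclicN_mvPolynomial _ hp hℓU n d)
  haveI : IsOpenImmersion (hV.fromSpec ≫ (g ⁻¹ᵁ D).ι) := inferInstance
  haveI : IsOpenImmersion (hU.fromSpec ≫ D.ι) := inferInstance
  refine onStrict_at (hV.fromSpec ≫ (g ⁻¹ᵁ D).ι) (hU.fromSpec ≫ D.ι) ?_
    (fun _ _ _ _ a b c _ _ h => isAcyclicN_iso_sandwich a b c h) hg'
    (x' := hV.primeIdealOf ⟨x₀, hx₀⟩) ?_ QY QX φ hφ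
  · rw [Category.assoc, ← morphismRestrict_ι, ← Category.assoc, ← Category.assoc,
      ← IsAffineOpen.SpecMap_appLE_fromSpec (g ∣_ D) hU hV e]
  · rw [Scheme.Hom.comp_apply, IsAffineOpen.fromSpec_primeIdealOf]
    rfl

/-- geometric fibres of strict localisations of smooth morphisms are connected -/
theorem connected_fibres_smooth {X Y : Scheme.{u}} (g : X ⟶ Y) [Smooth g] {x : X} {y : Y} (QY : SH Y y) (QX : SH X x)
    [Algebra QY.R QX.R] [IsLocalHom (algebraMap QY.R QX.R)]
    (hφ : Spec.map (CommRingCat.ofHom (algebraMap QY.R QX.R)) ≫ QY.spec = QX.spec ≫ g)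
    (Ω : Type u) [Field Ω] (γ : Spec (CommRingCat.of Ω) ⟶ Spec (CommRingCat.of QY.R)) :
    ConnectedSpace ↥(pullback (Spec.map (CommRingCat.ofHom (algebraMap QY.R QX.R))) γ) := by
  let f := Spec.map (CommRingCat.ofHom (algebraMap QY.R QX.R))
  let Ω' := AlgebraicClosure Ω
  let γ' := Spec.map (CommRingCat.ofHom (algebraMap Ω Ω')) ≫ γ
  letI : Algebra QY.R Ω' := (Spec.preimage γ').hom.toAlgebra
  haveI : Module.Flat QY.R QX.R := by
    obtain rfl : g x = y := by
      rw [← QX.spec_closed, ← Scheme.Hom.comp_apply, ← hφ, Scheme.Hom.comp_apply]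
      exact (congrArg QY.spec (IsLocalRing.comap_closedPoint (algebraMap QY.R QX.R))).trans QY.spec_closed
    rw [← RingHom.flat_algebraMap_iff]
    refine EtBCQ.flat_of_strict (g.stalkMap x).hom (Flat.stalkMap g x) (algebraMap (X.presheaf.stalk x) QX.R) ?_ _
      (EtBCQ.comp_alg_of_spec g QY QX _ hφ)
    haveI := Hensel.strictHenselization_faithfullyFlat (X.presheaf.stalk x) QX.R
    rw [RingHom.flat_algebraMap_iff]
    infer_instance
  haveI hc := EtShLib.connectedSpace_tensor_strict g QX QY hφ Ω'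
  let i : pullback f γ' ≅ Spec (CommRingCat.of (QX.R ⊗[QY.R] Ω')) :=
    pullback.congrHom rfl (Spec.map_preimage γ').symm ≪≫ pullbackSpecIso QY.R QX.R Ω'
  haveI : ConnectedSpace ↥(pullback f γ') := i.hom.homeomorph.connectedSpace_iff.mpr hc
  exact connected_of_extension f Ω Ω' γ

theorem onStrict_fibres_smooth {X Y : Scheme.{u}} (g : X ⟶ Y) [Smooth g] (n : ℕ) :
    EtAcyc.OnStrictLocalizations g (fun _ _ m => EtAcyc.GeomFibresAcyclicN (EtAcyc.primesInvertibleOn X) n m) := by
  intro x RY RX _ _ _ _ _ _ _ _ _ _ _ _ hc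
  let QX : SH X x := { R := RX }
  let QY : SH Y (g.base x) := { R := RY }
  have hsp := EtAcycX.spec_of_comp_alg g QY QX (algebraMap RY RX) hc
  intro y Ω _ _ _ _
  haveI := connected_fibres_smooth g QY QX hsp Ω (EtAcyc.geomPt _ y Ω)
  refine ⟨inferInstance, inferInstance, fun l hl hlX q hq hqn => ?_⟩
  have h1 := isAcyclicN_strict_smooth g hl n (hlX.2 x) QY QX (algebraMap RY RX) hsp
  exact (EtAcycX.geomFibresAcyclicN _ {l} ⟨l, rfl, hl⟩ n h1 y Ω).2.2 l hl rfl q hq hqn

/-- **smooth morphisms are locally acyclic** -/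
theorem isLocAcyclic_smooth {X Y : Scheme.{u}} (g : X ⟶ Y) [Smooth g] :
    EtAcyc.IsLocAcyclic g (EtAcyc.primesInvertibleOn X) := fun n =>
  EtAcycX.isLocAcyclicN_of_fibres g (onStrict_fibres_smooth g n)

end Groth.Agent.LAcyc
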