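import Groth.Agent.LAcyc.BaseChange
import Groth.Agent.GenULoc.Transfer

/-!
# Acyclicity of fibres descends along universal homeomorphisms of source and base
-/

set_option autoImplicit false
set_option backward.isDefEq.respectTransparency false
set_option backward.isDefEq.respectTransparency.types false
set_option linter.style.haveILetI false
set_option linter.unusedSectionVars false
set_option linter.overlappingInstances false
set_option maxHeartbeats 1000000
set_option synthInstance.maxHeartbeats 400000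

universe u

open CategoryTheory CategoryTheory.Limits AlgebraicGeometry Opposite IsLocalRing

noncomputable section

namespace Groth.Agent.LAcyc

attribute [local instance 100000] EtCoh.H._proof_1 Groth.Agent.EtMV.hext
attribute [local instance 200000] Groth.Agent.EtMV.hextAb

open EtBCQ (SH mkSH)

/-- acyclic schemes are stable under images by universal homeomorphisms -/
theorem isAcyclicSchemeN_of_univHomeo {W V : Scheme.{u}} (m : W ⟶ V) [IsIntegralHom m] [UniversallyInjective m]
    [Surjective m] {L : Set ℕ} {n : ℕ} (h : EtAcyc.IsAcyclicSchemeN L n W) : EtAcyc.IsAcyclicSchemeN L n V := by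
  obtain ⟨h1, h2, h3⟩ := h
  haveI := h2
  haveI hc : ConnectedSpace V := m.surjective.connectedSpace m.continuous
  refine ⟨hc.toNonempty, hc, fun ℓ hℓ hℓL q hq hqn => ?_⟩
  exact EtPBC.subsingleton_H_of_univHomeo m _ q
    (EtPBC.subsingleton_H_of_iso (EtCore.pullConst m (ZMod ℓ)).symm q (h3 ℓ hℓ hℓL q hq hqn))

/-- the map of fibre products over a universal homeomorphism is a universal homeomorphism -/
theorem univHomeo_fibres {A A' B B' W : Scheme.{u}} (vX : A' ⟶ A) [IsIntegralHom vX] [UniversallyInjective vX]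
    [Surjective vX] (vY : B' ⟶ B) [IsSeparated vY] [UniversallyInjective vY] (f : A ⟶ B) (f' : A' ⟶ B')
    (w : f' ≫ vY = vX ≫ f) (γ' : W ⟶ B') (γ : W ⟶ B) (hγ : γ' ≫ vY = γ) :
    ∃ m : pullback f' γ' ⟶ pullback f γ, IsIntegralHom m ∧ UniversallyInjective m ∧ Surjective m := by
  subst hγ
  let d := pullback.mapDesc f' γ' vY
  haveI : IsClosedImmersion d := inferInstance
  haveI : Surjective (pullback.diagonal vY) := (UniversallyInjective.iff_diagonal vY).1 ‹_›
  haveI : Surjective d := MorphismProperty.of_isPullback (P := @Surjective)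
    (pullback_map_diagonal_isPullback f' γ' vY) inferInstance
  let e : pullback vX (pullback.fst f (γ' ≫ vY)) ≅ pullback (f' ≫ vY) (γ' ≫ vY) :=
    pullbackRightPullbackFstIso f (γ' ≫ vY) vX ≪≫ pullback.congrHom w.symm rfl
  haveI : IsIntegralHom (pullback.snd vX (pullback.fst f (γ' ≫ vY))) := MorphismProperty.pullback_snd _ _ ‹_›
  haveI : UniversallyInjective (pullback.snd vX (pullback.fst f (γ' ≫ vY))) := MorphismProperty.pullback_snd _ _ ‹_›
  haveI : Surjective (pullback.snd vX (pullback.fst f (γ' ≫ vY))) := MorphismProperty.pullback_snd _ _ ‹_›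
  refine ⟨d ≫ e.inv ≫ pullback.snd vX (pullback.fst f (γ' ≫ vY)), inferInstance, ?_, inferInstance⟩
  exact MorphismProperty.comp_mem _ _ _ (inferInstanceAs (UniversallyInjective d))
    (MorphismProperty.comp_mem _ _ _ inferInstance inferInstance)

/-- algebraic geometric points lift along integral surjective morphisms as algebraic geometric points -/
theorem exists_algebraic_lift {A B : Scheme.{u}} (v : A ⟶ B) [IsIntegralHom v] [Surjective v] (y : B) (Ω : Type u)
    [Field Ω] [IsAlgClosed Ω] [Algebra (B.residueField y) Ω] [Algebra.IsAlgebraic (B.residueField y) Ω] :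
    ∃ (y' : A) (alg : Algebra (A.residueField y') Ω),
      letI := alg
      Algebra.IsAlgebraic (A.residueField y') Ω ∧ EtAcyc.geomPt A y' Ω ≫ v = EtAcyc.geomPt B y Ω := by
  obtain ⟨s', hs'⟩ := GenULoc.exists_geom_lift v (EtAcyc.geomPt B y Ω)
  let y' : A := s'.base (closedPoint Ω)
  letI alg : Algebra (A.residueField y') Ω := (A.descResidueField (Scheme.stalkClosedPointTo s')).hom.toAlgebra
  have h1 : EtAcyc.geomPt A y' Ω = s' :=
    Scheme.descResidueField_stalkClosedPointTo_fromSpecResidueField (f := s') ..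
  have h2 : EtAcyc.geomPt A y' Ω ≫ v = EtAcyc.geomPt B y Ω := by rw [h1]; exact hs'
  refine ⟨y', alg, ?_, h2⟩
  have hy : v.base y' = y := by
    show v.base (s'.base (closedPoint Ω)) = y
    rw [← Scheme.Hom.comp_apply, hs']
    exact (Scheme.Hom.comp_apply _ _ _).trans (Scheme.fromSpecResidueField_apply _ _)
  subst hy
  have h3 : (algebraMap (A.residueField y') Ω).comp (v.residueFieldMap y').hom =
      algebraMap (B.residueField (v.base y')) Ω := by
    have h : Spec.map (CommRingCat.ofHom ((algebraMap (A.residueField y') Ω).comp (v.residueFieldMap y').hom)) ≫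
        B.fromSpecResidueField (v.base y') = Spec.map (CommRingCat.ofHom (algebraMap (B.residueField (v.base y')) Ω)) ≫
        B.fromSpecResidueField (v.base y') := by
      refine Eq.trans ?_ h2
      rw [EtAcyc.geomPt, Category.assoc, ← v.SpecMap_residueFieldMap_fromSpecResidueField, ← Category.assoc,
        ← Spec.map_comp]
      rfl
    exact congrArg CommRingCat.Hom.hom (Spec.map_injective ((cancel_mono (B.fromSpecResidueField (v.base y'))).1 h))
  letI := (v.residueFieldMap y').hom.toAlgebra
  haveI : IsScalarTower (B.residueField (v.base y')) (A.residueField y') Ω := IsScalarTower.of_algebraMap_eq' h3.symm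
  exact Algebra.IsAlgebraic.tower_top (K := B.residueField (v.base y')) (A.residueField y')

variable {X S X' S' : Scheme.{u}} {g : X ⟶ S} {g' : X' ⟶ S'}

/-- **transfer** of acyclicity of fibres on strict localisations along universal homeomorphisms -/
theorem onStrict_fibres_transfer (i : X' ⟶ X) (v : S' ⟶ S) [IsIntegralHom i] [UniversallyInjective i] [Surjective i]
    [IsIntegralHom v] [UniversallyInjective v] [Surjective v] (w : i ≫ g = g' ≫ v) {L : Set ℕ} {n : ℕ}
    (hg' : EtAcyc.OnStrictLocalizations g' (fun _ _ m => EtAcyc.GeomFibresAcyclicN L n m)) :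
    EtAcyc.OnStrictLocalizations g (fun _ _ m => EtAcyc.GeomFibresAcyclicN L n m) := by
  intro x RY RX _ _ _ _ _ _ _ _ _ _ _ _ hc
  let QY : SH S (g.base x) := { R := RY }
  let QX : SH X x := { R := RX }
  let f : Spec (CommRingCat.of RX) ⟶ Spec (CommRingCat.of RY) := Spec.map (CommRingCat.ofHom (algebraMap RY RX))
  have hf : f ≫ QY.spec = QX.spec ≫ g := (EtBCQ.specOf_comp g x RY RX (algebraMap RY RX) hc).symm
  obtain ⟨x', hx'⟩ := i.surjective x
  let y' := g'.base x'
  have hy' : v y' = g.base x := by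
    rw [← hx', ← Scheme.Hom.comp_apply, ← w, Scheme.Hom.comp_apply]
  let QX' := mkSH X' x'
  let QY' := mkSH S' y'
  obtain ⟨eX, heX⟩ := GenULoc.exists_strict_iso i hx' QX QX'
  obtain ⟨eY, heY⟩ := GenULoc.exists_strict_iso v hy' QY QY'
  let vX : Spec (CommRingCat.of QX'.R) ⟶ Spec (CommRingCat.of RX) := eX.hom ≫ pullback.snd i QX.spec
  let vY : Spec (CommRingCat.of QY'.R) ⟶ Spec (CommRingCat.of RY) := eY.hom ≫ pullback.snd v QY.spec
  have hvX : vX ≫ QX.spec = QX'.spec ≫ i := by
    rw [← heX, Category.assoc, Category.assoc, pullback.condition]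
  haveI : IsIntegralHom vY := by
    haveI : IsIntegralHom (pullback.snd v QY.spec) := MorphismProperty.pullback_snd _ _ ‹_›
    infer_instance
  haveI : UniversallyInjective vY := by
    rw [MorphismProperty.cancel_left_of_respectsIso @UniversallyInjective]
    exact MorphismProperty.pullback_snd _ _ ‹_›
  haveI : Surjective vY := by
    haveI : Surjective (pullback.snd v QY.spec) := MorphismProperty.pullback_snd _ _ ‹_›
    infer_instance
  haveI : IsIntegralHom vX := by
    haveI : IsIntegralHom (pullback.snd i QX.spec) := MorphismProperty.pullback_snd _ _ ‹_›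
    infer_instance
  haveI : UniversallyInjective vX := by
    rw [MorphismProperty.cancel_left_of_respectsIso @UniversallyInjective]
    exact MorphismProperty.pullback_snd _ _ ‹_›
  haveI : Surjective vX := by
    haveI : Surjective (pullback.snd i QX.spec) := MorphismProperty.pullback_snd _ _ ‹_›
    infer_instance
  let f' : Spec (CommRingCat.of QX'.R) ⟶ Spec (CommRingCat.of QY'.R) :=
    pullback.lift (QX'.spec ≫ g') (vX ≫ f) (by
      calc (QX'.spec ≫ g') ≫ v = QX'.spec ≫ (i ≫ g) := (Category.assoc _ _ _).trans (congrArg (_ ≫ ·) w.symm)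
        _ = (vX ≫ QX.spec) ≫ g := (Category.assoc _ _ _).symm.trans (congrArg (· ≫ g) hvX.symm)
        _ = vX ≫ (f ≫ QY.spec) := (Category.assoc _ _ _).trans (congrArg (vX ≫ ·) hf.symm)
        _ = (vX ≫ f) ≫ QY.spec := (Category.assoc _ _ _).symm) ≫ eY.inv
  have hf'1 : f' ≫ QY'.spec = QX'.spec ≫ g' := by
    rw [← heY, Category.assoc, Iso.inv_hom_id_assoc, pullback.lift_fst]
  have hf'2 : f' ≫ vY = vX ≫ f := by
    rw [Category.assoc, Iso.inv_hom_id_assoc, pullback.lift_snd]
  obtain ⟨φ', hφ'⟩ := Spec.map_surjective f'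
  have hclosed : f' (closedPoint QX'.R) = closedPoint QY'.R := by
    apply vY.injective
    have hX : vX (closedPoint QX'.R) = closedPoint RX := GenULoc.closedPoint_of_isClosed (by
      rw [← Set.image_singleton]
      exact vX.isClosedMap _ (IsLocalRing.isClosed_singleton_closedPoint QX'.R))
    have hY : vY (closedPoint QY'.R) = closedPoint RY := GenULoc.closedPoint_of_isClosed (by
      rw [← Set.image_singleton]
      exact vY.isClosedMap _ (IsLocalRing.isClosed_singleton_closedPoint QY'.R))
    rw [← Scheme.Hom.comp_apply, hf'2, Scheme.Hom.comp_apply, hX, hY]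
    exact IsLocalRing.comap_closedPoint (algebraMap RY RX)
  haveI hl : IsLocalHom φ'.hom :=
    (IsLocalRing.local_hom_TFAE φ'.hom).out 4 0 |>.mp (by
      rw [← hφ'] at hclosed
      exact congrArg PrimeSpectrum.asIdeal hclosed)
  letI : Algebra QY'.R QX'.R := φ'.hom.toAlgebra
  haveI : IsLocalHom (algebraMap QY'.R QX'.R) := hl
  have hφ : Spec.map (CommRingCat.ofHom (algebraMap QY'.R QX'.R)) ≫ QY'.spec = QX'.spec ≫ g' := by
    rw [← hf'1, ← hφ']
    rfl
  haveI : IsLocalHom φ'.hom := hl
  have h' : EtAcyc.GeomFibresAcyclicN L n (Spec.map (CommRingCat.ofHom φ'.hom)) :=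
    EtAcycX.apply_onStrict' hg' rfl QY' QX' φ'.hom hφ
  have hsq : Spec.map (CommRingCat.ofHom φ'.hom) ≫ vY = vX ≫ f := by
    rw [CommRingCat.ofHom_hom, hφ', hf'2]
  intro y Ω _ _ _ _
  let Ω' := AlgebraicClosure Ω
  haveI : Algebra.IsAlgebraic ((Spec (CommRingCat.of RY)).residueField y) Ω' :=
    Algebra.IsAlgebraic.trans _ Ω Ω'
  obtain ⟨z, algz, halg, hz⟩ := exists_algebraic_lift vY y Ω'
  letI := algz
  haveI := halg
  obtain ⟨m, hm1, hm2, hm3⟩ := univHomeo_fibres vX vY f (Spec.map (CommRingCat.ofHom φ'.hom)) hsq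
    (EtAcyc.geomPt _ z Ω') (EtAcyc.geomPt _ y Ω') hz
  haveI := hm1
  haveI := hm2
  haveI := hm3
  obtain ⟨-, hc2, hc3⟩ := isAcyclicSchemeN_of_univHomeo m (h' z Ω')
  have hγ : EtAcyc.geomPt (Spec (CommRingCat.of RY)) y Ω' =
      Spec.map (CommRingCat.ofHom (algebraMap Ω Ω')) ≫ EtAcyc.geomPt (Spec (CommRingCat.of RY)) y Ω := by
    rw [EtAcyc.geomPt, EtAcyc.geomPt, ← Category.assoc, ← Spec.map_comp]
    rfl
  haveI : ConnectedSpace ↥(pullback f (Spec.map (CommRingCat.ofHom (algebraMap Ω Ω')) ≫
      EtAcyc.geomPt (Spec (CommRingCat.of RY)) y Ω)) :=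
    ((pullback.congrHom rfl hγ).hom.homeomorph.connectedSpace_iff).1 hc2
  haveI := connected_of_extension f Ω Ω' (EtAcyc.geomPt (Spec (CommRingCat.of RY)) y Ω)
  refine ⟨inferInstance, inferInstance, fun ℓ hℓ hℓL q hq hqn => ?_⟩
  haveI : IsPurelyInseparable Ω Ω' := inferInstance
  refine subsingleton_H_of_algClosure f Ω Ω' _ (ZMod ℓ) q ?_
  exact (subsingleton_H_const_iff (pullback.congrHom rfl hγ) (ZMod ℓ) q).1 (hc3 ℓ hℓ hℓL q hq hqn)

end Groth.Agent.LAcyc
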