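import Groth.Agent.LAcyc.A1Coh
import Groth.Agent.LAcyc.Smooth
import Groth.Agent.LAcyc.Transfer2
import Groth.Agent.EtAcycX.LocFib
import Groth.Agent.EtChart.Basic
import Mathlib

/-!
# Acyclicity of affine spaces
-/

set_option autoImplicit false
set_option backward.isDefEq.respectTransparency false
set_option backward.isDefEq.respectTransparency.types false
set_option linter.style.haveILetI false
set_option linter.unusedSectionVars false
set_option linter.overlappingInstances false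
set_option maxHeartbeats 1000000
set_option synthInstance.maxHeartbeats 400000

universe u

open CategoryTheory CategoryTheory.Limits AlgebraicGeometry Opposite IsLocalRing

noncomputable section

namespace Groth.Agent.LAcyc

attribute [local instance 100000] EtCoh.H._proof_1 Groth.Agent.EtMV.hext
attribute [local instance 200000] Groth.Agent.EtMV.hextAb

/-- acyclic schemes along isomorphisms -/
theorem isAcyclicSchemeN_of_iso {W V : Scheme.{u}} (e : W ≅ V) {L : Set ℕ} {n : ℕ}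
    (h : EtAcyc.IsAcyclicSchemeN L n W) : EtAcyc.IsAcyclicSchemeN L n V :=
  isAcyclicSchemeN_of_univHomeo e.hom h

/-- acyclicity of a geometric fibre may be checked after enlarging the field purely inseparably -/
theorem isAcyclicSchemeN_of_algClosure {T S : Scheme.{u}} (f : T ⟶ S) (Ω : Type u) [Field Ω] [IsSepClosed Ω]
    (γ : Spec (CommRingCat.of Ω) ⟶ S) {L : Set ℕ} {n : ℕ}
    (h : EtAcyc.IsAcyclicSchemeN L n
      (pullback f (Spec.map (CommRingCat.ofHom (algebraMap Ω (AlgebraicClosure Ω))) ≫ γ))) :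
    EtAcyc.IsAcyclicSchemeN L n (pullback f γ) := by
  let ρ := Spec.map (CommRingCat.ofHom (algebraMap Ω (AlgebraicClosure Ω)))
  haveI : UniversallyInjective ρ := EtAcycX.universallyInjective_specMap Ω (AlgebraicClosure Ω)
  haveI : IsIntegralHom ρ :=
    IsIntegralHom.SpecMap_iff.2 (algebraMap_isIntegral_iff.2 inferInstance)
  haveI : Surjective ρ := by
    refine ⟨fun y => ⟨default, ?_⟩⟩
    exact Subsingleton.elim _ _
  let m := pullback.map f (ρ ≫ γ) f γ (𝟙 _) ρ (𝟙 _) (by simp) (by simp [ρ])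
  have sq : IsPullback m (pullback.snd f (ρ ≫ γ)) (pullback.snd f γ) ρ := by
    refine IsPullback.of_right ?_ (by simp [m]) (IsPullback.of_hasPullback f γ)
    simpa [m] using IsPullback.of_hasPullback f (ρ ≫ γ)
  haveI : IsIntegralHom m := MorphismProperty.of_isPullback sq.flip inferInstance
  haveI : UniversallyInjective m := MorphismProperty.of_isPullback sq.flip inferInstance
  haveI : Surjective m := MorphismProperty.of_isPullback sq.flip inferInstance
  exact isAcyclicSchemeN_of_univHomeo m h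

/-- **the affine line is acyclic** -/
theorem isAcyclicSchemeN_A1 (k : Type u) [Field k] [IsAlgClosed k] {L : Set ℕ} (hL : ∀ ℓ ∈ L, (ℓ : k) ≠ 0) (n : ℕ) :
    EtAcyc.IsAcyclicSchemeN L n (Spec (CommRingCat.of (Polynomial k))) :=
  ⟨inferInstance, inferInstanceAs (ConnectedSpace (PrimeSpectrum (Polynomial k))),
    fun _ hℓ hℓL _ hq _ => subsingleton_H_A1 k hℓ (hL _ hℓL) hq⟩

/-- **the geometric fibres of the line are acyclic** -/
theorem geomFibres_line (A : Type u) [CommRing A] {L : Set ℕ} (hL : ∀ ℓ ∈ L, IsUnit (ℓ : A)) (n : ℕ) :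
    EtAcyc.GeomFibresAcyclicN L n (lineStr A) := by
  intro y Ω _ _ _ _
  refine isAcyclicSchemeN_of_algClosure _ Ω _ ?_
  obtain ⟨φ, hφ⟩ := Spec.map_surjective
    (Spec.map (CommRingCat.ofHom (algebraMap Ω (AlgebraicClosure Ω))) ≫ EtAcyc.geomPt _ y Ω)
  rw [← hφ]
  letI : Algebra A (AlgebraicClosure Ω) := φ.hom.toAlgebra
  refine isAcyclicSchemeN_of_iso
    ((isPullback_polyMap A (AlgebraicClosure Ω)).isoPullback ≪≫ pullback.congrHom rfl rfl) ?_
  exact isAcyclicSchemeN_A1 _ (fun ℓ hℓ => by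
    rw [← map_natCast (algebraMap A (AlgebraicClosure Ω))]
    exact ((hL ℓ hℓ).map _).ne_zero) n

/-- **the line has the comparison property** -/
theorem compN_line (A : Type u) [CommRing A] {L : Set ℕ} (hL : ∀ ℓ ∈ L, ℓ.Prime ∧ IsUnit (ℓ : A)) (n : ℕ) :
    EtAcyc.CompN (lineStr A) L n := by
  haveI := smooth_lineStr A
  haveI : IsAffineHom (lineStr A) := isAffineHom_of_isAffine _
  refine EtAcycX.compN_of_affine (lineStr A) (geomFibres_line A (fun ℓ h => (hL ℓ h).2) n) ?_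
  have hsub : L ⊆ EtAcyc.primesInvertibleOn (Spec (CommRingCat.of (Polynomial A))) := fun ℓ h =>
    ⟨(hL ℓ h).1, fun x h0 => by
      have h1 : IsUnit ((ℓ : ℕ) : Γ(Spec (CommRingCat.of (Polynomial A)), ⊤)) := by
        have := (((hL ℓ h).2.map (algebraMap A (Polynomial A))).map
          (Scheme.ΓSpecIso (CommRingCat.of (Polynomial A))).inv.hom)
        rwa [map_natCast, map_natCast] at this
      have h2 := h1.map (Scheme.evaluation _ ⊤ x trivial).hom
      rw [map_natCast, h0] at h2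
      exact not_isUnit_zero h2⟩
  intro x RY RX _ _ _ _ _ _ _ _ _ _ _ _ hc y Ω _ _ _ _
  obtain ⟨h1, h2, h3⟩ := onStrict_fibres_smooth (lineStr A) (n - 1) x RY RX hc y Ω
  exact ⟨h1, h2, fun l hl hlL => h3 l hl (hsub hlL)⟩

/-- **affine spaces are acyclic** -/
theorem isAcyclicSchemeN_affineSpace (k : Type u) [Field k] [IsAlgClosed k] {L : Set ℕ}
    (hL : ∀ ℓ ∈ L, ℓ.Prime ∧ (ℓ : k) ≠ 0) (n : ℕ) :
    ∀ m : ℕ, EtAcyc.IsAcyclicSchemeN L n (Spec (CommRingCat.of (MvPolynomial (Fin m) k)))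
  | 0 => by
    refine isAcyclicSchemeN_of_iso
      (Scheme.Spec.mapIso (MvPolynomial.isEmptyRingEquiv k (Fin 0)).toCommRingCatIso.op) ?_
    exact ⟨inferInstanceAs (Nonempty (PrimeSpectrum k)), inferInstanceAs (ConnectedSpace (PrimeSpectrum k)),
      fun ℓ _ _ q hq _ => EtPBC.subsingleton_H_sepClosed k _ q hq⟩
  | m + 1 => by
    refine isAcyclicSchemeN_of_iso
      (Scheme.Spec.mapIso (MvPolynomial.finSuccEquiv k m).toRingEquiv.toCommRingCatIso.op) ?_
    let B := MvPolynomial (Fin m) k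
    obtain ⟨h1, h2, h3⟩ := isAcyclicSchemeN_affineSpace k hL n m
    refine ⟨inferInstanceAs (Nonempty (PrimeSpectrum (Polynomial B))), inferInstanceAs (ConnectedSpace (PrimeSpectrum (Polynomial B))),
      fun ℓ hℓ hℓL q hq hqn => ?_⟩
    have hu : ∀ l ∈ L, l.Prime ∧ IsUnit (l : B) := fun l hl => ⟨(hL l hl).1, by
      rw [← map_natCast (algebraMap k B)]
      exact (isUnit_iff_ne_zero.2 (hL l hl).2).map _⟩
    haveI := EtCohDesc.pull_preservesFiniteLimits (lineStr B)
    have hF : EtAcyc.IsLTorsion L (EtCoh.const (Spec (CommRingCat.of B)) (ZMod ℓ)) := fun U t x => by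
      obtain ⟨V, g, j, hv, hj, h⟩ :=
        EtAcycX.isLTorsion_const_zmod (W := Spec (CommRingCat.of B)) hℓ.pos U t x
      exact ⟨V, g, j, hv, ⟨hj.1, fun p hp hpj => by
        rw [(Nat.prime_dvd_prime_iff_eq hp hℓ).1 (hj.2 p hp hpj).2]; exact hℓL⟩, h⟩
    have hb := (compN_line B hu n _ hF).1 q hqn
    haveI := h3 ℓ hℓ hℓL q hq hqn
    refine EtPBC.subsingleton_H_of_iso (EtCore.pullConst (lineStr B) (ZMod ℓ)) q ?_
    exact hb.2.subsingleton

/-- the geometric fibres of affine space are acyclic -/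
theorem geomFibres_affineSpace (Y : Scheme.{u}) (m : ℕ) (n : ℕ) :
    EtAcyc.GeomFibresAcyclicN (EtAcyc.primesInvertibleOn Y) n (𝔸(ULift.{u} (Fin m); Y) ↘ Y) := by
  intro y Ω _ _ _ _
  refine isAcyclicSchemeN_of_algClosure _ Ω _ ?_
  let K := AlgebraicClosure Ω
  let γ : Spec (CommRingCat.of K) ⟶ Y :=
    Spec.map (CommRingCat.ofHom (algebraMap Ω K)) ≫ EtAcyc.geomPt Y y Ω
  refine isAcyclicSchemeN_of_iso
    ((AffineSpace.SpecIso (ULift.{u} (Fin m)) (CommRingCat.of K) ≪≫
      Scheme.Spec.mapIso (MvPolynomial.renameEquiv K (Equiv.ulift.{u, 0} (α := Fin m))).symm.toRingEquiv.toCommRingCatIso.op).symm ≪≫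
        (AffineSpace.isPullback_map γ).isoPullback) ?_
  refine isAcyclicSchemeN_affineSpace K (fun ℓ (hℓ : ℓ ∈ EtAcyc.primesInvertibleOn Y) => ⟨hℓ.1, ?_⟩) n m
  rw [← map_natCast ((algebraMap Ω K).comp (algebraMap (Y.residueField y) Ω))]
  exact (map_ne_zero _).2 (hℓ.2 y)

/-- **affine space is acyclic** -/
theorem affineSpace_acyclic (Y : Scheme.{u}) (m : ℕ) (n : ℕ) (F : EtCoh.Ab Y)
    (hF : EtAcyc.IsLTorsion (EtAcyc.primesInvertibleOn Y) F) :
    IsIso ((EtCoh.pullPushAdj (𝔸(ULift.{u} (Fin m); Y) ↘ Y)).unit.app F) ∧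
      ∀ q : ℕ, 1 ≤ q → q ≤ n →
        IsZero ((EtCoh.Rpush (𝔸(ULift.{u} (Fin m); Y) ↘ Y) q).obj
          ((EtCoh.pull (𝔸(ULift.{u} (Fin m); Y) ↘ Y)).obj F)) := by
  haveI := EtChart.smooth_over (ULift.{u} (Fin m)) Y
  refine EtAcycX.acyclic_core _ (geomFibres_affineSpace Y m n) ?_ F hF
  intro x RY RX _ _ _ _ _ _ _ _ _ _ _ _ hc z Ω _ _ _ _
  obtain ⟨h1, h2, h3⟩ := onStrict_fibres_smooth (𝔸(ULift.{u} (Fin m); Y) ↘ Y) (n - 1) x RY RX hc z Ω
  exact ⟨h1, h2, fun l hl hlL => h3 l hl (primesInvertibleOn_subset (𝔸(ULift.{u} (Fin m); Y) ↘ Y) hlL)⟩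

end Groth.Agent.LAcyc
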