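import Groth.Agent.RDerLib.LES
import Mathlib

/-!
# Right derived functors of a composite on an object acyclic for the first functor
-/

set_option autoImplicit false
set_option linter.style.haveILetI false
set_option linter.unusedSectionVars false
set_option backward.isDefEq.respectTransparency false
set_option backward.isDefEq.respectTransparency.types false

universe v v' v'' u u' u''

open CategoryTheory CategoryTheory.Limits

noncomputable section

namespace Groth.Agent.LAcyc

variable {C : Type u} [Category.{v} C] [Abelian C] [HasInjectiveResolutions C] [EnoughInjectives C]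
  {A : Type u'} [Category.{v'} A] [Abelian A] [HasInjectiveResolutions A] [EnoughInjectives A]
  {B : Type u''} [Category.{v''} B] [Abelian B]

/-- the connecting map as a cokernel -/
theorem nonempty_cokernel_derived (T : C ⥤ B) [T.Additive] {S : ShortComplex C} (hS : S.ShortExact) (k : ℕ)
    (h : IsZero ((T.rightDerived (k + 1)).obj S.X₂)) :
    Nonempty ((T.rightDerived (k + 1)).obj S.X₁ ≅ cokernel ((T.rightDerived k).map S.g)) := by
  let R := RDerLib.derivedLES T
  haveI : Epi (R.δ S hS k (k + 1) rfl) := (R.exact₁ S hS k (k + 1) rfl).epi_f (h.eq_of_tgt _ _)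
  exact ⟨(R.exact₃ S hS k (k + 1) rfl).gIsCokernel.coconePointUniqueUpToIso (colimit.isColimit _)⟩

/-- the cokernel of a map with zero source -/
def cokernelZeroSource {X Y : B} (f : X ⟶ Y) (h : IsZero X) : cokernel f ≅ Y :=
  cokernelIsoOfEq (h.eq_of_src f 0) ≪≫ cokernelZeroIsoTarget

variable (G : C ⥤ A) [G.Additive] [G.PreservesInjectiveObjects] [PreservesFiniteLimits G]
  (S : A ⥤ B) [S.Additive] [PreservesFiniteLimits S]

/-- **composites of derived functors on acyclic objects** -/
theorem nonempty_rightDerived_comp_obj (n : ℕ) : ∀ M : C, (∀ b, b < n → IsZero ((G.rightDerived (b + 1)).obj M)) →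
    Nonempty (((G ⋙ S).rightDerived n).obj M ≅ (S.rightDerived n).obj (G.obj M)) := by
  induction n with
  | zero => exact fun M _ => ⟨(G ⋙ S).rightDerivedZeroIsoSelf.app M ≪≫ (S.rightDerivedZeroIsoSelf.app (G.obj M)).symm⟩
  | succ n ih =>
    intro M hM
    let E : ShortComplex C := ShortComplex.mk (Injective.ι M) (cokernel.π _) (cokernel.condition _)
    have hE : E.ShortExact := { exact := ShortComplex.exact_of_g_is_cokernel _ (cokernelIsCokernel _) }
    haveI : Injective E.X₂ := inferInstanceAs (Injective (Injective.under M))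
    haveI : Epi (G.map E.g) := by
      haveI : Epi ((G.rightDerived 0).map E.g) :=
        ((RDerLib.derivedLES G).exact₃ E hE 0 1 rfl).epi_f ((hM 0 n.succ_pos).eq_of_tgt _ _)
      have e : G.map E.g = G.rightDerivedZeroIsoSelf.inv.app _ ≫ (G.rightDerived 0).map E.g ≫
          G.rightDerivedZeroIsoSelf.hom.app _ := by
        rw [G.rightDerivedZeroIsoSelf.hom.naturality, Iso.inv_hom_id_app_assoc]
      rw [e]
      infer_instance
    haveI := hE.mono_f
    have hex := ShortComplex.exact_of_f_is_kernel (E.map G) (KernelFork.mapIsLimit _ hE.fIsKernel G)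
    haveI : Mono (E.map G).f := inferInstanceAs (Mono (G.map E.f))
    have hG : (E.map G).ShortExact :=
      { exact := hex, epi_g := inferInstanceAs (Epi (G.map E.g)) }
    obtain ⟨a⟩ := nonempty_cokernel_derived (G ⋙ S) hE n ((G ⋙ S).isZero_rightDerived_obj_injective_succ n _)
    haveI : Injective (E.map G).X₂ := inferInstanceAs (Injective (G.obj (Injective.under M)))
    obtain ⟨b⟩ := nonempty_cokernel_derived S hG n (S.isZero_rightDerived_obj_injective_succ n _)
    refine ⟨a ≪≫ ?_ ≪≫ b.symm⟩
    cases n with
    | zero =>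
      exact cokernel.mapIso _ _ ((G ⋙ S).rightDerivedZeroIsoSelf.app _ ≪≫ (S.rightDerivedZeroIsoSelf.app _).symm)
        ((G ⋙ S).rightDerivedZeroIsoSelf.app _ ≪≫ (S.rightDerivedZeroIsoSelf.app _).symm) (by
          simp only [Iso.trans_hom, Iso.app_hom, Iso.symm_hom, Iso.app_inv]
          rw [(G ⋙ S).rightDerivedZeroIsoSelf.hom.naturality_assoc, Category.assoc]
          exact congrArg _ (S.rightDerivedZeroIsoSelf.inv.naturality (G.map E.g)))
    | succ k =>
      have hC : ∀ b, b < k + 1 → IsZero ((G.rightDerived (b + 1)).obj E.X₃) := fun b hb => by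
        refine ShortComplex.Exact.isZero_of_both_zeros ((RDerLib.derivedLES G).exact₃ E hE (b + 1) (b + 2) rfl) ?_ ?_
        · exact (G.isZero_rightDerived_obj_injective_succ b E.X₂).eq_of_src _ _
        · exact (hM (b + 1) (by omega)).eq_of_tgt _ _
      exact cokernelZeroSource _ ((G ⋙ S).isZero_rightDerived_obj_injective_succ k _) ≪≫ (ih E.X₃ hC).some ≪≫
        (cokernelZeroSource _ (S.isZero_rightDerived_obj_injective_succ k _)).symm

end Groth.Agent.LAcyc
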