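import Groth.Agent.LAcyc.ConstStrict
import Groth.Agent.LAcyc.RpushEdge
import Groth.Agent.EtAcycX.GenPt
import Groth.Agent.EtPBC.NormalAlgClosed
import Groth.Agent.EtPBC.AllBC
import Groth.Agent.GrothSS.Ext
import Groth.Agent.EtMV.HofPush
import Groth.Agent.RatBlow.Base
import Mathlib

/-!
# Higher direct images over a normal strictly henselian base with separably closed function field
-/

set_option autoImplicit false
set_option backward.isDefEq.respectTransparency false
set_option backward.isDefEq.respectTransparency.types false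
set_option linter.style.haveILetI false
set_option linter.unusedSectionVars false
set_option linter.overlappingInstances false
set_option maxHeartbeats 1000000
set_option synthInstance.maxHeartbeats 400000

universe u

open CategoryTheory CategoryTheory.Limits AlgebraicGeometry Opposite IsLocalRing

noncomputable section

namespace Groth.Agent.LAcyc

open EtAcycX (constB)

attribute [local instance 100000] EtCoh.H._proof_1 Groth.Agent.EtMV.hext
attribute [local instance 200000] Groth.Agent.EtMV.hextAb

variable (R : Type u) [CommRing R] [HenselianLocalRing R] [IsSepClosed (ResidueField R)]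

/-- the map from the constant sheaf of global sections -/
def fromConst (G : EtCoh.Ab (Spec (CommRingCat.of R))) :
    constB (Spec (CommRingCat.of R)) ((EtCore.gsec (Spec (CommRingCat.of R))).obj G) ⟶ G :=
  (EtCore.constAdj (Spec (CommRingCat.of R))).counit.app G

theorem pt_default : (EtHens.pt R) (default : Spec (CommRingCat.of (ResidueField R))) = closedPoint R :=
  EtBCQ.Spec_closedPoint' (residue R) ▸ by
    rw [Subsingleton.elim (α := Spec (CommRingCat.of (ResidueField R))) default (closedPoint (ResidueField R))]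

theorem isIso_stalk_fromConst (G : EtCoh.Ab (Spec (CommRingCat.of R))) :
    IsIso ((EtCoh.stalk (EtHens.pt R)).map (fromConst R G)) := by
  let X := Spec (CommRingCat.of R)
  let M := (EtCore.gsec X).obj G
  have htop : Function.Bijective ((fromConst R G).hom.app (op (EtCoh.top X))) := by
    refine (Function.Bijective.of_comp_iff _ (EtAcycX.constTop_henselian R M)).1 ?_
    have e : (fun m => (fromConst R G).hom.app (op (EtCoh.top X)) (((EtCore.constAdj X).unit.app M).hom m)) = id :=
      funext fun m => ConcreteCategory.congr_hom ((EtCore.constAdj X).right_triangle_components G) m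
    exact (congrArg Function.Bijective e).mpr Function.bijective_id
  rw [ConcreteCategory.isIso_iff_bijective]
  refine (Function.Bijective.of_comp_iff _ (EtHens.bijective_germ R (constB X M))).1 ?_
  have e : (fun m => (EtCoh.stalk (EtHens.pt R)).map (fromConst R G)
      ((Scheme.pointSmallEtale (EtHens.pt R)).toPresheafFiber (EtCoh.top X) (EtHens.pt₀ R) (constB X M).obj m)) =
      fun m => (Scheme.pointSmallEtale (EtHens.pt R)).toPresheafFiber (EtCoh.top X) (EtHens.pt₀ R) G.obj
        ((fromConst R G).hom.app (op (EtCoh.top X)) m) := by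
    funext m
    exact GrothendieckTopology.Point.toPresheafFiber_naturality_apply
      (Scheme.pointSmallEtale (EtHens.pt R)) (fromConst R G).hom (EtCoh.top X) (EtHens.pt₀ R) m
  exact (congrArg Function.Bijective e).mpr ((EtHens.bijective_germ R G).comp htop)

theorem zeroAt_fromConst (G : EtCoh.Ab (Spec (CommRingCat.of R))) :
    EtPBC.ZeroAt (kernel (fromConst R G)) (closedPoint R) ∧
      EtPBC.ZeroAt (cokernel (fromConst R G)) (closedPoint R) :=
  ⟨(EtPBC.isZero_stalk_iff_zeroAt (pt_default R) _).1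
      ((EtCons.isIso_stalk_iff _ _).1 (isIso_stalk_fromConst R G)).1,
    (EtPBC.isZero_stalk_iff_zeroAt (pt_default R) _).1
      ((EtCons.isIso_stalk_iff _ _).1 (isIso_stalk_fromConst R G)).2⟩

theorem isIso_fromConst_of_zeroAt (G : EtCoh.Ab (Spec (CommRingCat.of R)))
    (h : ∀ y, EtPBC.ZeroAt (kernel (fromConst R G)) y ∧ EtPBC.ZeroAt (cokernel (fromConst R G)) y) :
    IsIso (fromConst R G) := by
  haveI := Preadditive.mono_of_kernel_zero ((EtPBC.isZero_of_zeroAt _ fun y => (h y).1).eq_of_src
    (kernel.ι (fromConst R G)) 0)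
  haveI := Preadditive.epi_of_cokernel_zero ((EtPBC.isZero_of_zeroAt _ fun y => (h y).2).eq_of_tgt
    (cokernel.π (fromConst R G)) 0)
  exact isIso_of_mono_of_epi _

/-- a sheaf which is constant after pulling back to strictly henselian spectra over every point is constant -/
theorem exists_iso_constB_of_pulls (G : EtCoh.Ab (Spec (CommRingCat.of R)))
    (h : ∀ y : Spec (CommRingCat.of R), ∃ (A : Type u) (_ : CommRing A) (_ : HenselianLocalRing A)
      (_ : IsSepClosed (ResidueField A)) (σ : Spec (CommRingCat.of A) ⟶ Spec (CommRingCat.of R))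
      (w : Spec (CommRingCat.of A)), σ (closedPoint A) = closedPoint R ∧ σ w = y ∧
        ∃ M, Nonempty ((EtCoh.pull σ).obj G ≅ constB (Spec (CommRingCat.of A)) M)) :
    ∃ M, Nonempty (G ≅ constB (Spec (CommRingCat.of R)) M) := by
  suffices hε : IsIso (fromConst R G) from ⟨_, ⟨(@asIso _ _ _ _ _ hε).symm⟩⟩
  refine isIso_fromConst_of_zeroAt R G fun y => ?_
  obtain ⟨A, _, _, _, σ, w, hσ, rfl, M, ⟨b⟩⟩ := h y
  haveI := EtCohDesc.pull_preservesFiniteLimits σ
  haveI : (EtCoh.pull σ).IsLeftAdjoint := (EtCoh.pullPushAdj σ).isLeftAdjoint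
  let P := EtCoh.pull σ
  let ψ := fromConst R G
  let ek := PreservesKernel.iso P ψ
  let ec := PreservesCokernel.iso P ψ
  have h0 : IsIso ((EtCoh.stalk (EtHens.pt A)).map (P.map ψ)) := by
    refine (EtCons.isIso_stalk_iff (P.map ψ) (EtHens.pt A)).2 ⟨?_, ?_⟩
    · refine (EtPBC.isZero_stalk_iff_zeroAt (pt_default A) _).2 (EtPBC.zeroAt_of_iso ek ?_)
      exact EtPBC.zeroAt_pull σ _ _ (by rw [hσ]; exact (zeroAt_fromConst R G).1)
    · refine (EtPBC.isZero_stalk_iff_zeroAt (pt_default A) _).2 (EtPBC.zeroAt_of_iso ec ?_)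
      exact EtPBC.zeroAt_pull σ _ _ (by rw [hσ]; exact (zeroAt_fromConst R G).2)
  haveI := isIso_of_constB A ((EtCore.pullConstIso σ).app _) b (P.map ψ) h0
  obtain ⟨Ω, _, _, ζ, hζ⟩ := EtPBC.exists_geomPt w
  have hζr : (ζ ≫ σ) (default : Spec (CommRingCat.of Ω)) = σ w := by
    rw [Scheme.Hom.comp_apply, hζ]
  exact ⟨(EtPBC.isZero_stalk_iff_zeroAt hζr _).1 (IsZero.of_iso
      (Functor.map_isZero (EtCoh.stalk ζ) ((isZero_kernel_of_mono (P.map ψ)).of_iso ek))
      ((EtStalk.stalkPullIso σ ζ).app _)),
    (EtPBC.isZero_stalk_iff_zeroAt hζr _).1 (IsZero.of_iso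
      (Functor.map_isZero (EtCoh.stalk ζ) ((isZero_cokernel_of_epi (P.map ψ)).of_iso ec))
      ((EtStalk.stalkPullIso σ ζ).app _))⟩

omit R in
/-- sheaves with finite stalk on a separably closed point are finite constant -/
theorem exists_iso_const_point (K : Type u) [Field K] [IsSepClosed K] (G : EtCoh.Ab (Spec (CommRingCat.of K)))
    [Finite (EtCoh.sect G (EtCoh.top (Spec (CommRingCat.of K))))] :
    ∃ (M : Type) (_ : AddCommGroup M) (_ : Finite M), Nonempty (G ≅ EtCoh.const (Spec (CommRingCat.of K)) M) := by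
  haveI : IsSepClosed (ResidueField K) := Hensel.isSepClosed_of_ringEquiv (RingEquiv.ofBijective (residue K)
    ⟨(residue K).injective, residue_surjective⟩)
  haveI : IsIso (fromConst K G) := isIso_fromConst_of_zeroAt K G fun y => by
    have hy : y = closedPoint K := Subsingleton.elim _ _
    subst hy
    exact zeroAt_fromConst K G
  let N := EtCoh.sect G (EtCoh.top (Spec (CommRingCat.of K)))
  let e : N ≃+ ULift.{u + 1} (Shrink.{0} N) := (Shrink.addEquiv.{0} (α := N)).symm.trans AddEquiv.ulift.symm
  exact ⟨Shrink.{0} N, inferInstance, inferInstance, ⟨(asIso (fromConst K G)).symm ≪≫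
    (constantSheaf _ AddCommGrpCat.{u + 1}).mapIso (AddEquiv.toAddCommGrpIso (X := (EtCore.gsec _).obj G)
      (Y := AddCommGrpCat.of (ULift.{u + 1} (Shrink.{0} N))) e)⟩⟩

omit R in
/-- the vanishing of the higher direct images along the generic fibre -/
theorem isZero_rpush_genericFibre {X Y : Scheme.{u}} [IsIntegral Y] (hY : Pi1.IsNormalScheme Y)
    [IsSepClosed (Y.residueField (genericPoint Y))] (f : X ⟶ Y) {L : Set ℕ} (hL : ∃ ℓ ∈ L, ℓ.Prime) {n : ℕ}
    (hf : EtAcyc.IsLocAcyclicN f L n) {F : EtCoh.Ab X} (hF : EtAcyc.IsLTorsion L F)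
    (hlc : EtRest.IsLocallyConstant F) [QuasiCompact (pullback.fst f (Y.fromSpecResidueField (genericPoint Y)))]
    [QuasiSeparated (pullback.fst f (Y.fromSpecResidueField (genericPoint Y)))]
    [PreservesFiniteLimits (EtCoh.pull (pullback.fst f (Y.fromSpecResidueField (genericPoint Y))))] :
    IsIso ((EtCoh.pullPushAdj (pullback.fst f (Y.fromSpecResidueField (genericPoint Y)))).unit.app F) ∧
    ∀ q, q < n → IsZero ((EtCoh.Rpush (pullback.fst f (Y.fromSpecResidueField (genericPoint Y))) (q + 1)).obj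
      ((EtCoh.pull (pullback.fst f (Y.fromSpecResidueField (genericPoint Y)))).obj F)) := by
  let h := pullback.fst f (Y.fromSpecResidueField (genericPoint Y))
  have hcov := fun x : X => EtAcycX.stalk_genericFibre hY f hL hf hF hlc x
  refine ⟨?_, fun q hq => ?_⟩
  · let e := (EtCoh.pullPushAdj h).unit.app F
    haveI : Presheaf.IsLocallyInjective X.smallEtaleTopology e.hom :=
      EtStalk.isLocallyInjective_of_covers _ hcov fun _ _ _ _ h' => ((ConcreteCategory.isIso_iff_bijective _).1 h'.1).1
    haveI : Sheaf.IsLocallySurjective e :=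
      EtStalk.isLocallySurjective_of_covers _ hcov fun _ _ _ _ h' => ((ConcreteCategory.isIso_iff_bijective _).1 h'.1).2
    haveI : Mono e := Sheaf.mono_of_isLocallyInjective e
    haveI : Epi e := Sheaf.epi_of_isLocallySurjective e
    exact isIso_of_mono_of_epi e
  · let Z := (EtCoh.Rpush h (q + 1)).obj ((EtCoh.pull h).obj F)
    haveI : Presheaf.IsLocallyInjective X.smallEtaleTopology (0 : Z ⟶ Z).hom :=
      EtStalk.isLocallyInjective_of_covers _ hcov fun _ _ _ _ hξ x y _ => (hξ.2 q hq).elim x y
    haveI : Mono (0 : Z ⟶ Z) := Sheaf.mono_of_isLocallyInjective _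
    exact IsZero.of_mono_zero Z Z

omit R in
theorem preservesFiniteLimits_push {X Y : Scheme.{u}} (g : X ⟶ Y) : PreservesFiniteLimits (EtCoh.push g) :=
  haveI : (EtCoh.push g).IsRightAdjoint := (EtCoh.pullPushAdj g).isRightAdjoint
  inferInstance

omit R in
/-- the square comparison: higher direct images as a push from the generic point -/
theorem nonempty_rpush_genericFibre {X Y : Scheme.{u}} [IsIntegral Y] (hY : Pi1.IsNormalScheme Y)
    [IsSepClosed (Y.residueField (genericPoint Y))] (f : X ⟶ Y) {L : Set ℕ} (hL : ∃ ℓ ∈ L, ℓ.Prime) {n : ℕ}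
    (hf : EtAcyc.IsLocAcyclicN f L n) {F : EtCoh.Ab X} (hF : EtAcyc.IsLTorsion L F)
    (hlc : EtRest.IsLocallyConstant F) [QuasiCompact (pullback.fst f (Y.fromSpecResidueField (genericPoint Y)))]
    [QuasiSeparated (pullback.fst f (Y.fromSpecResidueField (genericPoint Y)))] {q : ℕ} (hq : q ≤ n) :
    Nonempty ((EtCoh.Rpush f q).obj F ≅ (EtCoh.push (Y.fromSpecResidueField (genericPoint Y))).obj
      ((EtCoh.Rpush (pullback.snd f (Y.fromSpecResidueField (genericPoint Y))) q).obj
        ((EtCoh.pull (pullback.fst f (Y.fromSpecResidueField (genericPoint Y)))).obj F))) := by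
  let j := Y.fromSpecResidueField (genericPoint Y)
  let h := pullback.fst f j
  let e := pullback.snd f j
  haveI := EtCohDesc.pull_preservesFiniteLimits h
  haveI := preservesFiniteLimits_push h
  haveI := preservesFiniteLimits_push f
  haveI := preservesFiniteLimits_push j
  haveI := EtMV.push_preservesInjective h
  haveI := EtPBC.push_preservesEpi_sepClosed (L := Y.residueField (genericPoint Y)) j
  haveI := (EtCoh.push j).preservesHomology_of_preservesEpis_and_kernels
  haveI : PreservesFiniteColimits (EtCoh.push j) := (EtCoh.push j).preservesFiniteColimits_of_preservesHomology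
  obtain ⟨hu, hz⟩ := isZero_rpush_genericFibre hY f hL hf hF hlc
  let G := (EtCoh.pull h).obj F
  obtain ⟨a⟩ := nonempty_rightDerived_comp_obj (EtCoh.push h) (EtCoh.push f) q G fun b hb => hz b (by omega)
  obtain ⟨c⟩ := GrothSS.nonempty_rightDerived_comp_exact (EtCoh.push e) (EtCoh.push j) q G
  let k : EtCoh.push h ⋙ EtCoh.push f ≅ EtCoh.push e ⋙ EtCoh.push j :=
    EtCoh.pushComp f h ≪≫ EtCoh.pushCongr pullback.condition ≪≫ (EtCoh.pushComp j e).symm
  exact ⟨((EtCoh.push f).rightDerived q).mapIso (asIso ((EtCoh.pullPushAdj h).unit.app F)) ≪≫ a.symm ≪≫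
    (GrothSS.rightDerivedMapIso k q).app G ≪≫ c⟩

omit R in
/-- **constancy of higher direct images over a normal strictly henselian base with separably closed function field** -/
theorem exists_iso_constB_rpush (A : Type u) [CommRing A] [IsDomain A] [IsIntegrallyClosed A]
    [IsSepClosed ((Spec (CommRingCat.of A)).residueField (genericPoint ↥(Spec (CommRingCat.of A))))]
    {X : Scheme.{u}} (f : X ⟶ Spec (CommRingCat.of A)) [IsProper f] {L : Set ℕ} (hL : ∃ ℓ ∈ L, ℓ.Prime) {n : ℕ}
    (hf : EtAcyc.IsLocAcyclicN f L n) {F : EtCoh.Ab X} (hF : EtAcyc.IsLTorsion L F)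
    (hlc : EtRest.IsLocallyConstant F) {q : ℕ} (hq : q ≤ n)
    (hfin : ∀ (Ω : Type u) [Field Ω] [IsSepClosed Ω] (ξ : Spec (CommRingCat.of Ω) ⟶ Spec (CommRingCat.of A)),
      Finite ((EtCoh.stalk ξ).obj ((EtCoh.Rpush f q).obj F))) :
    ∃ M, Nonempty ((EtCoh.Rpush f q).obj F ≅ constB (Spec (CommRingCat.of A)) M) := by
  let Y := Spec (CommRingCat.of A)
  let j := Y.fromSpecResidueField (genericPoint Y)
  haveI : IsAffineHom j := isAffineHom_of_isAffine j
  haveI : IsAffineHom (pullback.fst f j) := MorphismProperty.pullback_fst _ _ ‹_›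
  haveI := EtCohDesc.pull_preservesFiniteLimits (pullback.fst f j)
  haveI := EtCohDesc.pull_preservesFiniteLimits j
  have hY : Pi1.IsNormalScheme Y := RatBlow.isNormal_spec (A := A)
  let K := Y.residueField (genericPoint Y)
  let G := (EtCoh.Rpush f q).obj F
  let G₀ := (EtCoh.Rpush (pullback.snd f j) q).obj ((EtCoh.pull (pullback.fst f j)).obj F)
  have hU : EtAcyc.IsLTorsion Set.univ F := fun U s x => by
    obtain ⟨V, g, m, hv, hm, h0⟩ := hF U s x
    exact ⟨V, g, m, hv, ⟨hm.1, fun _ _ _ => Set.mem_univ _⟩, h0⟩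
  haveI := EtPBC.isIso_bcQ_proper f j (pullback.snd f j) (pullback.fst f j) (IsPullback.of_hasPullback f j) F hU q
  let i₀ : (EtCoh.pull j).obj G ≅ G₀ := asIso (EtBC.bcQ f j (pullback.snd f j) (pullback.fst f j) pullback.condition q F)
  haveI : IsSepClosed (ResidueField K) := Hensel.isSepClosed_of_ringEquiv (RingEquiv.ofBijective (residue K)
    ⟨(residue K).injective, residue_surjective⟩)
  haveI : Finite (EtCoh.sect G₀ (EtCoh.top (Spec (CommRingCat.of K)))) := by
    haveI := hfin (ResidueField K) (EtHens.pt K ≫ j)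
    have hs : Finite ((EtCoh.stalk (EtHens.pt K)).obj G₀) := Finite.of_equiv _
      ((EtStalk.stalkPullIso j (EtHens.pt K)).app G ≪≫ (EtCoh.stalk (EtHens.pt K)).mapIso i₀).addCommGroupIsoToAddEquiv.toEquiv
    exact @Finite.of_injective _ ((EtCoh.stalk (EtHens.pt K)).obj G₀) hs _ (EtHens.bijective_germ K G₀).1
  obtain ⟨M, iM, fM, ⟨i⟩⟩ := exists_iso_const_point K G₀
  obtain ⟨a⟩ := nonempty_rpush_genericFibre hY f hL hf hF hlc hq
  have hgp : j (genericPoint (Spec (CommRingCat.of K))) = genericPoint Y := Scheme.fromSpecResidueField_apply _ _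
  haveI := EtMV.isIso_unit_const (M := M) (EtMV.irrNhd_of_normal fun y => (hY y).2) j hgp
  exact ⟨AddCommGrpCat.of (ULift.{u + 1} M), ⟨a ≪≫ (EtCoh.push j).mapIso (i ≪≫ (EtCore.pullConst j M).symm) ≪≫
    (asIso ((EtCoh.pullPushAdj j).unit.app (EtCoh.const Y M))).symm⟩⟩

end Groth.Agent.LAcyc
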