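import Groth.Agent.S0236
import Groth.Agent.EtPBC.AffineCurve
import Groth.Agent.EtPBC.CurveKummer
import Groth.Agent.EtPBC.CurveCount
import Groth.Agent.EtPBC.GmLoc
import Groth.Agent.DivDescMod.AffineOpen
import Groth.Agent.LAcyc.Line
import Mathlib

/-!
# Cohomology of the affine line over an algebraically closed field
-/

set_option autoImplicit false
set_option backward.isDefEq.respectTransparency false
set_option backward.isDefEq.respectTransparency.types false
set_option linter.style.haveILetI false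
set_option linter.unusedSectionVars false
set_option linter.overlappingInstances false
set_option maxHeartbeats 1000000
set_option synthInstance.maxHeartbeats 400000

universe u

open CategoryTheory CategoryTheory.Limits CategoryTheory.Abelian AlgebraicGeometry Opposite

noncomputable section

namespace Groth.Agent.LAcyc

attribute [local instance 100000] EtCoh.H._proof_1 Groth.Agent.EtMV.hext
attribute [local instance 200000] Groth.Agent.EtMV.hextAb

open EtPBC (gmVal gmVal_injective exists_gmVal gmVal_zero isUnit_gmVal KRoot kRootOf)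

theorem gmVal_add {X : Scheme.{u}} {W : X.Etale} (s t : EtCoh.sect (EtCoh.Gm X) W) :
    gmVal (s + t) = gmVal s * gmVal t := rfl

theorem gmVal_nsmul {X : Scheme.{u}} {W : X.Etale} (s : EtCoh.sect (EtCoh.Gm X) W) :
    ∀ n : ℕ, gmVal (n • s) = gmVal s ^ n
  | 0 => by rw [zero_smul, gmVal_zero, pow_zero]
  | n + 1 => by rw [succ_nsmul, gmVal_add, gmVal_nsmul s n, pow_succ]

/-- if the units and the Picard group are `n`-trivial, so is `H¹` of `ℤ/n` -/
theorem subsingleton_H_one_of_kummer {X : Scheme.{u}} {n : ℕ} (r : KRoot X n)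
    (hu : ∀ a : Γ(X, ⊤), IsUnit a → ∃ b : Γ(X, ⊤), IsUnit b ∧ b ^ n = a)
    (hPic : ∀ L : X.Modules, PicF.IsInvertible L → Nonempty (L ≅ Coh.structureModule X)) :
    Subsingleton (EtCoh.H X (EtCoh.const X (ZMod n)) 1) := by
  haveI := (Groth.Agent.S0236.result X).2 hPic
  refine subsingleton_of_forall_eq 0 fun x => ?_
  have hx : Ext.comp x (Ext.mk₀ r.seq.f) (add_zero 1) = 0 :=
    @Subsingleton.elim (EtCoh.H X (EtCoh.Gm X) 1) _ _ _
  obtain ⟨z, hz⟩ := Ext.covariant_sequence_exact₁ _ r.seq_shortExact x hx (n₀ := 0) rfl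
  obtain ⟨φ, rfl⟩ := (Ext.mk₀_bijective _ _).2 z
  obtain ⟨b, hb, hbn⟩ := hu (gmVal (EtMV.κ φ)) (isUnit_gmVal _)
  obtain ⟨s, hs⟩ := exists_gmVal (X := X) (W := EtCoh.top X) hb
  obtain ⟨ψ, rfl⟩ := (EtMV.κ_bijective _).2 s
  have e : φ = ψ ≫ EtCoh.powMap X n := by
    refine (EtMV.κ_bijective _).1 (gmVal_injective ?_)
    rw [EtMV.κ_comp]
    refine (hbn.symm.trans (congrArg (· ^ n) hs.symm)).trans ?_
    rw [← gmVal_nsmul]
    rfl
  rw [← hz, e, ← Ext.mk₀_comp_mk₀, Ext.comp_assoc _ _ _ (zero_add 0) (zero_add 1) (by omega)]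
  erw [r.seq_shortExact.comp_extClass]
  exact Ext.comp_zero _ _ _ _ _

/-- units of polynomial rings over algebraically closed fields are powers -/
theorem exists_pow_eq_unit (k : Type u) [Field k] [IsAlgClosed k] {n : ℕ} (hn : 1 ≤ n) (a : Polynomial k) (ha : IsUnit a) :
    ∃ b : Polynomial k, IsUnit b ∧ b ^ n = a := by
  obtain ⟨c, hc, rfl⟩ := Polynomial.isUnit_iff.1 ha
  obtain ⟨z, hz⟩ := IsAlgClosed.exists_pow_nat_eq c hn
  refine ⟨Polynomial.C z, Polynomial.isUnit_C.2 ?_, by rw [← Polynomial.C_pow, hz]⟩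
  exact isUnit_iff_ne_zero.2 fun h => hc.ne_zero (by rw [← hz, h, zero_pow (by omega)])

/-- **the affine line is acyclic** for coefficients of order prime to the characteristic -/
theorem subsingleton_H_A1 (k : Type u) [Field k] [IsAlgClosed k] {ℓ : ℕ} (hℓ : ℓ.Prime) (hℓk : (ℓ : k) ≠ 0)
    {q : ℕ} (hq : 1 ≤ q) :
    Subsingleton (EtCoh.H (Spec (CommRingCat.of (Polynomial k)))
      (EtCoh.const (Spec (CommRingCat.of (Polynomial k))) (ZMod ℓ)) q) := by
  let X := Spec (CommRingCat.of (Polynomial k))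
  let f : X ⟶ Spec (CommRingCat.of k) := Spec.map (CommRingCat.ofHom (algebraMap k (Polynomial k)))
  rcases Nat.lt_or_ge 1 q with h2 | h2
  · haveI : LocallyOfFiniteType f :=
      (HasRingHomProperty.Spec_iff (P := @LocallyOfFiniteType)).2 (RingHom.finiteType_algebraMap.2 inferInstance)
    refine EtPBC.cohDimLE_affine_curve (k := k) X f ?_ _ (isTorsion_const X hℓ.pos) q h2
    show topologicalKrullDim (PrimeSpectrum (Polynomial k)) ≤ 1
    rw [PrimeSpectrum.topologicalKrullDim_eq_ringKrullDim, Polynomial.ringKrullDim_of_isNoetherianRing,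
      ringKrullDim_eq_zero_of_field]
    rfl
  · obtain rfl : q = 1 := by omega
    refine subsingleton_H_one_of_kummer (kRootOf f hℓ.one_le hℓk) (fun a ha => ?_)
      fun L hL => DivDescMod.nonempty_trivial_of_openImmersion (𝟙 X) hL
    let e := (Scheme.ΓSpecIso (CommRingCat.of (Polynomial k))).commRingCatIsoToRingEquiv
    obtain ⟨b, hb, hbn⟩ := exists_pow_eq_unit k hℓ.one_le (e a) (ha.map e)
    exact ⟨e.symm b, hb.map e.symm, by rw [← map_pow, hbn, e.symm_apply_apply]⟩

end Groth.Agent.LAcyc
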