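import Groth.Agent.LAcyc.Transfer

/-!
# The affine line over a base on which `ℓ` is invertible is locally acyclic
-/

set_option autoImplicit false
set_option backward.isDefEq.respectTransparency false
set_option backward.isDefEq.respectTransparency.types false
set_option linter.style.haveILetI false
set_option maxHeartbeats 1000000
set_option synthInstance.maxHeartbeats 400000

universe u

open CategoryTheory CategoryTheory.Limits AlgebraicGeometry Opposite IsLocalRing
open scoped TensorProduct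

noncomputable section

namespace Groth.Agent.LAcyc

open EtBCQ (SH mkSH)

/-- the geometric fibres of the strict localisations of the affine line -/
theorem onStrict_fibres_lineStr (A : Type u) [CommRing A] {ℓ : ℕ} (hp : ℓ.Prime) (hℓ : IsUnit (ℓ : A)) (n : ℕ) :
    EtAcyc.OnStrictLocalizations (lineStr A) (fun _ _ m => EtAcyc.GeomFibresAcyclicN {ℓ} n m) := by
  haveI := Fact.mk hp
  intro x RY RX _ _ _ _ _ _ _ _ _ _ _ _ hc
  let QX : SH (Spec (CommRingCat.of (Polynomial A))) x := { R := RX }
  let QY : SH (Spec (CommRingCat.of A)) ((lineStr A).base x) := { R := RY }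
  haveI : HenselianLocalRing RY := QY.sh.henselian
  haveI : IsSepClosed (ResidueField RY) := QY.sh.isSepClosure.1
  have hsp := EtAcycX.spec_of_comp_alg (lineStr A) QY QX (algebraMap RY RX) hc
  let ρ : A →+* RY := (Spec.preimage QY.spec).hom
  letI : Algebra A RY := ρ.toAlgebra
  have hρ : Spec.map (CommRingCat.ofHom (algebraMap A RY)) = QY.spec := Spec.map_preimage _
  let eR := Spec.map (CommRingCat.ofHom (Polynomial.mapRingHom (algebraMap A RY)))
  have sq : IsPullback eR (lineStr RY) (lineStr A) QY.spec := hρ ▸ isPullback_polyMap A RY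
  haveI : WeaklyEtale QY.spec := EtAcycX.weaklyEtale_specOf _ RY
  haveI : WeaklyEtale eR := MorphismProperty.of_isPullback sq.flip inferInstance
  let v : Spec (CommRingCat.of RX) ⟶ Spec (CommRingCat.of (Polynomial RY)) :=
    sq.lift QX.spec (Spec.map (CommRingCat.ofHom (algebraMap RY RX))) hsp.symm
  obtain ⟨Q, lam, hlam⟩ := exists_SH_lift eR QX v (sq.lift_fst _ _ _)
  letI : Algebra RY Q.R := (lam.symm.toRingHom.comp (algebraMap RY RX)).toAlgebra
  haveI : IsLocalHom (algebraMap RY Q.R) := by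
    rw [RingHom.algebraMap_toAlgebra]
    haveI : IsLocalHom lam.symm.toRingHom := IsLocalHom.of_surjective _ lam.symm.surjective
    exact RingHom.isLocalHom_comp _ _
  have hline : v ≫ lineStr RY = Spec.map (CommRingCat.ofHom (algebraMap RY RX)) := sq.lift_snd _ _ _
  have hQ : Spec.map (CommRingCat.ofHom (algebraMap RY Q.R)) = Q.spec ≫ lineStr RY := by
    rw [RingHom.algebraMap_toAlgebra, CommRingCat.ofHom_comp, Spec.map_comp, ← hline, ← Category.assoc]
    refine congrArg (· ≫ lineStr RY) ((congrArg (Spec.map (CommRingCat.ofHom lam.symm.toRingHom) ≫ ·) hlam.symm).trans ?_)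
    dsimp only
    rw [← Category.assoc, ← Spec.map_comp, ← CommRingCat.ofHom_comp,
      show lam.symm.toRingHom.comp lam.toRingHom = RingHom.id _ from RingHom.ext fun z => lam.symm_apply_apply z,
      CommRingCat.ofHom_id, Spec.map_id, Category.id_comp]
  have hx₂ : lineStr RY (v (closedPoint RX)) = closedPoint RY := by
    rw [← Scheme.Hom.comp_apply, hline]
    exact IsLocalRing.comap_closedPoint (algebraMap RY RX)
  let eQ : Q.R ≃ₐ[RY] RX := AlgEquiv.ofRingEquiv (f := lam) fun a => lam.apply_symm_apply _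
  have hℓR : (ℓ : ResidueField RY) ≠ 0 := by
    have h := (hℓ.map (algebraMap A RY)).map (residue RY)
    rw [map_natCast, map_natCast] at h
    exact h.ne_zero
  intro y Ω _ _ _ _
  let S := Spec (CommRingCat.of RY)
  let f := Spec.map (CommRingCat.ofHom (algebraMap RY RX))
  let Ω' := AlgebraicClosure Ω
  haveI : Algebra.IsAlgebraic (S.residueField y) Ω' := Algebra.IsAlgebraic.trans (S.residueField y) Ω Ω'
  haveI : IsPurelyInseparable Ω Ω' := inferInstance
  let γ := EtAcyc.geomPt S y Ω
  let γ' := Spec.map (CommRingCat.ofHom (algebraMap Ω Ω')) ≫ γ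
  letI : Algebra RY Ω' := (Spec.preimage γ').hom.toAlgebra
  have hγ' : Spec.map (CommRingCat.ofHom (algebraMap RY Ω')) = γ' := Spec.map_preimage _
  have hgeo : γ' = EtAcyc.geomPt S y Ω' := by
    show _ ≫ _ ≫ _ = _ ≫ _
    rw [← Category.assoc, ← Spec.map_comp, ← CommRingCat.ofHom_comp, ← IsScalarTower.algebraMap_eq]
  have halg := halg_of_isAlgebraic RY y Ω' (hγ'.trans hgeo)
  obtain ⟨hconn, hH⟩ := line_acyclic RY Ω' hℓR halg hx₂ Q hQ
  let c : Q.R ⊗[RY] Ω' ≃+* RX ⊗[RY] Ω' := (Algebra.TensorProduct.congr eQ (AlgEquiv.refl : Ω' ≃ₐ[RY] Ω')).toRingEquiv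
  let i : pullback f γ' ≅ Spec (CommRingCat.of (Q.R ⊗[RY] Ω')) :=
    pullback.congrHom rfl hγ'.symm ≪≫ pullbackSpecIso RY RX Ω' ≪≫ Scheme.Spec.mapIso c.toCommRingCatIso.op
  haveI : ConnectedSpace ↥(pullback f γ') := i.hom.homeomorph.connectedSpace_iff.mpr hconn
  haveI := connected_of_extension f Ω Ω' γ
  refine ⟨inferInstance, inferInstance, fun l _ hl q hq _ => ?_⟩
  obtain rfl : l = ℓ := hl
  exact subsingleton_H_of_algClosure f Ω Ω' γ (ZMod l) q ((subsingleton_H_const_iff i (ZMod l) q).2 (hH q hq))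

theorem isLocAcyclicN_lineStr (A : Type u) [CommRing A] {ℓ : ℕ} (hp : ℓ.Prime) (hℓ : IsUnit (ℓ : A)) (n : ℕ) :
    EtAcyc.IsLocAcyclicN (lineStr A) {ℓ} n :=
  EtAcycX.isLocAcyclicN_of_fibres _ (onStrict_fibres_lineStr A hp hℓ n)

end Groth.Agent.LAcyc
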