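import Groth.Agent.EtAcycX.GenPt
import Groth.Agent.EtPBC.Via
import Groth.Agent.EtPBC.AllBC
import Groth.Agent.EtPBC.Skyscraper
import Groth.Agent.EtPBC.TopShriek
import Groth.Agent.EtStalk.Applications
import Groth.Agent.EtPushStalk.Lift
import Groth.Agent.BlowUpExist.Proper
import Groth.Agent.BlowUpLib.Basic
import Groth.Agent.LAcyc.BaseChange
import Groth.Agent.RedSepLib.Basic
import Groth.Prelude.Def_BlowUp2
import Mathlib

/-!
# The long exact sequence of a blow-up square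
-/

set_option autoImplicit false
set_option backward.isDefEq.respectTransparency false
set_option backward.isDefEq.respectTransparency.types false
set_option linter.style.haveILetI false
set_option linter.unusedSectionVars false
set_option linter.overlappingInstances false
set_option maxHeartbeats 1000000
set_option synthInstance.maxHeartbeats 400000

universe u

open CategoryTheory CategoryTheory.Limits CategoryTheory.Abelian AlgebraicGeometry Opposite IsLocalRing

noncomputable section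

namespace Groth.Agent.LAcyc

attribute [local instance 100000] EtCoh.H._proof_1 Groth.Agent.EtMV.hext
attribute [local instance 200000] Groth.Agent.EtMV.hextAb

open EtBCQ (SH mkSH)

section Algebra

variable {A A₁ A' A₁' B B₁ B' B₁' C C₁ C' : Type*} [AddCommGroup A] [AddCommGroup A₁] [AddCommGroup A']
  [AddCommGroup A₁'] [AddCommGroup B] [AddCommGroup B₁] [AddCommGroup B'] [AddCommGroup B₁'] [AddCommGroup C]
  [AddCommGroup C₁] [AddCommGroup C'] {f : A →+ B} {g : B →+ C} {d : C →+ A₁} {f₁ : A₁ →+ B₁} {g₁ : B₁ →+ C₁}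
  {f' : A' →+ B'} {g' : B' →+ C'} {d' : C' →+ A₁'} {f₁' : A₁' →+ B₁'} {α : A →+ A'} {β : B →+ B'} {γ : C →+ C'}
  {α₁ : A₁ →+ A₁'} {β₁ : B₁ →+ B₁'}

/-- exactness at the sum of a ladder with bijective third maps -/
theorem ladder_exact_sum (hα : Function.Surjective α) (hα₁ : Function.Injective α₁) (hgd : Function.Exact g d)
    (hfg : ∀ a, g (f a) = 0) (hfg' : Function.Exact f' g') (hgd' : ∀ b, d' (g' b) = 0)
    (hf : ∀ a, β (f a) = f' (α a)) (hg : ∀ b, γ (g b) = g' (β b)) (hd : ∀ c, d' (γ c) = α₁ (d c)) :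
    Function.Exact (fun b => (β b, g b)) (fun uv : B' × C => g' uv.1 - γ uv.2) := by
  rintro ⟨b', c⟩
  constructor
  · intro h
    have h' : g' b' = γ c := sub_eq_zero.1 h
    have hdc : d c = 0 := hα₁ (by rw [← hd, ← h', hgd', map_zero])
    obtain ⟨b₀, rfl⟩ := (hgd c).1 hdc
    obtain ⟨a', ha'⟩ := (hfg' (b' - β b₀)).1 (by rw [map_sub, h', hg, sub_self])
    obtain ⟨a, rfl⟩ := hα a'
    exact ⟨b₀ + f a, Prod.ext (by simp only [map_add, hf, ha', add_sub_cancel]) (by
      simp only [map_add, hfg, add_zero])⟩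
  · rintro ⟨b, h⟩
    simp only [Prod.mk.injEq] at h
    obtain ⟨rfl, rfl⟩ := h
    show g' (β b) - γ (g b) = 0
    rw [hg, sub_self]

/-- exactness at the corner of a ladder with bijective third maps -/
theorem ladder_exact_corner (hα₁ : Function.Bijective α₁) (hdf : Function.Exact d f₁) (hg'd : Function.Exact g' d')
    (hd : ∀ c, d' (γ c) = α₁ (d c)) {δ : C' →+ B₁} (hδ : ∀ c, ∃ a, α₁ a = d' c ∧ δ c = f₁ a) :
    Function.Exact (fun uv : B' × C => g' uv.1 - γ uv.2) δ := by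
  intro c'
  obtain ⟨a, ha, hδa⟩ := hδ c'
  constructor
  · intro h
    obtain ⟨c, rfl⟩ := (hdf a).1 (hδa.symm.trans h)
    obtain ⟨b', hb'⟩ := (hg'd (c' - γ c)).1 (by rw [map_sub, hd, ha, sub_self])
    exact ⟨(b', -c), by
      show g' b' - γ (-c) = c'
      rw [map_neg, sub_neg_eq_add, hb', sub_add_cancel]⟩
  · rintro ⟨⟨b', c⟩, h⟩
    have h' : g' b' - γ c = c' := h
    have hda : a = -(d c) := hα₁.1 (by
      rw [ha, ← h', map_sub, hd, (hg'd (g' b')).2 ⟨b', rfl⟩, map_neg, zero_sub])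
    rw [hδa, hda, map_neg, (hdf (d c)).2 ⟨c, rfl⟩, neg_zero]

/-- exactness after the corner of a ladder with bijective third maps -/
theorem ladder_exact_next (hα₁ : Function.Injective α₁) (hfg₁ : Function.Exact f₁ g₁) (hdf' : Function.Exact d' f₁')
    (hf₁ : ∀ a, β₁ (f₁ a) = f₁' (α₁ a)) {δ : C' →+ B₁} (hδ : ∀ c, ∃ a, α₁ a = d' c ∧ δ c = f₁ a) :
    Function.Exact δ (fun b => (β₁ b, g₁ b)) := by
  intro b
  constructor
  · intro h
    obtain ⟨a₁, rfl⟩ := (hfg₁ b).1 (congrArg Prod.snd h)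
    have h1 : f₁' (α₁ a₁) = 0 := by rw [← hf₁]; exact congrArg Prod.fst h
    obtain ⟨c', hc'⟩ := (hdf' _).1 h1
    obtain ⟨a, ha, hδa⟩ := hδ c'
    exact ⟨c', hδa.trans (congrArg f₁ (hα₁ (ha.trans hc')))⟩
  · rintro ⟨c', rfl⟩
    obtain ⟨a, ha, hδa⟩ := hδ c'
    show (β₁ (δ c'), g₁ (δ c')) = 0
    rw [hδa, hf₁, ha, (hdf' (d' c')).2 ⟨c', rfl⟩, (hfg₁ (f₁ a)).2 ⟨a, rfl⟩]
    rfl

end Algebra

/-- lifts through monomorphisms make the fibre trivial -/
theorem isIso_snd_of_lift {W X T : Scheme.{u}} (g : W ⟶ X) [Mono g] (ξ : T ⟶ X) (l : T ⟶ W) (hl : l ≫ g = ξ) :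
    IsIso (pullback.snd g ξ) := by
  refine ⟨pullback.lift l (𝟙 T) (by rw [hl, Category.id_comp]), ?_, pullback.lift_snd _ _ _⟩
  refine pullback.hom_ext ?_ ?_
  · rw [Category.assoc, pullback.lift_fst, Category.id_comp, ← cancel_mono g, Category.assoc, hl, pullback.condition]
  · rw [Category.assoc, pullback.lift_snd, Category.id_comp, Category.comp_id]

/-- **proper maps which are trivial on the support** -/
theorem bijective_Hpull_of_pointwise {W X : Scheme.{u}} (g : W ⟶ X) [IsProper g]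
    [PreservesFiniteLimits (EtCoh.pull g)] (G : EtCoh.Ab X) (hG : EtAcyc.IsLTorsion Set.univ G)
    (hx : ∀ x : X, EtPBC.ZeroAt G x ∨ ∀ (K : Type u) [Field K] (ξ : Spec (CommRingCat.of K) ⟶ X),
      ξ (closedPoint K) = x → IsIso (pullback.snd g ξ)) (q : ℕ) :
    Function.Bijective (EtCore.Hpull g G q) := by
  refine (EtAcycX.comp_of_covers g G q fun x => ?_).1 q le_rfl
  let Q := mkSH X x
  haveI : HenselianLocalRing Q.R := Q.sh.henselian
  haveI : IsSepClosed (ResidueField Q.R) := Q.sh.isSepClosure.1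
  let t := Hens2.specOf X x Q.R
  let a := pullback.fst g t
  let m := pullback.snd g t
  let r := Spec.map (CommRingCat.ofHom (residue Q.R))
  let iX := pullback.fst m r
  let cX := pullback.snd m r
  haveI := EtCohDesc.pull_preservesFiniteLimits m
  haveI := EtCohDesc.pull_preservesFiniteLimits r
  haveI := EtCohDesc.pull_preservesFiniteLimits iX
  haveI := EtCohDesc.pull_preservesFiniteLimits cX
  haveI := EtCohDesc.pull_preservesFiniteLimits (iX ≫ m)
  let G' := (EtCoh.pull t).obj G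
  have hG' : EtAcyc.IsLTorsion Set.univ G' := EtAcycX.isLTorsion_pull t hG
  have hξx : (r ≫ t) (closedPoint (ResidueField Q.R)) = x :=
    (congrArg (Hens2.geomPt X x Q.R) (Subsingleton.elim (α := Spec (CommRingCat.of (ResidueField Q.R))) _ _)).trans
      (EtBCQ.geomPt_apply x Q.R)
  refine ⟨ResidueField Q.R, inferInstance, inferInstance, Hens2.geomPt X x Q.R,
    EtAcycX.stalk_acyclic g G x Q.R a m (IsPullback.of_hasPullback g t) (n := q) fun k _ => ?_,
    EtBCQ.geomPt_apply x Q.R⟩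
  refine (EtPBC.bijective_HpullVia_iff m t (a ≫ g) _ G k).2 ?_
  have hpt : Function.Bijective (EtCore.Hpull cX ((EtCoh.pull r).obj G') k) := by
    rcases hx x with h0 | hiso
    · refine bijective_Hpull_of_isZero cX (EtPBC.isZero_of_zeroAt _ fun w => ?_) k
      refine EtPBC.zeroAt_pull r _ _ (EtPBC.zeroAt_pull t _ _ ?_)
      have hw : w = closedPoint (ResidueField Q.R) :=
        Subsingleton.elim (α := Spec (CommRingCat.of (ResidueField Q.R))) _ _
      rw [hw, ← Scheme.Hom.comp_apply, hξx]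
      exact h0
    · haveI := hiso (ResidueField Q.R) (r ≫ t) hξx
      have sq := (IsPullback.of_hasPullback m r).paste_horiz (IsPullback.of_hasPullback g t)
      haveI : IsIso cX := by
        show IsIso (pullback.snd m r)
        rw [← sq.isoPullback_hom_snd]
        infer_instance
      exact EtAcycX.Hpull_bijective_of_isIso cX _ k
  haveI : IsProper m := MorphismProperty.pullback_snd _ _ ‹_›
  have hr : EtAcyc.CompN r Set.univ k :=
    EtPBC.pb_proper (𝟙 (Spec (CommRingCat.of Q.R))) Q.R (𝟙 _) (𝟙 _) (𝟙 _) IsPullback.of_id_fst r (𝟙 _)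
      (IsPullback.of_vert_isIso ⟨by simp [r]⟩) k
  have hi : EtAcyc.CompN iX Set.univ k :=
    EtPBC.pb_proper m Q.R (𝟙 _) (𝟙 _) m IsPullback.of_id_fst iX cX (IsPullback.of_hasPullback m r) k
  have e1 : ⇑(EtCore.Hpull (iX ≫ m) G' k) =
      ⇑(EtCore.HpullVia cX r (iX ≫ m) pullback.condition.symm G' k) ∘ ⇑(EtCore.Hpull r G' k) :=
    funext fun z => (EtAcycX.Hpull_HpullVia cX r (iX ≫ m) _ G' k z).symm
  have e2 : ⇑(EtCore.Hpull (iX ≫ m) G' k) =
      ⇑(EtCore.HpullVia iX m (iX ≫ m) rfl G' k) ∘ ⇑(EtCore.Hpull m G' k) :=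
    funext fun z => (EtAcycX.Hpull_HpullVia iX m (iX ≫ m) rfl G' k z).symm
  have h1 : Function.Bijective (EtCore.Hpull (iX ≫ m) G' k) := by
    rw [e1]
    exact ((EtPBC.bijective_HpullVia_iff cX r (iX ≫ m) _ G' k).2 hpt).comp ((hr G' hG').1 k le_rfl)
  rw [e2] at h1
  exact (Function.Bijective.of_comp_iff' ((EtPBC.bijective_HpullVia_iff iX m (iX ≫ m) rfl G' k).2
    ((hi _ (EtAcycX.isLTorsion_pull m hG')).1 k le_rfl)) _).1 h1

section Nat

variable {X Y Z : Scheme.{u}} (f : X ⟶ Y) (t : Y ⟶ Z) (f₀ : X ⟶ Z) (w : f ≫ t = f₀)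
  [PreservesFiniteLimits (EtCoh.pull f)]

/-- `HpullVia` is natural in the sheaf -/
theorem HpullVia_natural {G G' : EtCoh.Ab Z} (φ : G ⟶ G') (n : ℕ) (y : EtCoh.H Y ((EtCoh.pull t).obj G) n) :
    EtCore.HpullVia f t f₀ w G' n (y.comp (Ext.mk₀ ((EtCoh.pull t).map φ)) (add_zero n)) =
      (EtCore.HpullVia f t f₀ w G n y).comp (Ext.mk₀ ((EtCoh.pull f₀).map φ)) (add_zero n) := by
  rw [EtMV.HpullVia_apply, EtMV.HpullVia_apply, EtMV.T_comp_mk₀, Ext.comp_assoc_of_second_deg_zero,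
    Ext.comp_assoc_of_second_deg_zero, Ext.mk₀_comp_mk₀, Ext.mk₀_comp_mk₀]
  exact congrArg (fun i => Ext.comp _ (Ext.mk₀ i) (add_zero n)) ((EtMV.ψ f t f₀ w).hom.naturality φ)

end Nat

/-- postcomposition -/
def postH {X : Scheme.{u}} {G G' : EtCoh.Ab X} (φ : G ⟶ G') (n : ℕ) : EtCoh.H X G n →+ EtCoh.H X G' n :=
  AddMonoidHom.mk' (fun x => x.comp (Ext.mk₀ φ) (add_zero n)) fun x y => Ext.add_comp x y _ _

theorem postH_bijective {X : Scheme.{u}} {G G' : EtCoh.Ab X} (φ : G ⟶ G') [IsIso φ] (n : ℕ) :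
    Function.Bijective (postH φ n) := EtAcycX.bijective_comp_iso φ n

theorem Hpull_postH {X Y : Scheme.{u}} (f : X ⟶ Y) [PreservesFiniteLimits (EtCoh.pull f)] {G G' : EtCoh.Ab Y}
    (φ : G ⟶ G') (n : ℕ) (x : EtCoh.H Y G n) :
    EtCore.Hpull f G' n (postH φ n x) = postH ((EtCoh.pull f).map φ) n (EtCore.Hpull f G n x) :=
  EtAcycX.Hpull_comp_mk₀ f x φ

section Sequence

variable {X : Scheme.{u}} {S : ShortComplex (EtCoh.Ab X)} (hS : S.ShortExact)

/-- the connecting map -/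
def deltaH (n : ℕ) : EtCoh.H X S.X₃ n →+ EtCoh.H X S.X₁ (n + 1) :=
  AddMonoidHom.mk' (fun x => x.comp hS.extClass rfl) fun x y => Ext.add_comp x y _ _

include hS in
theorem exact_f_g (n : ℕ) : Function.Exact (postH S.f n) (postH S.g n) := fun x => by
  constructor
  · intro h
    exact Ext.covariant_sequence_exact₂ _ hS x h
  · rintro ⟨y, rfl⟩
    show (y.comp (Ext.mk₀ S.f) (add_zero n)).comp (Ext.mk₀ S.g) (add_zero n) = 0
    rw [Ext.comp_assoc_of_second_deg_zero, Ext.mk₀_comp_mk₀, S.zero, Ext.mk₀_zero, Ext.comp_zero]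

theorem exact_g_delta (n : ℕ) : Function.Exact (postH S.g n) (deltaH hS n) := fun x => by
  constructor
  · intro h
    exact Ext.covariant_sequence_exact₃ _ hS x rfl h
  · rintro ⟨y, rfl⟩
    show (y.comp (Ext.mk₀ S.g) (add_zero n)).comp hS.extClass rfl = 0
    rw [Ext.comp_assoc_of_second_deg_zero, hS.comp_extClass, Ext.comp_zero]

theorem exact_delta_f (n : ℕ) : Function.Exact (deltaH hS n) (postH S.f (n + 1)) := fun x => by
  constructor
  · intro h
    exact Ext.covariant_sequence_exact₁ _ hS x h rfl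
  · rintro ⟨y, rfl⟩
    show (y.comp hS.extClass rfl).comp (Ext.mk₀ S.f) (add_zero (n + 1)) = 0
    rw [Ext.comp_assoc_of_third_deg_zero, hS.extClass_comp, Ext.comp_zero]

include hS in
theorem injective_f_zero : Function.Injective (postH S.f 0) := by
  haveI := hS.mono_f
  refine (injective_iff_map_eq_zero _).2 fun x hx => ?_
  obtain ⟨φ, rfl⟩ := (Ext.mk₀_bijective _ _).2 x
  have h : Ext.mk₀ (φ ≫ S.f) = 0 := by
    rw [← Ext.mk₀_comp_mk₀]
    exact hx
  rw [Ext.mk₀_eq_zero_iff] at h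
  rw [zero_of_comp_mono S.f h, Ext.mk₀_zero]

end Sequence

section Main

variable {X X' Z E : Scheme.{u}} (b : X' ⟶ X) (i : Z ⟶ X) (j : E ⟶ X') (π : E ⟶ Z) (sq : IsPullback j π b i)
  [IsProper b] [IsClosedImmersion i] [PreservesFiniteLimits (EtCoh.pull b)] [PreservesFiniteLimits (EtCoh.pull i)]
  [PreservesFiniteLimits (EtCoh.pull j)] [PreservesFiniteLimits (EtCoh.pull π)]
  (hiso : ∀ x : X, x ∉ Set.range i → ∀ (K : Type u) [Field K] (ξ : Spec (CommRingCat.of K) ⟶ X),
      ξ (closedPoint K) = x → IsIso (pullback.snd b ξ))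
  (F : EtCoh.Ab X) (hF : EtCoh.IsTorsion F)

include sq in
/-- the long exact sequence from the three comparisons -/
theorem exists_longExact_of {K Q : EtCoh.Ab X} (ι : K ⟶ F) (q : F ⟶ Q) (hw : ι ≫ q = 0)
    (hS : (ShortComplex.mk ι q hw).ShortExact) [PreservesFiniteLimits (EtCoh.pull (j ≫ b))]
    [IsIso ((EtCoh.pull i).map q)] [IsIso ((EtCoh.pull (j ≫ b)).map q)]
    (hα : ∀ n, Function.Bijective (EtCore.Hpull b K n)) (hi : ∀ n, Function.Bijective (EtCore.Hpull i Q n))
    (hj : ∀ n, Function.Bijective (EtCore.Hpull j ((EtCoh.pull b).obj Q) n)) :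
    ∃ δ : ∀ p : ℕ, EtCoh.H E ((EtCoh.pull (j ≫ b)).obj F) p →+ EtCoh.H X F (p + 1),
      Function.Injective (fun e : EtCoh.H X F 0 => (EtCore.Hpull b F 0 e, EtCore.Hpull i F 0 e)) ∧
      ∀ p : ℕ,
        Function.Exact
          (fun e : EtCoh.H X F p => (EtCore.Hpull b F p e, EtCore.Hpull i F p e))
          (fun uv : EtCoh.H X' ((EtCoh.pull b).obj F) p × EtCoh.H Z ((EtCoh.pull i).obj F) p =>
            EtCore.HpullVia j b (j ≫ b) rfl F p uv.1 - EtCore.HpullVia π i (j ≫ b) sq.w.symm F p uv.2) ∧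
        Function.Exact
          (fun uv : EtCoh.H X' ((EtCoh.pull b).obj F) p × EtCoh.H Z ((EtCoh.pull i).obj F) p =>
            EtCore.HpullVia j b (j ≫ b) rfl F p uv.1 - EtCore.HpullVia π i (j ≫ b) sq.w.symm F p uv.2)
          (δ p) ∧
        Function.Exact (δ p)
          (fun e : EtCoh.H X F (p + 1) => (EtCore.Hpull b F (p + 1) e, EtCore.Hpull i F (p + 1) e)) := by
  -- `H(X, Q) ≅ H(Z, F)` and `H(X', Q) ≅ H(E, F)`
  let θ : ∀ n, EtCoh.H X Q n ≃+ EtCoh.H Z ((EtCoh.pull i).obj F) n := fun n =>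
    (AddEquiv.ofBijective _ (hi n)).trans (AddEquiv.ofBijective _ (postH_bijective ((EtCoh.pull i).map q) n)).symm
  let θ' : ∀ n, EtCoh.H X' ((EtCoh.pull b).obj Q) n ≃+ EtCoh.H E ((EtCoh.pull (j ≫ b)).obj F) n := fun n =>
    (AddEquiv.ofBijective _ ((EtPBC.bijective_HpullVia_iff j b (j ≫ b) rfl Q n).2 (hj n))).trans
      (AddEquiv.ofBijective _ (postH_bijective ((EtCoh.pull (j ≫ b)).map q) n)).symm
  have hθ : ∀ n x, postH ((EtCoh.pull i).map q) n (θ n x) = EtCore.Hpull i Q n x := fun n x =>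
    (AddEquiv.ofBijective _ (postH_bijective ((EtCoh.pull i).map q) n)).apply_symm_apply _
  have hθ' : ∀ n x, postH ((EtCoh.pull (j ≫ b)).map q) n (θ' n x) = EtCore.HpullVia j b (j ≫ b) rfl Q n x :=
    fun n x => (AddEquiv.ofBijective _ (postH_bijective ((EtCoh.pull (j ≫ b)).map q) n)).apply_symm_apply _
  have hgθ : ∀ n x, θ n (postH q n x) = EtCore.Hpull i F n x := fun n x =>
    (postH_bijective ((EtCoh.pull i).map q) n).1 ((hθ n _).trans (Hpull_postH i q n x))
  have hgθ' : ∀ n y, θ' n (postH ((EtCoh.pull b).map q) n y) = EtCore.HpullVia j b (j ≫ b) rfl F n y := fun n y =>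
    (postH_bijective ((EtCoh.pull (j ≫ b)).map q) n).1
      ((hθ' n _).trans (HpullVia_natural j b (j ≫ b) rfl q n y))
  have hγ : ∀ n x, θ' n (EtCore.Hpull b Q n x) = EtCore.HpullVia π i (j ≫ b) sq.w.symm F n (θ n x) := fun n x =>
    (postH_bijective ((EtCoh.pull (j ≫ b)).map q) n).1 ((hθ' n _).trans (Eq.symm (by
      refine (HpullVia_natural π i (j ≫ b) sq.w.symm q n (θ n x)).symm.trans ?_
      refine (congrArg _ (hθ n x)).trans ?_
      exact (EtAcycX.Hpull_HpullVia π i (j ≫ b) sq.w.symm Q n x).trans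
        (EtAcycX.Hpull_HpullVia j b (j ≫ b) rfl Q n x).symm)))
  -- the sequence upstairs
  let S := ShortComplex.mk ι q hw
  let S' := S.map (EtCoh.pull b)
  have hS' : S'.ShortExact := hS.map_of_exact (EtCoh.pull b)
  let d := fun n => (deltaH hS n).comp (θ n).symm.toAddMonoidHom
  let d' := fun n => (deltaH hS' n).comp (θ' n).symm.toAddMonoidHom
  let αe := fun n => AddEquiv.ofBijective (EtCore.Hpull b K n) (hα n)
  let δ := fun n => (postH ι (n + 1)).comp ((αe (n + 1)).symm.toAddMonoidHom.comp (d' n))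
  have hδ : ∀ n c, ∃ a, EtCore.Hpull b K (n + 1) a = d' n c ∧ δ n c = postH ι (n + 1) a := fun n c =>
    ⟨(αe (n + 1)).symm (d' n c), (αe (n + 1)).apply_symm_apply _, rfl⟩
  have hgd : ∀ n, Function.Exact (EtCore.Hpull i F n) (d n) := fun n c => by
    show deltaH hS n ((θ n).symm c) = 0 ↔ _
    rw [exact_g_delta hS n ((θ n).symm c)]
    constructor
    · rintro ⟨x, hx⟩
      exact ⟨x, by rw [← hgθ, hx, AddEquiv.apply_symm_apply]⟩
    · rintro ⟨x, rfl⟩
      exact ⟨x, by rw [← hgθ, AddEquiv.symm_apply_apply]⟩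
  have hg'd : ∀ n, Function.Exact (EtCore.HpullVia j b (j ≫ b) rfl F n) (d' n) := fun n c => by
    show deltaH hS' n ((θ' n).symm c) = 0 ↔ _
    rw [exact_g_delta hS' n ((θ' n).symm c)]
    constructor
    · rintro ⟨x, hx⟩
      exact ⟨x, (hgθ' n x).symm.trans ((congrArg (θ' n) hx).trans (AddEquiv.apply_symm_apply _ c))⟩
    · rintro ⟨x, rfl⟩
      exact ⟨x, ((θ' n).symm_apply_eq.2 (hgθ' n x).symm).symm⟩
  have hdf : ∀ n, Function.Exact (d n) (postH ι (n + 1)) := fun n a => by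
    refine (exact_delta_f hS n a).trans ⟨?_, ?_⟩
    · rintro ⟨x, rfl⟩
      exact ⟨θ n x, congrArg (deltaH hS n) ((θ n).symm_apply_apply x)⟩
    · rintro ⟨x, rfl⟩
      exact ⟨(θ n).symm x, rfl⟩
  have hdf' : ∀ n, Function.Exact (d' n) (postH ((EtCoh.pull b).map ι) (n + 1)) := fun n a => by
    refine (exact_delta_f hS' n a).trans ⟨?_, ?_⟩
    · rintro ⟨x, rfl⟩
      exact ⟨θ' n x, congrArg (deltaH hS' n) ((θ' n).symm_apply_apply x)⟩
    · rintro ⟨x, rfl⟩
      exact ⟨(θ' n).symm x, rfl⟩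
  have hfg : ∀ n, Function.Exact (postH ι n) (EtCore.Hpull i F n) := fun n x => by
    rw [← hgθ n x, EmbeddingLike.map_eq_zero_iff]
    exact exact_f_g hS n x
  have hfg' : ∀ n, Function.Exact (postH ((EtCoh.pull b).map ι) n) (EtCore.HpullVia j b (j ≫ b) rfl F n) :=
    fun n x => by
      rw [← hgθ' n x, EmbeddingLike.map_eq_zero_iff]
      exact exact_f_g hS' n x
  have hd : ∀ n c, d' n (EtCore.HpullVia π i (j ≫ b) sq.w.symm F n c) = EtCore.Hpull b K (n + 1) (d n c) :=
    fun n c => by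
      obtain ⟨x, rfl⟩ := (θ n).surjective c
      show deltaH hS' n ((θ' n).symm (EtCore.HpullVia π i (j ≫ b) sq.w.symm F n (θ n x))) =
        EtCore.Hpull b K (n + 1) (deltaH hS n ((θ n).symm (θ n x)))
      rw [← hγ, AddEquiv.symm_apply_apply, AddEquiv.symm_apply_apply]
      refine ((EtMV.T_comp (EtCoh.pull b) (EtCore.pullConst b ℤ).inv x hS.extClass rfl).trans ?_).symm
      rw [Ext.mapExactFunctor_extClass (EtCoh.pull b) hS]
      rfl
  refine ⟨δ, ?_, fun p => ⟨?_, ?_, ?_⟩⟩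
  · refine (injective_iff_map_eq_zero
      ((EtCore.Hpull b F 0).prod (EtCore.Hpull i F 0))).2 fun e he => ?_
    obtain ⟨a, rfl⟩ := (hfg 0 e).1 (congrArg Prod.snd he)
    have h1 : postH ((EtCoh.pull b).map ι) 0 (EtCore.Hpull b K 0 a) = 0 := by
      rw [← Hpull_postH]; exact congrArg Prod.fst he
    have h2 := injective_f_zero hS' (h1.trans (map_zero (postH S'.f 0)).symm)
    rw [(hα 0).1 (h2.trans (map_zero _).symm), map_zero]
  · exact ladder_exact_sum (α := EtCore.Hpull b K p) (α₁ := EtCore.Hpull b K (p + 1)) (hα p).2 (hα (p + 1)).1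
      (hgd p) (fun a => (hfg p _).2 ⟨a, rfl⟩) (hfg' p) (fun y => (hg'd p _).2 ⟨y, rfl⟩)
      (fun a => Hpull_postH b ι p a)
      (fun x => (EtAcycX.Hpull_HpullVia π i (j ≫ b) sq.w.symm F p x).trans
        (EtAcycX.Hpull_HpullVia j b (j ≫ b) rfl F p x).symm) (hd p)
  · exact ladder_exact_corner (α₁ := EtCore.Hpull b K (p + 1)) (hα (p + 1)) (hdf p) (hg'd p) (hd p) (hδ p)
  · exact ladder_exact_next (α₁ := EtCore.Hpull b K (p + 1)) (hα (p + 1)).1 (hfg (p + 1)) (hdf' p)
      (fun a => Hpull_postH b ι (p + 1) a) (hδ p)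

include sq hiso hF in
/-- **the long exact sequence of an abstract blow-up square** -/
theorem exists_longExact :
    ∃ δ : ∀ p : ℕ, EtCoh.H E ((EtCoh.pull (j ≫ b)).obj F) p →+ EtCoh.H X F (p + 1),
      Function.Injective (fun e : EtCoh.H X F 0 => (EtCore.Hpull b F 0 e, EtCore.Hpull i F 0 e)) ∧
      ∀ p : ℕ,
        Function.Exact
          (fun e : EtCoh.H X F p => (EtCore.Hpull b F p e, EtCore.Hpull i F p e))
          (fun uv : EtCoh.H X' ((EtCoh.pull b).obj F) p × EtCoh.H Z ((EtCoh.pull i).obj F) p =>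
            EtCore.HpullVia j b (j ≫ b) rfl F p uv.1 - EtCore.HpullVia π i (j ≫ b) sq.w.symm F p uv.2) ∧
        Function.Exact
          (fun uv : EtCoh.H X' ((EtCoh.pull b).obj F) p × EtCoh.H Z ((EtCoh.pull i).obj F) p =>
            EtCore.HpullVia j b (j ≫ b) rfl F p uv.1 - EtCore.HpullVia π i (j ≫ b) sq.w.symm F p uv.2)
          (δ p) ∧
        Function.Exact (δ p)
          (fun e : EtCoh.H X F (p + 1) => (EtCore.Hpull b F (p + 1) e, EtCore.Hpull i F (p + 1) e)) := by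
  let η := (EtCoh.pullPushAdj i).unit.app F
  let K := kernel η
  let ι : K ⟶ F := kernel.ι η
  let Q := cokernel ι
  let q : F ⟶ Q := cokernel.π ι
  let S := ShortComplex.mk ι q (cokernel.condition ι)
  have hS : S.ShortExact := { exact := ShortComplex.exact_of_g_is_cokernel _ (cokernelIsCokernel _) }
  have hK0 : ∀ x ∈ Set.range i, EtPBC.ZeroAt K x := by
    rintro x ⟨z, rfl⟩
    obtain ⟨Ω, _, _, ξ, hξ, hb⟩ :=
      EtPBC.bijective_stalk_unit_at i (EtPushStalk.liftProp_of_closedImmersion i) F z rfl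
    exact EtPBC.zeroAt_kernel hξ η hb.1
  have hQ0 : ∀ x, x ∉ Set.range i → EtPBC.ZeroAt Q x := by
    intro x hx
    refine EtPBC.zeroAt_of_mono (Abelian.factorThruCoimage η) ?_
    obtain ⟨Ω, _, _, ξ, hξ⟩ := EtPBC.exists_geomPt x
    refine (EtPBC.isZero_stalk_iff_zeroAt hξ _).1 (EtStalk.isZero_stalk_push i _ ξ ?_)
    rw [EtCons.range_point_eq, Set.disjoint_singleton_left, hξ]
    exact hx
  have hKt : EtAcyc.IsLTorsion Set.univ K :=
    EtPBC.isLTorsion_univ_of_isTorsion (EtPBC.isTorsion_of_mono ι hF)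
  have hQt : EtAcyc.IsLTorsion Set.univ Q :=
    EtPBC.isLTorsion_univ_of_isTorsion (EtPBC.isTorsion_of_epi q hF)
  have hrange : ∀ {W : Scheme.{u}} (g : W ⟶ X) [IsClosedImmersion g], Set.range g = Set.range g := fun _ => rfl
  -- the three comparisons
  have hα : ∀ n, Function.Bijective (EtCore.Hpull b K n) := bijective_Hpull_of_pointwise b K hKt fun x => by
    by_cases hx : x ∈ Set.range i
    · exact Or.inl (hK0 x hx)
    · exact Or.inr (hiso x hx)
  have lift_closed : ∀ {W V : Scheme.{u}} (g : W ⟶ V) [IsClosedImmersion g] (x : V), x ∈ Set.range g →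
      ∀ (k : Type u) [Field k] (ξ : Spec (CommRingCat.of k) ⟶ V), ξ (closedPoint k) = x → IsIso (pullback.snd g ξ) := by
    intro W V g _ x hx k _ ξ hξ
    obtain ⟨l, hl⟩ := RedSepLib.exists_lift_of_isReduced ξ g (by
      rintro _ ⟨s, rfl⟩
      rw [Subsingleton.elim (α := Spec (CommRingCat.of k)) s (closedPoint k), hξ]
      exact hx)
    exact isIso_snd_of_lift g ξ l hl
  have hi : ∀ n, Function.Bijective (EtCore.Hpull i Q n) := bijective_Hpull_of_pointwise i Q hQt fun x => by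
    by_cases hx : x ∈ Set.range i
    · exact Or.inr (lift_closed i x hx)
    · exact Or.inl (hQ0 x hx)
  haveI : IsClosedImmersion j := MorphismProperty.of_isPullback (P := @IsClosedImmersion) sq.flip ‹_›
  have hrj : ∀ y, b y ∈ Set.range i → y ∈ Set.range j := by
    rintro y ⟨z, hz⟩
    obtain ⟨e, he, -⟩ := Scheme.exists_preimage_of_isPullback sq y z hz.symm
    exact ⟨e, he⟩
  have hj : ∀ n, Function.Bijective (EtCore.Hpull j ((EtCoh.pull b).obj Q) n) :=
    bijective_Hpull_of_pointwise j _ (EtAcycX.isLTorsion_pull b hQt) fun y => by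
      by_cases hy : y ∈ Set.range j
      · exact Or.inr (lift_closed j y hy)
      · exact Or.inl (EtPBC.zeroAt_pull b Q y (hQ0 _ fun h => hy (hrj y h)))
  -- the restrictions of `q`
  haveI hqi : IsIso ((EtCoh.pull i).map q) := by
    haveI : Mono ((EtCoh.pull i).map q) := Preadditive.mono_of_kernel_zero <| by
      refine (IsZero.of_iso ?_ (PreservesKernel.iso (EtCoh.pull i) q).symm).eq_of_src _ _
      refine EtPBC.isZero_of_zeroAt _ fun z => EtPBC.zeroAt_pull i _ _ ?_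
      exact EtPBC.zeroAt_of_iso (hS.exact.fIsKernel.conePointUniqueUpToIso (kernelIsKernel q)) (hK0 _ ⟨z, rfl⟩)
    haveI : (EtCoh.pull i).IsLeftAdjoint := (EtCoh.pullPushAdj i).isLeftAdjoint
    haveI : Epi ((EtCoh.pull i).map q) := inferInstance
    exact isIso_of_mono_of_epi _
  haveI := EtCohDesc.pull_preservesFiniteLimits (j ≫ b)
  haveI hqc : IsIso ((EtCoh.pull (j ≫ b)).map q) := by
    haveI : Mono ((EtCoh.pull (j ≫ b)).map q) := Preadditive.mono_of_kernel_zero <| by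
      refine (IsZero.of_iso ?_ (PreservesKernel.iso (EtCoh.pull (j ≫ b)) q).symm).eq_of_src _ _
      refine EtPBC.isZero_of_zeroAt _ fun e => EtPBC.zeroAt_pull _ _ _ ?_
      refine EtPBC.zeroAt_of_iso (hS.exact.fIsKernel.conePointUniqueUpToIso (kernelIsKernel q)) (hK0 _ ⟨π e, ?_⟩)
      rw [← Scheme.Hom.comp_apply, ← sq.w]
    haveI : (EtCoh.pull (j ≫ b)).IsLeftAdjoint := (EtCoh.pullPushAdj (j ≫ b)).isLeftAdjoint
    haveI : Epi ((EtCoh.pull (j ≫ b)).map q) := inferInstance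
    exact isIso_of_mono_of_epi _
  exact exists_longExact_of b i j π sq F ι q (cokernel.condition ι) hS hα hi hj

end Main

end Groth.Agent.LAcyc
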