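import Groth.Agent.LAcyc.Origin
import Groth.Agent.EtAcycX.LAChange
import Groth.Agent.EtAcycX.Fibres

/-!
# Acyclicity of the geometric fibres of the strict localisations of the line

Closed points of the closed fibre become rational after a finite extension of the base; at the
other points the sections of `R¹j_*` vanish near a closed point in their closure.
-/

set_option autoImplicit false
set_option backward.isDefEq.respectTransparency false
set_option backward.isDefEq.respectTransparency.types false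
set_option linter.style.haveILetI false
set_option maxHeartbeats 1000000
set_option synthInstance.maxHeartbeats 400000

universe u

open CategoryTheory CategoryTheory.Limits AlgebraicGeometry Opposite IsLocalRing
open scoped TensorProduct

noncomputable section

namespace Groth.Agent.LAcyc

open HensLine (origin fromPoly)

variable (A : Type u) [CommRing A] (Ω : Type u) [Field Ω] [Algebra A Ω] {ℓ : ℕ}

/-- transport of `H¹` along the finite extension -/
theorem subsingleton_H_change (A' R T : Type u) [CommRing A'] [Algebra A A'] [Algebra A' Ω] [IsScalarTower A A' Ω]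
    [CommRing R] [Algebra A R] [CommRing T] [Algebra A' T] (E : R ⊗[A] A' ≃+* T)
    (hE : ∀ a : A', E ((1 : R) ⊗ₜ a) = algebraMap A' T a) (M : Type) [AddCommGroup M] (q : ℕ)
    (h : Subsingleton (EtCoh.H (Spec (CommRingCat.of (T ⊗[A'] Ω))) (EtCoh.const _ M) q)) :
    Subsingleton (EtCoh.H (Spec (CommRingCat.of (R ⊗[A] Ω))) (EtCoh.const _ M) q) := by
  letI iA' : Algebra A' (R ⊗[A] A') := (Algebra.TensorProduct.includeRight : A' →ₐ[A] R ⊗[A] A').toRingHom.toAlgebra
  let E' : R ⊗[A] A' ≃ₐ[A'] T := AlgEquiv.ofRingEquiv (f := E) hE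
  let e₀ : (R ⊗[A] A') ≃ₐ[A'] A' ⊗[A] R :=
    { Algebra.TensorProduct.comm A R A' with
      commutes' := fun a => by
        show Algebra.TensorProduct.comm A R A' ((1 : R) ⊗ₜ[A] a) = _
        simp [Algebra.TensorProduct.algebraMap_apply] }
  let e₁ : (R ⊗[A] A') ⊗[A'] Ω ≃+* R ⊗[A] Ω :=
    ((Algebra.TensorProduct.comm A' (R ⊗[A] A') Ω).toRingEquiv.trans
      (Algebra.TensorProduct.congr (AlgEquiv.refl : Ω ≃ₐ[A'] Ω) e₀).toRingEquiv).trans
      ((Algebra.TensorProduct.cancelBaseChange A A' A' Ω R).toRingEquiv.trans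
        (Algebra.TensorProduct.comm A Ω R).toRingEquiv)
  let c : T ⊗[A'] Ω ≃+* R ⊗[A] Ω :=
    (Algebra.TensorProduct.congr E'.symm (AlgEquiv.refl : Ω ≃ₐ[A'] Ω)).toRingEquiv.trans e₁
  exact (subsingleton_H_const_iff (Scheme.Spec.mapIso c.toCommRingCatIso.op) M q).2 h

variable [HenselianLocalRing A] [IsSepClosed (ResidueField A)]

/-- closed points of the closed fibre are cut out by a monic polynomial -/
theorem exists_monic (P : Ideal (Polynomial A)) [P.IsMaximal] (hP : maximalIdeal A ≤ P.comap Polynomial.C) :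
    ∃ H : Polynomial A, H.Monic ∧ 0 < H.natDegree ∧
      P = (maximalIdeal A).map Polynomial.C ⊔ Ideal.span {H} := by
  classical
  let π := Polynomial.mapRingHom (residue A)
  have hker : RingHom.ker π = (maximalIdeal A).map Polynomial.C := by
    rw [Polynomial.ker_mapRingHom, ker_residue]
  have hle : RingHom.ker π ≤ P := hker ▸ Ideal.map_le_iff_le_comap.2 hP
  have hs : Function.Surjective π := Polynomial.map_surjective _ residue_surjective
  let Q := P.map π
  have hQ : Q.comap π = P := by
    rw [Ideal.comap_map_of_surjective π hs, sup_eq_left]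
    exact hle
  obtain ⟨g, hg⟩ := IsPrincipalIdealRing.principal Q
  have hg0 : g ≠ 0 := by
    intro h0
    rw [h0, Ideal.submodule_span_eq, Ideal.span_singleton_zero] at hg
    have hk : P = RingHom.ker π := by rw [← hQ, hg]; rfl
    haveI : (RingHom.ker π).IsMaximal := hk ▸ ‹P.IsMaximal›
    exact Polynomial.not_isField (ResidueField A) ((RingHom.quotientKerEquivOfSurjective hs).symm.toMulEquiv.isField
      ((Ideal.Quotient.maximal_ideal_iff_isField_quotient _).1 inferInstance))
  obtain ⟨H, hH, -, hm⟩ := Polynomial.lifts_and_degree_eq_and_monic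
    ((Polynomial.lifts_iff_coeff_lifts (f := residue A) _).2 fun n => residue_surjective ((normalize g).coeff n))
    (Polynomial.monic_normalize hg0)
  have hsp : P = (maximalIdeal A).map Polynomial.C ⊔ Ideal.span {H} := by
    rw [← hker, sup_comm, ← hQ, RingHom.ker_eq_comap_bot, ← Ideal.comap_map_of_surjective π hs, Ideal.map_span, Set.image_singleton, hg,
      Ideal.submodule_span_eq]
    congr 1
    rw [show π H = normalize g from hH]
    exact (Ideal.span_singleton_eq_span_singleton.2 (associated_normalize g))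
  refine ⟨H, hm, ?_, hsp⟩
  by_contra h0
  have h1 : H = 1 := hm.natDegree_eq_zero.1 (by omega)
  rw [h1, Ideal.span_singleton_one, sup_top_eq] at hsp
  exact (inferInstance : P.IsMaximal).ne_top hsp

/-- **`H¹` of the geometric fibres at a closed point of the closed fibre** -/
theorem h1_closed [IsAlgClosed Ω] [Fact ℓ.Prime] (hℓ : (ℓ : ResidueField A) ≠ 0)
    (halg : ∀ w : Ω, ∃ m : A, algebraMap A Ω m ≠ 0 ∧ IsIntegral A (m • w))
    {x : ↥(Spec (CommRingCat.of (Polynomial A)))} [x.asIdeal.IsMaximal]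
    (hx : maximalIdeal A ≤ x.asIdeal.comap Polynomial.C)
    (QX : EtBCQ.SH (Spec (CommRingCat.of (Polynomial A))) x) [Algebra A QX.R] [IsLocalHom (algebraMap A QX.R)]
    (hX : Spec.map (CommRingCat.ofHom (algebraMap A QX.R)) = QX.spec ≫ lineStr A) :
    Subsingleton (EtCoh.H (Spec (CommRingCat.of (QX.R ⊗[A] Ω)))
      (EtCoh.const (Spec (CommRingCat.of (QX.R ⊗[A] Ω))) (ZMod ℓ)) 1) := by
  obtain ⟨H, hm, hdeg, hP⟩ := exists_monic A x.asIdeal hx
  let A' := AdjoinRoot H
  haveI : Module.Finite A A' := hm.finite_adjoinRoot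
  haveI : Nontrivial A' := by
    refine ⟨⟨1, 0, fun h => ?_⟩⟩
    rw [← map_one (AdjoinRoot.mk H), AdjoinRoot.mk_eq_zero] at h
    have h1 := hm.isUnit_iff.1 (isUnit_of_dvd_one h)
    rw [h1, Polynomial.natDegree_one] at hdeg
    omega
  let mk : Polynomial A →+* A' := AdjoinRoot.mk H
  have hA'max : ∀ M : Ideal A', M.IsMaximal → M = x.asIdeal.map mk := fun M hM => by
    haveI := hM
    haveI : (M.comap mk).IsMaximal := Ideal.comap_isMaximal_of_surjective mk AdjoinRoot.mk_surjective
    haveI : (M.comap (algebraMap A A')).IsMaximal :=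
      Ideal.isMaximal_comap_of_isIntegral_of_isMaximal (R := A) M
    have hle : x.asIdeal ≤ M.comap mk := by
      rw [hP, sup_le_iff, Ideal.map_le_iff_le_comap, Ideal.comap_comap, Ideal.span_singleton_le_iff_mem,
        Ideal.mem_comap]
      exact ⟨(eq_maximalIdeal (I := M.comap (algebraMap A A')) inferInstance).ge,
        by rw [show mk H = 0 from AdjoinRoot.mk_self]; exact M.zero_mem⟩
    rw [(‹x.asIdeal.IsMaximal›).eq_of_le (‹(M.comap mk).IsMaximal›).ne_top hle,
      Ideal.map_comap_of_surjective mk AdjoinRoot.mk_surjective]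
  haveI : IsLocalRing A' := by
    obtain ⟨M, hM⟩ := Ideal.exists_maximal A'
    exact IsLocalRing.of_unique_max_ideal ⟨M, hM, fun N hN => (hA'max N hN).trans (hA'max M hM).symm⟩
  haveI : HenselianLocalRing A' := Hensel.henselianLocalRing_finite A A'
  haveI hloc : IsLocalHom (algebraMap A A') := by
    refine ((local_hom_TFAE (algebraMap A A')).out 0 4).2 ?_
    exact eq_maximalIdeal (Ideal.isMaximal_comap_of_isIntegral_of_isMaximal (R := A) (maximalIdeal A'))
  haveI : IsSepClosed (ResidueField A') := by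
    haveI : Algebra.IsIntegral A (ResidueField A') :=
      Algebra.IsIntegral.of_surjective (IsScalarTower.toAlgHom A A' _) residue_surjective
    haveI : Algebra.IsIntegral (ResidueField A) (ResidueField A') := Algebra.IsIntegral.tower_top A
    haveI : Algebra.IsAlgebraic (ResidueField A) (ResidueField A') := inferInstance
    exact Algebra.IsAlgebraic.isSepClosed (F := ResidueField A)
  obtain ⟨ω, hω₀⟩ := IsAlgClosed.exists_root (H.map (algebraMap A Ω)) (fun h => by
    have := Polynomial.natDegree_eq_of_degree_eq_some (n := 0) h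
    rw [hm.natDegree_map] at this
    omega)
  have hω : H.eval₂ (algebraMap A Ω) ω = 0 := by rwa [Polynomial.IsRoot, Polynomial.eval_map] at hω₀
  letI : Algebra A' Ω := (AdjoinRoot.lift (algebraMap A Ω) ω hω).toAlgebra
  haveI : IsScalarTower A A' Ω := IsScalarTower.of_algebraMap_eq fun a => by
    rw [RingHom.algebraMap_toAlgebra]
    exact (AdjoinRoot.lift_of hω).symm
  have halg' : ∀ w : Ω, ∃ m : A', algebraMap A' Ω m ≠ 0 ∧ IsIntegral A' (m • w) := fun w => by
    obtain ⟨m, h1, h2⟩ := halg w
    refine ⟨algebraMap A A' m, by rwa [← IsScalarTower.algebraMap_apply], ?_⟩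
    rw [algebraMap_smul]
    exact h2.tower_top
  have hℓ' : (ℓ : ResidueField A') ≠ 0 := fun h => hℓ
    ((map_eq_zero (ResidueField.map (algebraMap A A'))).1 (by rwa [map_natCast]))
  -- the rational point
  let σ := Polynomial.algEquivAevalXAddC (AdjoinRoot.root H)
  let x'' : ↥(Spec (CommRingCat.of (Polynomial A'))) :=
    (⟨(origin A').comap σ.toRingHom,
      haveI := HensLine.isMaximal_origin A'
      Ideal.IsPrime.comap σ.toRingHom⟩ : PrimeSpectrum (Polynomial A'))
  have hσ0 : ∀ q : Polynomial A', q ∈ x''.asIdeal ↔ q.eval (AdjoinRoot.root H) ∈ maximalIdeal A' := fun q => by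
    show σ q ∈ origin A' ↔ _
    rw [HensLine.mem_origin_iff, Polynomial.coeff_zero_eq_eval_zero]
    rw [show σ q = Polynomial.aeval (Polynomial.X + Polynomial.C (AdjoinRoot.root H)) q from rfl,
      ← Polynomial.comp_eq_aeval, Polynomial.eval_comp, Polynomial.eval_add, Polynomial.eval_X,
      Polynomial.eval_C, zero_add]
  let g : Spec (CommRingCat.of A') ⟶ Spec (CommRingCat.of A) := Spec.map (CommRingCat.ofHom (algebraMap A A'))
  let π : Spec (CommRingCat.of (Polynomial A')) ⟶ Spec (CommRingCat.of (Polynomial A)) :=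
    Spec.map (CommRingCat.ofHom (Polynomial.mapRingHom (algebraMap A A')))
  let φ := (isPullback_polyMap A A').isoPullback
  have hxeq : x = pullback.fst (lineStr A) g (φ.hom x'') := by
    rw [← Scheme.Hom.comp_apply, (isPullback_polyMap A A').isoPullback_hom_fst]
    refine PrimeSpectrum.ext ((‹x.asIdeal.IsMaximal›).eq_of_le
      (PrimeSpectrum.comap (Polynomial.mapRingHom (algebraMap A A')) x'').isPrime.ne_top ?_)
    show x.asIdeal ≤ x''.asIdeal.comap (Polynomial.mapRingHom (algebraMap A A'))
    rw [hP, sup_le_iff, Ideal.map_le_iff_le_comap, Ideal.span_singleton_le_iff_mem]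
    refine ⟨fun a ha => ?_, ?_⟩
    · rw [Ideal.mem_comap, Ideal.mem_comap, hσ0, Polynomial.coe_mapRingHom, Polynomial.map_C, Polynomial.eval_C]
      exact map_nonunit (algebraMap A A') a ha
    · rw [Ideal.mem_comap, hσ0, Polynomial.coe_mapRingHom, Polynomial.eval_map, AdjoinRoot.algebraMap_eq,
        AdjoinRoot.eval₂_root]
      exact (maximalIdeal A').zero_mem
  subst hxeq
  let Q := EtBCQ.mkSH (Spec (CommRingCat.of (Polynomial A'))) x''
  obtain ⟨aQ, lQ, sQ, hQ⟩ := EtAcycX.exists_push_SH φ.hom Q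
  let QX' : EtBCQ.SH (pullback (lineStr A) g) (φ.hom x'') := { R := Q.R, alg := aQ, lh := lQ, sh := sQ }
  have hQX' : QX'.spec = Q.spec ≫ φ.hom := hQ
  have hy : (pullback.snd (lineStr A) g) (φ.hom x'') = closedPoint A' := by
    rw [← Scheme.Hom.comp_apply, (isPullback_polyMap A A').isoPullback_hom_snd]
    refine PrimeSpectrum.ext (Ideal.ext fun a => ?_)
    show Polynomial.C a ∈ x''.asIdeal ↔ a ∈ maximalIdeal A'
    rw [hσ0, Polynomial.eval_C]
  obtain ⟨QS', e, he⟩ := EtShLib.exists_self_SH' A' _ hy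
  letI : Algebra A QS'.R := (e.toRingHom.comp (algebraMap A A')).toAlgebra
  haveI : IsLocalHom (algebraMap A QS'.R) := by
    rw [RingHom.algebraMap_toAlgebra]
    haveI : IsLocalHom e.toRingHom := IsLocalHom.of_surjective _ e.surjective
    exact RingHom.isLocalHom_comp _ _
  let eA : A' ≃ₐ[A] QS'.R := AlgEquiv.ofRingEquiv (f := e) fun a => rfl
  haveI : Algebra.IsIntegral A QS'.R := Algebra.IsIntegral.of_surjective eA.toAlgHom eA.surjective
  have hS : Spec.map (CommRingCat.ofHom (algebraMap A QS'.R)) ≫ 𝟙 _ = QS'.spec ≫ g := by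
    rw [Category.comp_id, ← he, ← Spec.map_comp]
    rfl
  obtain ⟨ι, hιl, hι⟩ := EtBCQ.exists_strict_hom QX (QX'.spec ≫ pullback.fst (lineStr A) g)
    (by rw [Scheme.Hom.comp_apply, QX'.spec_closed])
  obtain ⟨θ, hθl, hθ⟩ := EtBCQ.exists_strict_hom QS' (QX'.spec ≫ pullback.snd (lineStr A) g)
    (by rw [Scheme.Hom.comp_apply, QX'.spec_closed])
  haveI := hιl
  haveI := hθl
  have hcompat : ι.comp (algebraMap A QX.R) = θ.comp (algebraMap A QS'.R) := by
    suffices key : Spec.map (CommRingCat.ofHom (ι.comp (algebraMap A QX.R))) =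
        Spec.map (CommRingCat.ofHom (θ.comp (algebraMap A QS'.R))) from
      congrArg CommRingCat.Hom.hom (Spec.map_injective key)
    rw [CommRingCat.ofHom_comp, CommRingCat.ofHom_comp, Spec.map_comp, Spec.map_comp, hX, ← Category.assoc, hι,
      Category.assoc, pullback.condition]
    refine Eq.trans ?_ (congrArg (Spec.map (CommRingCat.ofHom θ) ≫ ·) (hS.symm.trans (Category.comp_id _)))
    rw [← Category.assoc (Spec.map (CommRingCat.ofHom θ)), hθ]
    simp only [EtBCQ.SH.spec, Hens2.specOf, Category.assoc]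
  letI : Algebra A QX'.R := (ι.comp (algebraMap A QX.R)).toAlgebra
  let ιA : QX.R →ₐ[A] QX'.R := { ι with commutes' := fun a => rfl }
  let θA : QS'.R →ₐ[A] QX'.R := { θ with commutes' := fun a => (RingHom.congr_fun hcompat a).symm }
  let Λ : QX.R ⊗[A] QS'.R →ₐ[A] QX'.R := Algebra.TensorProduct.lift ιA θA fun _ _ => mul_comm _ _
  have hΛ : Function.Bijective Λ.toRingHom :=
    EtAcycX.bijective_tensor_strict (lineStr A) g QX QS' QX' (R := A) (𝟙 _)
      (by rw [Category.comp_id, hX]) hS ι θ hι hθ Λ.toRingHom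
      (fun b => by show Λ (b ⊗ₜ 1) = _; simp [Λ, ιA])
      (fun d => by show Λ (1 ⊗ₜ d) = _; simp [Λ, θA])
  let E : QX.R ⊗[A] A' ≃+* QX'.R :=
    (Algebra.TensorProduct.congr (AlgEquiv.refl : QX.R ≃ₐ[A] QX.R) eA).toRingEquiv.trans
      (RingEquiv.ofBijective Λ.toRingHom hΛ)
  letI : Algebra A' Q.R := (θ.comp e.toRingHom).toAlgebra
  haveI : IsLocalHom (algebraMap A' Q.R) := by
    rw [RingHom.algebraMap_toAlgebra]
    haveI : IsLocalHom e.toRingHom := IsLocalHom.of_surjective _ e.surjective
    exact RingHom.isLocalHom_comp θ e.toRingHom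
  have hXQ : Spec.map (CommRingCat.ofHom (algebraMap A' Q.R)) = Q.spec ≫ lineStr A' := by
    rw [RingHom.algebraMap_toAlgebra, CommRingCat.ofHom_comp, Spec.map_comp, he]
    refine hθ.trans ?_
    rw [hQX', Category.assoc, (isPullback_polyMap A A').isoPullback_hom_snd]
  refine subsingleton_H_change A Ω A' QX.R Q.R E (fun a => ?_) (ZMod ℓ) 1
    (h1_shift A' Ω hℓ' halg' (AdjoinRoot.root H) rfl Q hXQ)
  show Λ ((1 : QX.R) ⊗ₜ eA a) = θ (e a)
  simp [Λ, θA, eA]

end Groth.Agent.LAcyc
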