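import Groth.Agent.LAcyc.IntSH
import Groth.Agent.LAcyc.Line
import Mathlib

/-!
# Composition of locally acyclic morphisms
-/

set_option autoImplicit false
set_option backward.isDefEq.respectTransparency false
set_option backward.isDefEq.respectTransparency.types false
set_option linter.style.haveILetI false
set_option linter.unusedSectionVars false
set_option linter.overlappingInstances false
set_option maxHeartbeats 1000000
set_option synthInstance.maxHeartbeats 400000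

universe u

open CategoryTheory CategoryTheory.Limits AlgebraicGeometry Opposite IsLocalRing
open scoped TensorProduct

noncomputable section

namespace Groth.Agent.LAcyc

attribute [local instance 100000] EtCoh.H._proof_1 Groth.Agent.EtMV.hext
attribute [local instance 200000] Groth.Agent.EtMV.hextAb

open EtBCQ (SH mkSH)

theorem isUnit_SH_of_residue {Z : Scheme.{u}} {z : Z} (P : SH Z z) {ℓ : ℕ} (h : (ℓ : Z.residueField z) ≠ 0) :
    IsUnit (ℓ : P.R) := by
  have h1 : IsUnit (ℓ : Z.presheaf.stalk z) := by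
    by_contra h1
    refine h ?_
    have h2 : (Z.residue z).hom (ℓ : Z.presheaf.stalk z) = 0 := (IsLocalRing.residue_eq_zero_iff _).2 h1
    rwa [map_natCast] at h2
  have h3 := h1.map (algebraMap (Z.presheaf.stalk z) P.R)
  rwa [map_natCast] at h3

theorem residue_ne_zero_of_map {X Y : Scheme.{u}} (f : X ⟶ Y) {x : X} {ℓ : ℕ} (h : (ℓ : X.residueField x) ≠ 0) :
    (ℓ : Y.residueField (f.base x)) ≠ 0 := fun h0 => h (by
  rw [← map_natCast (f.residueFieldMap x).hom, h0, map_zero])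

section

variable {X Y : Scheme.{u}} {f : X ⟶ Y} (hf : EtRest.IsLocallyAcyclic f) {x : X} (QY : SH Y (f.base x))
  (QX : SH X x) (φ : QY.R →+* QX.R) [IsLocalHom φ]
  (hφ : Spec.map (CommRingCat.ofHom φ) ≫ QY.spec = QX.spec ≫ f)

include hf hφ in
/-- local acyclicity on all geometric points of a strict localisation -/
theorem acyclic_fibre_point (Ω : Type u) [Field Ω] [IsSepClosed Ω]
    (γ : Spec (CommRingCat.of Ω) ⟶ Spec (CommRingCat.of QY.R)) (n : ℕ) (hn : (n : X.residueField x) ≠ 0) :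
    (∀ q : ℕ, 0 < q → Subsingleton (EtCoh.H (pullback (Spec.map (CommRingCat.ofHom φ)) γ)
      (EtCoh.const (pullback (Spec.map (CommRingCat.ofHom φ)) γ) (ZMod n)) q)) ∧
    Nonempty (EtCoh.H (pullback (Spec.map (CommRingCat.ofHom φ)) γ)
      (EtCoh.const (pullback (Spec.map (CommRingCat.ofHom φ)) γ) (ZMod n)) 0 ≃+ ZMod n) := by
  letI : Algebra QY.R QX.R := φ.toAlgebra
  haveI : IsLocalHom (algebraMap QY.R QX.R) := ‹IsLocalHom φ›
  letI : Algebra QY.R Ω := (Spec.preimage γ).hom.toAlgebra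
  have hγ : Spec.map (CommRingCat.ofHom (algebraMap QY.R Ω)) = γ := Spec.map_preimage γ
  exact EtAcycX.acyclic_const_of_iso ((pullbackSpecIso QY.R QX.R Ω).symm ≪≫ pullback.congrHom rfl hγ)
    (hf x QY.R QX.R (EtBCQ.comp_alg_of_spec f QY QX φ hφ) Ω n hn)

end

variable {X Y Z : Scheme.{u}} {f : X ⟶ Y} {g : Y ⟶ Z} (hf : EtRest.IsLocallyAcyclic f)
  (hg : EtRest.IsLocallyAcyclic g) {x : X} (QZ : SH Z (g.base (f.base x))) (QY : SH Y (f.base x)) (QX : SH X x)
  (φ : QY.R →+* QX.R) [IsLocalHom φ] (hφ : Spec.map (CommRingCat.ofHom φ) ≫ QY.spec = QX.spec ≫ f)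
  (ψ : QZ.R →+* QY.R) [IsLocalHom ψ] (hψ : Spec.map (CommRingCat.ofHom ψ) ≫ QZ.spec = QY.spec ≫ g)
  {ℓ : ℕ} (hℓ : ℓ.Prime) (hx : (ℓ : X.residueField x) ≠ 0)

include hf hg hφ hψ hℓ hx in
/-- acyclicity of the fibres of a composite over algebraic geometric points -/
theorem acyclic_comp_algebraic (y : Spec (CommRingCat.of QZ.R)) (K : Type u) [Field K] [IsSepClosed K]
    [Algebra ((Spec (CommRingCat.of QZ.R)).residueField y) K]
    [Algebra.IsAlgebraic ((Spec (CommRingCat.of QZ.R)).residueField y) K] :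
    (∀ q : ℕ, 0 < q → Subsingleton (EtCoh.H
      (pullback (Spec.map (CommRingCat.ofHom φ) ≫ Spec.map (CommRingCat.ofHom ψ)) (EtAcyc.geomPt _ y K))
      (EtCoh.const _ (ZMod ℓ)) q)) ∧
    Nonempty (EtCoh.H
      (pullback (Spec.map (CommRingCat.ofHom φ) ≫ Spec.map (CommRingCat.ofHom ψ)) (EtAcyc.geomPt _ y K))
      (EtCoh.const _ (ZMod ℓ)) 0 ≃+ ZMod ℓ) := by
  let σ := Spec.map (CommRingCat.ofHom φ)
  let b := Spec.map (CommRingCat.ofHom ψ)
  let t := EtAcyc.geomPt (Spec (CommRingCat.of QZ.R)) y K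
  let V := pullback b t
  let c : V ⟶ Spec (CommRingCat.of QY.R) := pullback.fst b t
  let m := pullback.fst c σ
  haveI : IsAffineHom m := MorphismProperty.pullback_fst _ _ (isAffineHom_of_isAffine σ)
  have hfst : ∀ Ω : Type u, ∀ [Field Ω], ∀ γ : Spec (CommRingCat.of Ω) ⟶ Spec (CommRingCat.of QY.R),
      (ℓ : Ω) ≠ 0 := fun Ω _ γ => by
    rw [← map_natCast (Spec.preimage γ).hom]
    exact ((isUnit_SH_of_residue QY (residue_ne_zero_of_map f hx)).map _).ne_zero
  have hV := acyclic_fibre_point hg QZ QY ψ hψ K t ℓ (residue_ne_zero_of_map f hx)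
  have hgeo : ∀ j, EtAcyc.GeomFibresAcyclicN {ℓ} j m := by
    intro j z Ω _ _ _ _
    let γ := EtAcyc.geomPt V z Ω
    let e : pullback m γ ≅ pullback σ (γ ≫ c) :=
      ((IsPullback.of_hasPullback m γ).paste_horiz (IsPullback.of_hasPullback c σ).flip).isoPullback
    have h := acyclic_fibre_point hf QY QX φ hφ Ω (γ ≫ c) ℓ hx
    obtain ⟨h1, h2⟩ := EtAcycX.nonempty_connected_of_H_zero hℓ.one_lt h.2
    exact EtAcycX.isAcyclicSchemeN_of_iso e.symm ⟨h1, h2, fun p _ hp q hq _ => by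
      obtain rfl : p = ℓ := hp
      exact h.1 q hq⟩
  have hint : IntSH (c ≫ QY.spec) := by
    haveI : WeaklyEtale QY.spec := EtAcycX.weaklyEtale_specOf _ QY.R
    exact intSH_comp (intSH_geomPt b y K (IsPullback.of_hasPullback b t)) (intSH_weaklyEtale QY.spec)
  have hla := EtAcycX.isLocallyAcyclic_of_integral f (c ≫ QY.spec) hf hint
  have hne : ∀ p : (pullback f (c ≫ QY.spec) : Scheme.{u}), (ℓ : (pullback f (c ≫ QY.spec)).residueField p) ≠ 0 :=
    fun p => hfst _ ((pullback f (c ≫ QY.spec)).fromSpecResidueField p ≫ pullback.snd f (c ≫ QY.spec) ≫ c)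
  have hcomp : ∀ q, EtAcyc.CompN m {ℓ} q := fun q =>
    EtAcycX.compN_of_affine m (hgeo q) (onStrict_bc f QY QX φ hφ c
      (EtAcycX.onStrict_of_isLocallyAcyclic hla (fun p hp _ w => by
        obtain rfl : p = ℓ := hp
        exact hne w) (fun w => ⟨ℓ, hℓ.one_lt, hne w⟩) (q - 1)))
  haveI := EtCohDesc.pull_preservesFiniteLimits m
  have hF : EtAcyc.IsLTorsion {ℓ} (EtCoh.const V (ZMod ℓ)) := fun U s w => by
    obtain ⟨V', i, j, hv, hj, h⟩ := EtAcycX.isLTorsion_const_zmod (W := V) hℓ.pos U s w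
    exact ⟨V', i, j, hv, ⟨hj.1, fun p hp hpj => (Nat.prime_dvd_prime_iff_eq hp hℓ).1 (hj.2 p hp hpj).2⟩, h⟩
  have hbij : ∀ q, Function.Bijective (EtCore.Hpull m (EtCoh.const V (ZMod ℓ)) q) := fun q =>
    (hcomp q _ hF).1 q le_rfl
  let e : pullback c σ ≅ pullback (σ ≫ b) t :=
    ((IsPullback.of_hasPullback c σ).flip.paste_vert (IsPullback.of_hasPullback b t)).isoPullback
  have hW : ∀ q, EtCoh.H (pullback c σ) (EtCoh.const _ (ZMod ℓ)) q ≃+
      EtCoh.H V (EtCoh.const V (ZMod ℓ)) q := fun q =>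
    (((EtCoh.HF (pullback c σ) q).mapIso (EtCons.pullConstM m (ZMod ℓ))).addCommGroupIsoToAddEquiv.symm).trans
      (AddEquiv.ofBijective _ (hbij q)).symm
  exact EtAcycX.acyclic_const_of_iso e ⟨fun q hq => @Equiv.subsingleton _ _ (hW q).toEquiv (hV.1 q hq),
    ⟨(hW 0).trans hV.2.some⟩⟩

include hf hg hφ hψ hℓ hx in
/-- acyclicity of the fibres of a composite -/
theorem acyclic_comp (Ω : Type u) [Field Ω] [IsSepClosed Ω]
    (γ : Spec (CommRingCat.of Ω) ⟶ Spec (CommRingCat.of QZ.R)) :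
    (∀ q : ℕ, 0 < q → Subsingleton (EtCoh.H
      (pullback (Spec.map (CommRingCat.ofHom φ) ≫ Spec.map (CommRingCat.ofHom ψ)) γ) (EtCoh.const _ (ZMod ℓ)) q)) ∧
    Nonempty (EtCoh.H
      (pullback (Spec.map (CommRingCat.ofHom φ) ≫ Spec.map (CommRingCat.ofHom ψ)) γ) (EtCoh.const _ (ZMod ℓ)) 0
        ≃+ ZMod ℓ) := by
  let S := Spec (CommRingCat.of QZ.R)
  let y : S := γ.base (closedPoint Ω)
  letI : Algebra (S.residueField y) Ω := (S.descResidueField (Scheme.stalkClosedPointTo γ)).hom.toAlgebra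
  have hγ : EtAcyc.geomPt S y Ω = γ :=
    Scheme.descResidueField_stalkClosedPointTo_fromSpecResidueField (f := γ) ..
  let K := ↥(separableClosure (S.residueField y) Ω)
  haveI : IsSepClosed K := (separableClosure.isSepClosure (S.residueField y) Ω).1
  let σb := Spec.map (CommRingCat.ofHom φ) ≫ Spec.map (CommRingCat.ofHom ψ)
  let t := EtAcyc.geomPt S y K
  have ht : FEtSepBC.st K Ω ≫ t = γ := by
    refine Eq.trans ?_ hγ
    show Spec.map _ ≫ Spec.map _ ≫ _ = Spec.map _ ≫ _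
    rw [← Category.assoc, ← Spec.map_comp, ← CommRingCat.ofHom_comp, ← IsScalarTower.algebraMap_eq]
  obtain ⟨hK, hK0⟩ := acyclic_comp_algebraic hf hg QZ QY QX φ hφ ψ hψ hℓ hx y K
  let a := pullback.snd σb t
  let m := pullback.fst a (FEtSepBC.st K Ω)
  haveI := EtPullExact.pull_preservesFiniteLimits m
  have hℓK : (ℓ : K) ≠ 0 := by
    rw [← map_natCast (Spec.preimage t).hom]
    exact ((isUnit_SH_of_residue QZ (residue_ne_zero_of_map g (residue_ne_zero_of_map f hx))).map _).ne_zero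
  have hF : EtAcyc.IsLTorsion {p | p.Prime ∧ p ≠ ringChar K} (EtCoh.const (pullback σb t) (ZMod ℓ)) := fun U s w => by
    obtain ⟨V', i, j, hv, hj, h⟩ := EtAcycX.isLTorsion_const_zmod (W := pullback σb t) hℓ.pos U s w
    refine ⟨V', i, j, hv, ⟨hj.1, fun p hp hpj => ?_⟩, h⟩
    rw [(Nat.prime_dvd_prime_iff_eq hp hℓ).1 (hj.2 p hp hpj).2]
    exact ⟨hℓ, fun h0 => hℓK (by rw [h0]; exact ringChar.Nat.cast_ringChar)⟩
  let e : pullback a (FEtSepBC.st K Ω) ≅ pullback σb γ :=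
    pullbackLeftPullbackSndIso σb t (FEtSepBC.st K Ω) ≪≫ pullback.congrHom rfl ht
  have hW : ∀ q, EtCoh.H (pullback a (FEtSepBC.st K Ω)) (EtCoh.const _ (ZMod ℓ)) q ≃+
      EtCoh.H (pullback σb t) (EtCoh.const _ (ZMod ℓ)) q := fun q =>
    (((EtCoh.HF (pullback a (FEtSepBC.st K Ω)) q).mapIso (EtCons.pullConstM m (ZMod ℓ))).addCommGroupIsoToAddEquiv.symm).trans
      (AddEquiv.ofBijective _ (bijective_Hpull_field a _ hF q)).symm
  exact EtAcycX.acyclic_const_of_iso e ⟨fun q hq => @Equiv.subsingleton _ _ (hW q).toEquiv (hK q hq),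
    ⟨(hW 0).trans hK0.some⟩⟩

end Groth.Agent.LAcyc
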