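import Groth.Agent.EtAcycX.LCVan
import Groth.Agent.EtAcycX.ConstHens
import Groth.Agent.EtCons.FlcNear
import Groth.Agent.EtCons.UHDescent
import Groth.Agent.EtPBC.StalkZero
import Groth.Agent.EtPBC.Skyscraper
import Groth.Agent.Hensel.HenselizationMore
import Mathlib

/-!
# Sheaves constant on every strict localisation
-/

set_option autoImplicit false
set_option backward.isDefEq.respectTransparency false
set_option backward.isDefEq.respectTransparency.types false
set_option linter.style.haveILetI false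
set_option linter.unusedSectionVars false
set_option linter.overlappingInstances false
set_option maxHeartbeats 1000000
set_option synthInstance.maxHeartbeats 400000

universe u

open CategoryTheory CategoryTheory.Limits AlgebraicGeometry Opposite IsLocalRing

noncomputable section

namespace Groth.Agent.LAcyc

open EtBCQ (SH mkSH)
open EtAcycX (constB)

/-- maps of constant sheaves on strictly henselian spectra which are isomorphisms at the closed point -/
theorem isIso_of_constB (R : Type u) [CommRing R] [HenselianLocalRing R] [IsSepClosed (ResidueField R)]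
    {A B : EtCoh.Ab (Spec (CommRingCat.of R))} {M M' : AddCommGrpCat.{u + 1}}
    (a : A ≅ constB (Spec (CommRingCat.of R)) M) (b : B ≅ constB (Spec (CommRingCat.of R)) M') (φ : A ⟶ B)
    (h : IsIso ((EtCoh.stalk (EtHens.pt R)).map φ)) : IsIso φ := by
  let X := Spec (CommRingCat.of R)
  obtain ⟨g, hg⟩ := (EtAcycX.const_map_bijective (EtAcycX.constTop_henselian R) M M').2 (a.inv ≫ φ ≫ b.hom)
  let c := (constantSheaf X.smallEtaleTopology AddCommGrpCat.{u + 1}).map g
  haveI : IsIso ((EtCoh.stalk (EtHens.pt R)).map c) := by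
    rw [show c = a.inv ≫ φ ≫ b.hom from hg, Functor.map_comp, Functor.map_comp]
    infer_instance
  have hc : Function.Bijective (c.hom.app (op (EtCoh.top X))) := by
    have e : (fun m => (EtCoh.stalk (EtHens.pt R)).map c
        ((Scheme.pointSmallEtale (EtHens.pt R)).toPresheafFiber (EtCoh.top X) (EtHens.pt₀ R) (constB X M).obj m)) =
        fun m => (Scheme.pointSmallEtale (EtHens.pt R)).toPresheafFiber (EtCoh.top X) (EtHens.pt₀ R) (constB X M').obj
          (c.hom.app (op (EtCoh.top X)) m) := by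
      funext m
      exact GrothendieckTopology.Point.toPresheafFiber_naturality_apply
        (Scheme.pointSmallEtale (EtHens.pt R)) c.hom (EtCoh.top X) (EtHens.pt₀ R) m
    refine (Function.Bijective.of_comp_iff' (EtHens.bijective_germ R (constB X M')) _).1 ?_
    have h2 := ((ConcreteCategory.isIso_iff_bijective ((EtCoh.stalk (EtHens.pt R)).map c)).1 inferInstance).comp
      (EtHens.bijective_germ R (constB X M))
    exact (congrArg Function.Bijective e).mp h2
  have hg' : Function.Bijective g := by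
    have e : (fun m => ((EtCore.constAdj X).unit.app M').hom (g m)) =
        fun m => c.hom.app (op (EtCoh.top X)) (((EtCore.constAdj X).unit.app M).hom m) :=
      funext fun m => ConcreteCategory.congr_hom ((EtCore.constAdj X).unit.naturality g) m
    refine (Function.Bijective.of_comp_iff' (EtAcycX.constTop_henselian R M') _).1 ?_
    exact (congrArg Function.Bijective e).mpr (hc.comp (EtAcycX.constTop_henselian R M))
  haveI : IsIso g := (ConcreteCategory.isIso_iff_bijective _).2 hg'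
  have hφ : φ = a.hom ≫ c ≫ b.inv := by
    rw [show c = a.inv ≫ φ ≫ b.hom from hg]
    simp
  rw [hφ]
  infer_instance

/-- generizations lift to the strict localisation -/
theorem exists_lift_spec {X : Scheme.{u}} {x : X} (Q : SH X x) {v : X} (hv : v ⤳ x) :
    ∃ w : Spec (CommRingCat.of Q.R), Q.spec w = v := by
  have hr : v ∈ Set.range (X.fromSpecStalk x) := by rw [Scheme.range_fromSpecStalk]; exact hv
  obtain ⟨p, rfl⟩ := hr
  haveI := Hensel.strictHenselization_faithfullyFlat (X.presheaf.stalk x) Q.R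
  obtain ⟨w, hw⟩ := PrimeSpectrum.comap_surjective_of_faithfullyFlat (A := X.presheaf.stalk x) (B := Q.R) p
  refine ⟨w, ?_⟩
  rw [EtBCQ.SH.spec, Hens2.specOf, Scheme.Hom.comp_apply]
  exact congrArg (X.fromSpecStalk x) hw

/-- kernels and cokernels vanish at generizations -/
theorem zeroAt_of_const {W : Scheme.{u}} {u₀ : W} (Q : SH W u₀) [PreservesFiniteLimits (EtCoh.pull Q.spec)]
    {A B : EtCoh.Ab W} (ψ : A ⟶ B)
    (hA : ∃ M, Nonempty ((EtCoh.pull Q.spec).obj A ≅ constB (Spec (CommRingCat.of Q.R)) M))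
    (hB : ∃ M, Nonempty ((EtCoh.pull Q.spec).obj B ≅ constB (Spec (CommRingCat.of Q.R)) M))
    (hk : EtPBC.ZeroAt (kernel ψ) u₀) (hc : EtPBC.ZeroAt (cokernel ψ) u₀) {v : W} (hv : v ⤳ u₀) :
    EtPBC.ZeroAt (kernel ψ) v ∧ EtPBC.ZeroAt (cokernel ψ) v := by
  obtain ⟨M, ⟨a⟩⟩ := hA
  obtain ⟨M', ⟨b⟩⟩ := hB
  let r := Q.spec
  haveI : (EtCoh.pull r).IsLeftAdjoint := (EtCoh.pullPushAdj r).isLeftAdjoint
  let P := EtCoh.pull r
  let ek := PreservesKernel.iso P ψ
  let ec := PreservesCokernel.iso P ψ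
  have hpt : (EtHens.pt Q.R) (default : Spec (CommRingCat.of (ResidueField Q.R))) = closedPoint Q.R :=
    EtBCQ.Spec_closedPoint' (residue Q.R) ▸ by
      rw [Subsingleton.elim (α := Spec (CommRingCat.of (ResidueField Q.R))) default (closedPoint (ResidueField Q.R))]
  have h0 : IsIso ((EtCoh.stalk (EtHens.pt Q.R)).map (P.map ψ)) := by
    refine (EtCons.isIso_stalk_iff (P.map ψ) (EtHens.pt Q.R)).2 ⟨?_, ?_⟩
    · refine (EtPBC.isZero_stalk_iff_zeroAt hpt _).2 (EtPBC.zeroAt_of_iso ek ?_)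
      exact EtPBC.zeroAt_pull r _ _ (by rw [Q.spec_closed]; exact hk)
    · refine (EtPBC.isZero_stalk_iff_zeroAt hpt _).2 (EtPBC.zeroAt_of_iso ec ?_)
      exact EtPBC.zeroAt_pull r _ _ (by rw [Q.spec_closed]; exact hc)
  haveI := isIso_of_constB Q.R a b (P.map ψ) h0
  obtain ⟨w, rfl⟩ := exists_lift_spec Q hv
  obtain ⟨Ω, _, _, ζ, hζ⟩ := EtPBC.exists_geomPt w
  have hζr : (ζ ≫ r) (default : Spec (CommRingCat.of Ω)) = r w := by
    rw [Scheme.Hom.comp_apply, hζ]
  constructor
  · refine (EtPBC.isZero_stalk_iff_zeroAt hζr _).1 (IsZero.of_iso ?_ ((EtStalk.stalkPullIso r ζ).app _))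
    exact Functor.map_isZero (EtCoh.stalk ζ) ((isZero_kernel_of_mono (P.map ψ)).of_iso ek)
  · refine (EtPBC.isZero_stalk_iff_zeroAt hζr _).1 (IsZero.of_iso ?_ ((EtStalk.stalkPullIso r ζ).app _))
    exact Functor.map_isZero (EtCoh.stalk ζ) ((isZero_cokernel_of_epi (P.map ψ)).of_iso ec)

theorem notMem_supp_of_zeroAt {W : Scheme.{u}} {A : EtCoh.Ab W} {v : W} (h : EtPBC.ZeroAt A v) :
    v ∉ EtPBC.supp A := by
  rintro ⟨Ω, _, _, ξ, hr, hn⟩
  rw [EtCons.range_point_eq, Set.singleton_eq_singleton_iff] at hr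
  exact hn ((EtPBC.isZero_stalk_iff_zeroAt hr _).2 h)

open EtCons in
/-- **constructible sheaves constant on strict localisations are finite locally constant** -/
theorem exists_flc_nhd_of_const {X : Scheme.{u}} (F : EtCoh.Ab X) (hF : EtPBC.IsConstructible F) (x : X)
    (h : ∀ {U : Scheme.{u}} (g : U ⟶ X) [Etale g] (u₀ : U) (Q : SH U u₀), g u₀ = x →
      ∃ M, Nonempty ((EtCoh.pull (Q.spec ≫ g)).obj F ≅ constB (Spec (CommRingCat.of Q.R)) M)) :
    ∃ O : X.Opens, x ∈ O ∧ EtCoh.IsFiniteLocallyConstant ((EtCoh.pull O.ι).obj F) := by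
  classical
  obtain ⟨Ω, _, _, ξ, hξ⟩ := EtPBC.exists_geomPt x
  haveI := finite_stalk_of_isConstructible F hF ξ
  obtain ⟨U, y, M, iM, fM, σ, hcard, hinj⟩ := exists_hom_germs F ξ
  haveI : Etale U.hom := U.prop
  haveI := EtMV.jcont_etale U.hom
  let y₁ : Over.mk ξ ⟶ (Scheme.Etale.forget X).obj U := y
  obtain ⟨η, hη⟩ : ∃ η : Spec (CommRingCat.of Ω) ⟶ U.left, η = y₁.left := ⟨_, rfl⟩
  have hηξ : η ≫ U.hom = ξ := by rw [hη]; exact Over.w y₁
  subst hηξ
  have hy : y = ptU U η := Over.OverMorphism.ext hη.symm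
  subst hy
  have hbij : Function.Bijective
      (fun m => (Scheme.pointSmallEtale (η ≫ U.hom)).toPresheafFiber U (ptU U η) F.obj (σ m)) := by
    haveI : Finite (((Scheme.pointSmallEtale (η ≫ U.hom)).presheafFiber (A := AddCommGrpCat.{u + 1})).obj F.obj) :=
      (inferInstanceAs (Finite ((EtCoh.stalk (η ≫ U.hom)).obj F)))
    refine Function.Injective.bijective_of_nat_card_le (fun a b hab => ?_) hcard.ge
    refine sub_eq_zero.1 (hinj _ ?_)
    rw [map_sub, map_sub]
    exact sub_eq_zero.2 hab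
  let u₀ : U.left := η (default : Spec (CommRingCat.of Ω))
  let ψ := psi F U σ
  let F' := (EtShriek.restrAlong U.hom).obj F
  have hR : EtPBC.IsConstructible F' :=
    isConstructible_of_iso ((EtPushStalk.restrPullIso U.hom).app F).symm (isConstructible_pull U.hom hF)
  obtain ⟨hk, hc⟩ := isConstructible_kernel_cokernel ψ (isConstructible_const M) hR
  have hiso0 : IsIso ((EtCoh.stalk η).map ψ) := (isIso_stalk_psi_iff F U σ η).2 hbij
  have hz0 := (isIso_stalk_iff ψ η).1 hiso0
  have hk0 := (EtPBC.isZero_stalk_iff_zeroAt (ξ := η) (x := u₀) rfl _).1 hz0.1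
  have hc0 := (EtPBC.isZero_stalk_iff_zeroAt (ξ := η) (x := u₀) rfl _).1 hz0.2
  let Q := mkSH U.left u₀
  haveI := EtCohDesc.pull_preservesFiniteLimits Q.spec
  have hA : ∃ N, Nonempty ((EtCoh.pull Q.spec).obj (EtCoh.const U.left M) ≅ constB (Spec (CommRingCat.of Q.R)) N) :=
    ⟨_, ⟨(EtCore.pullConstIso Q.spec).app _⟩⟩
  have hB : ∃ N, Nonempty ((EtCoh.pull Q.spec).obj F' ≅ constB (Spec (CommRingCat.of Q.R)) N) := by
    obtain ⟨N, ⟨i⟩⟩ := h U.hom u₀ Q hξ
    obtain ⟨p⟩ := nonempty_pull_pull Q.spec U.hom (Q.spec ≫ U.hom) rfl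
    exact ⟨N, ⟨(EtCoh.pull Q.spec).mapIso ((EtPushStalk.restrPullIso U.hom).app F) ≪≫ p.app F ≪≫ i⟩⟩
  have hgen : ∀ v : U.left, v ⤳ u₀ → v ∉ EtPBC.supp (kernel ψ) ∧ v ∉ EtPBC.supp (cokernel ψ) := fun v hv =>
    (zeroAt_of_const Q ψ hA hB hk0 hc0 hv).imp notMem_supp_of_zeroAt notMem_supp_of_zeroAt
  have h1 : u₀ ∉ closure (EtPBC.supp (kernel ψ)) := fun hu => by
    obtain ⟨v, hv, hvu⟩ := ConsEngine.exists_specializes_of_mem_closure (isLocallyConstructible_supp hk) hu
    exact (hgen v hvu).1 hv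
  have h2 : u₀ ∉ closure (EtPBC.supp (cokernel ψ)) := fun hu => by
    obtain ⟨v, hv, hvu⟩ := ConsEngine.exists_specializes_of_mem_closure (isLocallyConstructible_supp hc) hu
    exact (hgen v hvu).2 hv
  let O : U.left.Opens := ⟨(closure (EtPBC.supp (kernel ψ)) ∪ closure (EtPBC.supp (cokernel ψ)))ᶜ,
    (isClosed_closure.union isClosed_closure).isOpen_compl⟩
  let g : U.left ⟶ X := U.hom
  haveI : Etale g := U.prop
  let U' : X.Etale := Scheme.Etale.mk (O.ι ≫ g)
  let i : U' ⟶ U := MorphismProperty.Over.homMk O.ι rfl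
  let σ' : M →+ EtCoh.sect F U' := (EtFLC.res F i).comp σ
  have htriv : EtFLC.IsTriv F U' σ' := by
    refine isTriv_of_bijective_germs F σ' fun Ω' _ _ ζ z => ?_
    let z₁ : Over.mk ζ ⟶ (Scheme.Etale.forget X).obj U' := z
    obtain ⟨η', hη'⟩ : ∃ η' : Spec (CommRingCat.of Ω') ⟶ U.left, η' = z₁.left ≫ O.ι := ⟨_, rfl⟩
    have hw : η' ≫ U.hom = ζ := by rw [hη', Category.assoc]; exact Over.w z₁
    subst hw
    have hv : η' (default : Spec (CommRingCat.of Ω')) ∈ O := by rw [hη']; exact (z₁.left (default : Spec (CommRingCat.of Ω'))).2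
    have hi : IsIso ((EtCoh.stalk η').map ψ) := (isIso_stalk_iff ψ η').2
      ⟨isZero_of_notMem_supp η' fun hm => hv (Or.inl (subset_closure hm)),
        isZero_of_notMem_supp η' fun hm => hv (Or.inr (subset_closure hm))⟩
    have hz : (Scheme.pointSmallEtale (η' ≫ U.hom)).fiber.map i z = ptU U η' := Over.OverMorphism.ext hη'.symm
    have e : (fun m => (Scheme.pointSmallEtale (η' ≫ U.hom)).toPresheafFiber U' z F.obj (σ' m)) =
        fun m => (Scheme.pointSmallEtale (η' ≫ U.hom)).toPresheafFiber U (ptU U η') F.obj (σ m) := by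
      funext m
      rw [← hz]
      exact GrothendieckTopology.Point.toPresheafFiber_w_apply _ _ _ _ _
    rw [e]
    exact (isIso_stalk_psi_iff F U σ η').1 hi
  haveI : Etale U'.hom := U'.prop
  let O' : X.Opens := ⟨Set.range U'.hom, (Scheme.Hom.isOpenMap U'.hom).isOpen_range⟩
  refine ⟨O', ⟨⟨u₀, fun hu => hu.elim h1 h2⟩, ?_⟩, isFLC_pull_range F U' σ' htriv O' subset_rfl⟩
  exact hξ

theorem isFLC_of_const {X : Scheme.{u}} (F : EtCoh.Ab X) (hF : EtPBC.IsConstructible F)
    (h : ∀ {U : Scheme.{u}} (g : U ⟶ X) [Etale g] (u₀ : U) (Q : SH U u₀),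
      ∃ M, Nonempty ((EtCoh.pull (Q.spec ≫ g)).obj F ≅ constB (Spec (CommRingCat.of Q.R)) M)) :
    EtCoh.IsFiniteLocallyConstant F := by
  choose O hO hOF using fun x : X => exists_flc_nhd_of_const F hF x fun g _ u₀ Q _ => h g u₀ Q
  refine EtCons.isFLC_of_openCover O ?_ hOF
  exact eq_top_iff.2 fun x _ => TopologicalSpace.Opens.mem_iSup.2 ⟨x, hO x⟩

end Groth.Agent.LAcyc
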