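import Groth.Agent.LAcyc.FieldULoc

/-!
# Invariance of étale cohomology under extensions of separably closed fields
-/

set_option autoImplicit false
set_option backward.isDefEq.respectTransparency false
set_option backward.isDefEq.respectTransparency.types false
set_option linter.style.haveILetI false
set_option linter.unusedSectionVars false
set_option linter.overlappingInstances false
set_option maxHeartbeats 1000000
set_option synthInstance.maxHeartbeats 400000

universe u

open CategoryTheory CategoryTheory.Limits AlgebraicGeometry Opposite IsLocalRing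

noncomputable section

namespace Groth.Agent.LAcyc

attribute [local instance 100000] EtCoh.H._proof_1 Groth.Agent.EtMV.hext
attribute [local instance 200000] Groth.Agent.EtMV.hextAb

theorem subsingleton_spec_field (k : Type u) [Field k] : Subsingleton ↥(Spec (CommRingCat.of k)) :=
  inferInstanceAs (Subsingleton (PrimeSpectrum k))

/-- geometric points of the spectrum of a separably closed field are universal homeomorphisms -/
theorem univHomeo_geomPt {k : Type u} [Field k] [IsSepClosed k] (y : ↥(Spec (CommRingCat.of k))) (Ω : Type u)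
    [Field Ω] [Algebra ((Spec (CommRingCat.of k)).residueField y) Ω]
    [Algebra.IsAlgebraic ((Spec (CommRingCat.of k)).residueField y) Ω] :
    IsIntegralHom (EtAcyc.geomPt _ y Ω) ∧ UniversallyInjective (EtAcyc.geomPt _ y Ω) ∧
      Surjective (EtAcyc.geomPt _ y Ω) := by
  let S := Spec (CommRingCat.of k)
  haveI := subsingleton_spec_field k
  haveI : IsSepClosed (S.residueField y) := by
    haveI : y.asIdeal.IsMaximal := by
      rw [(Ideal.eq_bot_or_top y.asIdeal).resolve_right y.isPrime.ne_top]
      exact Ring.isField_iff_maximal_bot.1 (Field.toIsField _)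
    exact Hensel.isSepClosed_of_ringEquiv ((RingEquiv.ofBijective
      (algebraMap k y.asIdeal.ResidueField)
      ⟨RingHom.injective _, y.asIdeal.algebraMap_residueField_surjective⟩).trans
      (Scheme.Spec.residueFieldIso (CommRingCat.of k) y).symm.commRingCatIsoToRingEquiv)
  haveI : IsPurelyInseparable (S.residueField y) Ω := inferInstance
  haveI : IsClosedImmersion (S.fromSpecResidueField y) :=
    IsClosedImmersion.of_isPreimmersion _ (by
      rw [S.range_fromSpecResidueField, show ({y} : Set S) = Set.univ from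
        Set.eq_univ_of_forall fun t => @Subsingleton.elim _ (subsingleton_spec_field k) t y]
      exact isClosed_univ)
  haveI : Surjective (S.fromSpecResidueField y) :=
    ⟨fun t => ⟨closedPoint _, @Subsingleton.elim _ (subsingleton_spec_field k) _ t⟩⟩
  obtain ⟨h1, h2, h3⟩ := univHomeo_specMap (S.residueField y) Ω
  exact ⟨MorphismProperty.comp_mem _ _ _ h1 inferInstance,
    MorphismProperty.comp_mem _ _ _ h2 (inferInstanceAs (UniversallyInjective (S.fromSpecResidueField y))),
    MorphismProperty.comp_mem _ _ _ h3 inferInstance⟩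

theorem isAcyclicSchemeN_field_fibre {k K : Type u} [Field k] [Field K] [IsSepClosed K] [Algebra k K] {W : Scheme.{u}}
    (γ : W ⟶ Spec (CommRingCat.of k)) [IsIntegralHom γ] [UniversallyInjective γ] [Surjective γ] (L : Set ℕ) (n : ℕ) :
    EtAcyc.IsAcyclicSchemeN L n (pullback (FEtSepBC.st k K) γ) := by
  let m := pullback.fst (FEtSepBC.st k K) γ
  haveI : IsIntegralHom m := MorphismProperty.pullback_fst _ _ ‹_›
  haveI : UniversallyInjective m := MorphismProperty.pullback_fst _ _ ‹_›
  haveI : Surjective m := MorphismProperty.pullback_fst _ _ ‹_›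
  haveI := subsingleton_spec_field K
  haveI : Subsingleton ↥(pullback (FEtSepBC.st k K) γ) :=
    ⟨fun a b => m.injective (Subsingleton.elim (m a) (m b))⟩
  haveI : Nonempty ↥(pullback (FEtSepBC.st k K) γ) := ⟨(m.surjective (closedPoint K)).choose⟩
  refine ⟨inferInstance, ⟨‹_›⟩, fun ℓ hℓ hℓL q hq hqn => ?_⟩
  haveI := EtPullExact.pull_preservesFiniteLimits m
  haveI := EtPBC.subsingleton_H_sepClosed K (EtCoh.const (Spec (CommRingCat.of K)) (ZMod ℓ)) q (by omega)
  haveI : Subsingleton (EtCoh.H (pullback (FEtSepBC.st k K) γ)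
      ((EtCoh.pull m).obj (EtCoh.const (Spec (CommRingCat.of K)) (ZMod ℓ))) q) :=
    (Groth.Agent.S0642.result m (EtCoh.const (Spec (CommRingCat.of K)) (ZMod ℓ)) q).2.subsingleton
  exact EtPBC.subsingleton_H_of_iso (EtCore.pullConst m (ZMod ℓ)) q inferInstance

/-- **extensions of separably closed fields are universally acyclic** -/
theorem isAcyclicN_field {k K : Type u} [Field k] [IsSepClosed k] [Field K] [IsSepClosed K] [Algebra k K]
    {Z : Scheme.{u}} (a : Z ⟶ Spec (CommRingCat.of k)) (n : ℕ) :
    EtAcyc.IsAcyclicN (pullback.fst a (FEtSepBC.st k K)) {ℓ | ℓ.Prime ∧ ℓ ≠ ringChar k} n := by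
  haveI : IsSepClosed (ResidueField k) := Hensel.isSepClosed_of_ringEquiv
    (RingEquiv.ofBijective (residue k) ⟨(residue k).injective, residue_surjective⟩)
  haveI : IsSepClosed (ResidueField K) := Hensel.isSepClosed_of_ringEquiv
    (RingEquiv.ofBijective (residue K) ⟨(residue K).injective, residue_surjective⟩)
  refine isAcyclicN_bc (ψ := algebraMap k K) ?_ (fun Z c => onStrict_field c n) a
  intro y Ω _ _ _ _
  obtain ⟨h1, h2, h3⟩ := univHomeo_geomPt y Ω
  exact isAcyclicSchemeN_field_fibre (EtAcyc.geomPt _ y Ω) _ n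

theorem isUAcyclicN_field (k K : Type u) [Field k] [IsSepClosed k] [Field K] [IsSepClosed K] [Algebra k K] (n : ℕ) :
    EtAcyc.IsUAcyclicN (Spec.map (CommRingCat.ofHom (algebraMap k K))) {ℓ | ℓ.Prime ∧ ℓ ≠ ringChar k} n := by
  intro X₁ Y₁ g₁ b' b sq
  rw [← sq.flip.isoPullback_hom_fst]
  exact (EtAcycX.isAcyclicN_comp_iff sq.flip.isoPullback.hom _ (isAcyclicN_of_isIso _ _ _)).1 (isAcyclicN_field b n)

/-- **invariance** of cohomology of torsion sheaves under extensions of separably closed fields -/
theorem bijective_Hpull_field {k K : Type u} [Field k] [IsSepClosed k] [Field K] [IsSepClosed K] [Algebra k K]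
    {X : Scheme.{u}} (a : X ⟶ Spec (CommRingCat.of k)) (F : EtCoh.Ab X)
    (hF : EtAcyc.IsLTorsion {ℓ | ℓ.Prime ∧ ℓ ≠ ringChar k} F)
    [PreservesFiniteLimits (EtCoh.pull (pullback.fst a (FEtSepBC.st k K)))] (q : ℕ) :
    Function.Bijective (EtCore.Hpull (pullback.fst a (FEtSepBC.st k K)) F q) :=
  (compN_of_isAcyclicN _ (isAcyclicN_field a q) F hF).1 q le_rfl

theorem primes_of_invertibleOn (k : Type u) [Field k] :
    EtAcyc.primesInvertibleOn (Spec (CommRingCat.of k)) ⊆ {ℓ | ℓ.Prime ∧ ℓ ≠ ringChar k} := fun ℓ hℓ =>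
  ⟨hℓ.1, fun h => hℓ.2 (closedPoint k) (by
    let f := (Spec.preimage ((Spec (CommRingCat.of k)).fromSpecResidueField (closedPoint k))).hom
    rw [← map_natCast f, h, CharP.cast_eq_zero, map_zero])⟩

end Groth.Agent.LAcyc
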