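import Groth.Agent.LAcyc.Limit
import Groth.Agent.LAcyc.Transfer2
import Mathlib.RingTheory.Smooth.Locus
import Mathlib.RingTheory.Smooth.Field
import Mathlib.FieldTheory.PurelyInseparable.PerfectClosure

/-!
# Field extensions are universally locally acyclic
-/

set_option autoImplicit false
set_option backward.isDefEq.respectTransparency false
set_option backward.isDefEq.respectTransparency.types false
set_option linter.style.haveILetI false
set_option linter.unusedSectionVars false
set_option linter.overlappingInstances false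
set_option maxHeartbeats 1000000
set_option synthInstance.maxHeartbeats 400000

universe u

open CategoryTheory CategoryTheory.Limits AlgebraicGeometry Opposite IsLocalRing

noncomputable section

namespace Groth.Agent.LAcyc

attribute [local instance 100000] EtCoh.H._proof_1 Groth.Agent.EtMV.hext
attribute [local instance 200000] Groth.Agent.EtMV.hextAb

/-- extensions of a perfect field are unions of smooth subalgebras -/
theorem exists_smooth_ge {k K : Type u} [Field k] [PerfectField k] [Field K] [Algebra k K]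
    (L : FEtSepBC.FGSub k K) : ∃ L' : FEtSepBC.FGSub k K, L ≤ L' ∧ Algebra.Smooth k L'.1 := by
  haveI : Algebra.FiniteType k L.1 := (Subalgebra.fg_iff_finiteType _).1 L.2
  haveI : Algebra.FinitePresentation k L.1 := Algebra.FinitePresentation.of_finiteType.mp inferInstance
  haveI : (⊥ : Ideal L.1).IsPrime := Ideal.isPrime_bot
  let Q := Localization.AtPrime (⊥ : Ideal L.1)
  have hQ : IsField Q := by
    rw [IsLocalRing.isField_iff_maximalIdeal_eq, ← Localization.AtPrime.map_eq_maximalIdeal, Ideal.map_bot]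
  letI : Field Q := hQ.toField
  haveI : Algebra.EssFiniteType k Q := Algebra.EssFiniteType.comp k L.1 Q
  haveI : Algebra.IsSmoothAt k (⊥ : Ideal L.1) := (inferInstance : Algebra.FormallySmooth k Q)
  obtain ⟨f, hf', hsm⟩ := Algebra.IsSmoothAt.exists_notMem_smooth k (⊥ : Ideal L.1)
  have hf : f ≠ 0 := fun h => hf' (h ▸ zero_mem _)
  let C := Localization.Away f
  have hu : IsUnit (algebraMap L.1 K f) := isUnit_iff_ne_zero.2 fun h => hf (Subtype.ext h)
  let ψ : C →ₐ[L.1] K :=
    IsLocalization.liftAlgHom (M := Submonoid.powers f) (f := Algebra.ofId L.1 K) (by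
      rintro ⟨_, n, rfl⟩
      show IsUnit (algebraMap L.1 K (f ^ n))
      rw [map_pow]
      exact hu.pow n)
  have hψ : Function.Injective ψ := by
    refine (injective_iff_map_eq_zero ψ).2 fun c hc => ?_
    obtain ⟨⟨a, s⟩, has⟩ := IsLocalization.surj (Submonoid.powers f) c
    have h0 : ψ (algebraMap L.1 C a) = 0 := by rw [← has, map_mul, hc, zero_mul]
    rw [AlgHom.commutes] at h0
    have ha : a = 0 := Subtype.ext h0
    rw [ha, map_zero] at has
    exact (IsLocalization.map_units C s).mul_left_eq_zero.1 has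
  let φ : C →ₐ[k] K := ψ.restrictScalars k
  haveI : Algebra.FiniteType k C := inferInstance
  refine ⟨⟨φ.range, ?_⟩, ?_, ?_⟩
  · rw [← Algebra.map_top]
    exact (Algebra.FiniteType.out (R := k) (A := C)).map φ
  · intro x hx
    exact ⟨algebraMap L.1 C ⟨x, hx⟩, ψ.commutes ⟨x, hx⟩⟩
  · exact Algebra.Smooth.of_equiv (AlgEquiv.ofInjective φ hψ)

theorem natCast_ne_zero_of_ne_ringChar {k : Type u} [Field k] {ℓ : ℕ} (hℓ : ℓ.Prime) (h : ℓ ≠ ringChar k) :
    (ℓ : k) ≠ 0 := fun h0 => by
  rw [ringChar.spec] at h0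
  rcases CharP.char_is_prime_or_zero k (ringChar k) with hp | hp
  · exact h ((Nat.prime_dvd_prime_iff_eq hp hℓ).1 h0).symm
  · rw [hp] at h0
    exact hℓ.ne_zero (zero_dvd_iff.1 h0)

theorem mem_primesInvertibleOn_of_field {k : Type u} [Field k] {X : Scheme.{u}} (a : X ⟶ Spec (CommRingCat.of k))
    {ℓ : ℕ} (hℓ : ℓ.Prime) (h : ℓ ≠ ringChar k) : ℓ ∈ EtAcyc.primesInvertibleOn X := ⟨hℓ, fun x => by
  let f := (Spec.preimage (X.fromSpecResidueField x ≫ a)).hom
  rw [← map_natCast f]
  exact (map_ne_zero f).2 (natCast_ne_zero_of_ne_ringChar hℓ h)⟩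

theorem geomFibresAcyclicN_mono {X Y : Scheme.{u}} {m : X ⟶ Y} {L L' : Set ℕ} (hL : ∀ ℓ, ℓ.Prime → ℓ ∈ L → ℓ ∈ L')
    {n : ℕ} (h : EtAcyc.GeomFibresAcyclicN L' n m) : EtAcyc.GeomFibresAcyclicN L n m := fun y Ω _ _ _ _ => by
  obtain ⟨h1, h2, h3⟩ := h y Ω
  exact ⟨h1, h2, fun p hp hp' => h3 p hp (hL p hp hp')⟩

theorem onStrict_fibres_setMono {X Y : Scheme.{u}} (g : X ⟶ Y) {L L' : Set ℕ} (hL : ∀ ℓ, ℓ.Prime → ℓ ∈ L → ℓ ∈ L')
    {n : ℕ} (h : EtAcyc.OnStrictLocalizations g (fun _ _ m => EtAcyc.GeomFibresAcyclicN L' n m)) :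
    EtAcyc.OnStrictLocalizations g (fun _ _ m => EtAcyc.GeomFibresAcyclicN L n m) :=
  fun x RY RX _ _ _ _ _ _ _ _ _ _ _ _ hc => geomFibresAcyclicN_mono hL (h x RY RX hc)

/-- the case of a perfect ground field -/
theorem onStrict_field_perfect {k K : Type u} [Field k] [PerfectField k] [Field K] [Algebra k K] {Y : Scheme.{u}}
    (a : Y ⟶ Spec (CommRingCat.of k)) (n : ℕ) :
    EtAcyc.OnStrictLocalizations (pullback.fst a (FEtSepBC.st k K))
      (fun _ _ m => EtAcyc.GeomFibresAcyclicN {ℓ | ℓ.Prime ∧ ℓ ≠ ringChar k} n m) := by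
  refine onStrict_fibres_limit (FEtSepBC.isLimitCone a (K := K)) _
    (fun L => pullback.fst a (FEtSepBC.st k L.unop.1)) (fun L => FEtSepBC.bcm_fst a _)
    (fun h => FEtSepBC.bcm_fst a _) fun L => ?_
  obtain ⟨L', hle, hsm⟩ := exists_smooth_ge L
  refine ⟨L', hle, ?_⟩
  haveI : Smooth (FEtSepBC.st k L'.1) :=
    (HasRingHomProperty.Spec_iff (P := @Smooth)).2 (RingHom.smooth_algebraMap.2 hsm)
  haveI : Smooth (pullback.fst a (FEtSepBC.st k L'.1)) := MorphismProperty.pullback_fst _ _ ‹_›
  exact onStrict_fibres_setMono (pullback.fst a (FEtSepBC.st k L'.1))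
    (fun ℓ hℓ hℓL => mem_primesInvertibleOn_of_field (pullback.fst a (FEtSepBC.st k L'.1) ≫ a) hℓ hℓL.2)
    (onStrict_fibres_smooth (pullback.fst a (FEtSepBC.st k L'.1)) n)

theorem univHomeo_specMap (k K : Type u) [Field k] [Field K] [Algebra k K] [IsPurelyInseparable k K] :
    IsIntegralHom (FEtSepBC.st k K) ∧ UniversallyInjective (FEtSepBC.st k K) ∧ Surjective (FEtSepBC.st k K) := by
  refine ⟨?_, EtAcycX.universallyInjective_specMap k K,
    ⟨fun t => ⟨default, Subsingleton.elim (α := PrimeSpectrum k) _ _⟩⟩⟩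
  rw [IsIntegralHom.SpecMap_iff]
  exact fun x => Algebra.IsIntegral.isIntegral x

/-- the transfer step: compatible purely inseparable extensions of both fields -/
theorem onStrict_field_of_tower {k K k' K' : Type u} [Field k] [Field K] [Algebra k K] [Field k'] [Algebra k k']
    [IsPurelyInseparable k k'] [Field K'] [Algebra K K'] [IsPurelyInseparable K K'] [Algebra k' K'] [PerfectField k']
    [Algebra k K'] [IsScalarTower k k' K'] [IsScalarTower k K K'] {Y : Scheme.{u}}
    (a : Y ⟶ Spec (CommRingCat.of k)) (n : ℕ) :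
    EtAcyc.OnStrictLocalizations (pullback.fst a (FEtSepBC.st k K))
      (fun _ _ m => EtAcyc.GeomFibresAcyclicN {ℓ | ℓ.Prime ∧ ℓ ≠ ringChar k} n m) := by
  let v := pullback.fst a (FEtSepBC.st k k')
  let a' := pullback.snd a (FEtSepBC.st k k')
  let g' := pullback.fst a' (FEtSepBC.st k' K')
  obtain ⟨hk1, hk2, hk3⟩ := univHomeo_specMap k k'
  obtain ⟨hK1, hK2, hK3⟩ := univHomeo_specMap K K'
  haveI : IsIntegralHom v := MorphismProperty.pullback_fst _ _ hk1
  haveI : UniversallyInjective v := MorphismProperty.pullback_fst _ _ hk2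
  haveI : Surjective v := MorphismProperty.pullback_fst _ _ hk3
  have hb : IsPullback (g' ≫ v) (pullback.snd a' (FEtSepBC.st k' K')) a
      (FEtSepBC.st k' K' ≫ FEtSepBC.st k k') :=
    (IsPullback.of_hasPullback a' (FEtSepBC.st k' K')).paste_horiz (IsPullback.of_hasPullback a (FEtSepBC.st k k'))
  have hst : FEtSepBC.st k' K' ≫ FEtSepBC.st k k' = FEtSepBC.st K K' ≫ FEtSepBC.st k K := by
    rw [← Spec.map_comp, ← Spec.map_comp, ← CommRingCat.ofHom_comp, ← CommRingCat.ofHom_comp,
      ← IsScalarTower.algebraMap_eq, ← IsScalarTower.algebraMap_eq]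
  rw [hst] at hb
  let i : pullback a' (FEtSepBC.st k' K') ⟶ pullback a (FEtSepBC.st k K) :=
    pullback.lift (g' ≫ v) (pullback.snd a' (FEtSepBC.st k' K') ≫ FEtSepBC.st K K')
      (by rw [hb.w, Category.assoc])
  have hi : IsPullback i (pullback.snd a' (FEtSepBC.st k' K')) (pullback.snd a (FEtSepBC.st k K)) (FEtSepBC.st K K') :=
    IsPullback.of_right (by rw [pullback.lift_fst]; exact hb) (pullback.lift_snd _ _ _) (IsPullback.of_hasPullback _ _)
  haveI : IsIntegralHom i := MorphismProperty.of_isPullback hi.flip hK1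
  haveI : UniversallyInjective i := MorphismProperty.of_isPullback hi.flip hK2
  haveI : Surjective i := MorphismProperty.of_isPullback hi.flip hK3
  refine onStrict_fibres_transfer (g' := g') i v (pullback.lift_fst _ _ _) ?_
  haveI : CharP k' (ringChar k) := charP_of_injective_algebraMap (algebraMap k k').injective (ringChar k)
  have hc : ringChar k' = ringChar k := ringChar.eq k' (ringChar k)
  have h := onStrict_field_perfect (K := K') a' n
  rwa [hc] at h

/-- base changes of field extensions have acyclic fibres on strict localisations -/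
theorem onStrict_field {k K : Type u} [Field k] [Field K] [Algebra k K] {Y : Scheme.{u}}
    (a : Y ⟶ Spec (CommRingCat.of k)) (n : ℕ) :
    EtAcyc.OnStrictLocalizations (pullback.fst a (FEtSepBC.st k K))
      (fun _ _ m => EtAcyc.GeomFibresAcyclicN {ℓ | ℓ.Prime ∧ ℓ ≠ ringChar k} n m) := by
  let E := AlgebraicClosure K
  let k' := perfectClosure k E
  let K' := perfectClosure K E
  let j : k' →+* K' := RingHom.codRestrict (algebraMap k' E) K'.toSubring fun x => by
    obtain ⟨m, c, hc⟩ := (mem_perfectClosure_iff (F := k) (E := E)).1 x.2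
    refine (mem_perfectClosure_iff (F := K) (E := E)).2 ⟨m, algebraMap k K c, ?_⟩
    have he : ringExpChar k = ringExpChar K :=
      haveI : ExpChar K (ringExpChar k) := expChar_of_injective_algebraMap (algebraMap k K).injective (ringExpChar k)
      (ringExpChar.eq K (ringExpChar k)).symm
    rw [← IsScalarTower.algebraMap_apply k K E, hc, he]
    rfl
  letI : Algebra k' K' := j.toAlgebra
  haveI : IsScalarTower k k' K' := IsScalarTower.of_algebraMap_eq fun c => Subtype.ext rfl
  haveI : IsScalarTower k K K' := inferInstance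
  exact onStrict_field_of_tower (k' := k') (K' := K') a n

/-- **field extensions are universally locally acyclic** -/
theorem isULocAcyclicN_field (k K : Type u) [Field k] [Field K] [Algebra k K] (n : ℕ) :
    EtAcyc.IsULocAcyclicN (Spec.map (CommRingCat.ofHom (algebraMap k K))) {ℓ | ℓ.Prime ∧ ℓ ≠ ringChar k} n := by
  intro X₁ Y₁ g₁ b' b sq
  refine EtAcycX.isLocAcyclicN_of_fibres g₁ ?_
  refine EtAcycX.onStrict_of_weaklyEtale sq.flip.isoPullback.hom (𝟙 Y₁) ?_ (onStrict_field b n)
  rw [Category.comp_id]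
  exact sq.flip.isoPullback_hom_fst

end Groth.Agent.LAcyc
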