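import Groth.Agent.LAcyc.Smooth
import Groth.Agent.EtPBC.AllBC
import Groth.Agent.EtAcycX.CompBC
import Groth.Agent.EtBCQ.Chase
import Groth.Agent.DCohShriek.CoherentMain
import Groth.Agent.GRingCpl.ConnFibre
import Groth.Agent.FEtSepBC.Stage

/-!
# Universal local acyclicity: fibres at arbitrary geometric points

For a local map `R → R'` of strictly henselian rings all of whose base changes are locally acyclic, the fibres at
all geometric points (algebraic or not) are acyclic: compactify and use proper base change.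
-/

set_option autoImplicit false
set_option backward.isDefEq.respectTransparency false
set_option backward.isDefEq.respectTransparency.types false
set_option linter.style.haveILetI false
set_option linter.unusedSectionVars false
set_option linter.overlappingInstances false
set_option maxHeartbeats 1000000
set_option synthInstance.maxHeartbeats 400000

universe u

open CategoryTheory CategoryTheory.Limits CategoryTheory.Abelian AlgebraicGeometry Opposite IsLocalRing

noncomputable section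

namespace Groth.Agent.LAcyc

attribute [local instance 100000] EtCoh.H._proof_1 Groth.Agent.EtMV.hext
attribute [local instance 200000] Groth.Agent.EtMV.hextAb

open EtBCQ (SH)

/-- `n`-acyclic morphisms compare cohomology -/
theorem compN_of_isAcyclicN {X Y : Scheme.{u}} (g : X ⟶ Y) {L : Set ℕ} {n : ℕ} (h : EtAcyc.IsAcyclicN g L n) :
    EtAcyc.CompN g L n := by
  let θ : X ⟶ pullback (EtCoh.top Y).hom g := pullback.lift g (𝟙 X)
    (show g ≫ 𝟙 Y = 𝟙 X ≫ g by rw [Category.comp_id, Category.id_comp])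
  have h2 : θ ≫ pullback.snd (EtCoh.top Y).hom g = 𝟙 X := pullback.lift_snd _ _ _
  haveI : IsIso (pullback.snd (EtCoh.top Y).hom g) := by
    haveI : IsIso (EtCoh.top Y).hom := inferInstanceAs (IsIso (𝟙 Y))
    infer_instance
  haveI : IsIso θ := by
    have h3 : θ = inv (pullback.snd (EtCoh.top Y).hom g) := IsIso.eq_inv_of_inv_hom_id h2
    rw [h3]
    infer_instance
  have h1 : θ ≫ EtAcyc.prj g (EtCoh.top Y) = g := pullback.lift_fst _ _ _
  exact h1 ▸ EtAcycX.compN_congr θ _ (h (EtCoh.top Y))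

theorem onStrict_mono {X Y : Scheme.{u}} (g : X ⟶ Y) {L : Set ℕ} {n n' : ℕ} (hn : n' ≤ n)
    (h : EtAcyc.OnStrictLocalizations g (fun _ _ m => EtAcyc.GeomFibresAcyclicN L n m)) :
    EtAcyc.OnStrictLocalizations g (fun _ _ m => EtAcyc.GeomFibresAcyclicN L n' m) :=
  fun x RY RX _ _ _ _ _ _ _ _ _ _ _ _ hc => EtAcycX.geomFibresAcyclicN_of_le hn (h x RY RX hc)

/-- classes in a limit which come from stages comparing with acyclic schemes vanish -/
theorem subsingleton_of_stages {I : Type u} [Category.{u} I] [IsCofiltered I] {D : I ⥤ Scheme.{u}}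
    [∀ {i j : I} (h : i ⟶ j), IsAffineHom (D.map h)] [∀ i, CompactSpace (D.obj i)]
    [∀ i, QuasiSeparatedSpace (D.obj i)] {c : Cone D} (hc : IsLimit c) {S : Scheme.{u}} (p : ∀ i, D.obj i ⟶ S)
    (hp : ∀ {i j : I} (h : i ⟶ j), D.map h ≫ p j = p i) (g : c.pt ⟶ S) (hg : ∀ i, c.π.app i ≫ p i = g)
    {V : I → Scheme.{u}} (pr : ∀ i, D.obj i ⟶ V i) (st : ∀ i, V i ⟶ S) (hpr : ∀ i, pr i ≫ st i = p i)
    {W : Scheme.{u}} (pW : c.pt ⟶ W) (sW : W ⟶ S) (v : ∀ i, W ⟶ V i) (hv : ∀ i, c.π.app i ≫ pr i = pW ≫ v i)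
    (hvs : ∀ i, v i ≫ st i = sW) (F : EtCoh.Ab S) {L : Set ℕ} (hF : EtAcyc.IsLTorsion L F) {n : ℕ}
    (hN : ∀ i, EtAcyc.CompN (pr i) L n) {q : ℕ} (hqn : q ≤ n)
    [Subsingleton (EtCoh.H W ((EtCoh.pull sW).obj F) q)] :
    Subsingleton (EtCoh.H c.pt ((EtCoh.pull g).obj F) q) := by
  haveI : ∀ i, PreservesFiniteLimits (EtCoh.pull (c.π.app i)) := fun i => EtPullExact.pull_preservesFiniteLimits _
  haveI : ∀ i, PreservesFiniteLimits (EtCoh.pull (p i)) := fun i => EtPullExact.pull_preservesFiniteLimits _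
  haveI : ∀ {i j : I} (h : i ⟶ j), PreservesFiniteLimits (EtCoh.pull (D.map h)) := fun h =>
    EtPullExact.pull_preservesFiniteLimits _
  haveI := EtPullExact.pull_preservesFiniteLimits g
  refine subsingleton_of_forall_eq 0 fun ξ => ?_
  obtain ⟨i, x, hx⟩ := EtPBC.exists_stage_surj hc p hp g hg F q ξ
  haveI := EtPullExact.pull_preservesFiniteLimits (pr i)
  haveI := EtPullExact.pull_preservesFiniteLimits (v i)
  haveI := EtPullExact.pull_preservesFiniteLimits pW
  haveI := EtPullExact.pull_preservesFiniteLimits (pW ≫ v i)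
  obtain ⟨y, hy⟩ := (EtAcycX.bijective_HpullVia_of_compN (pr i) (st i) (p i) (hpr i) (hN i) hF hqn).2 x
  rw [← hx, ← hy]
  refine (EtPBC.HpullVia_HpullVia (c.π.app i) (pr i) _ (hv i) (st i) (p i) g (hpr i) (hg i)
    (by rw [← hv, Category.assoc, hpr, hg]) F q y).trans ?_
  refine (EtPBC.HpullVia_HpullVia pW (v i) _ rfl (st i) sW g (hvs i)
    (by rw [← hvs i, ← Category.assoc, ← hv, Category.assoc, hpr, hg])
    (by rw [← hv, Category.assoc, hpr, hg]) F q y).symm.trans ?_
  rw [Subsingleton.elim (EtCore.HpullVia (v i) (st i) sW (hvs i) F q y) 0, map_zero]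

section Strict

variable {R R' : Type u} [CommRing R] [HenselianLocalRing R] [IsSepClosed (ResidueField R)] [CommRing R']
  [HenselianLocalRing R'] [IsSepClosed (ResidueField R')] (ψ : R →+* R') [IsLocalHom ψ]

/-- every base change of the map of spectra has acyclic fibres on strict localisations -/
def UFib (L : Set ℕ) (n : ℕ) : Prop :=
  ∀ ⦃Z : Scheme.{u}⦄ (c : Z ⟶ Spec (CommRingCat.of R)),
    EtAcyc.OnStrictLocalizations (pullback.fst c (Spec.map (CommRingCat.ofHom ψ)))
      (fun _ _ m => EtAcyc.GeomFibresAcyclicN L n m)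

variable {ψ}

/-- base changes along proper maps compare cohomology -/
theorem compN_proper_bc {P : Scheme.{u}} (b : P ⟶ Spec (CommRingCat.of R)) [IsProper b] (L : Set ℕ) (n : ℕ) :
    EtAcyc.CompN (pullback.fst b (Spec.map (CommRingCat.ofHom ψ))) L n := by
  intro F hF _
  let σ := Spec.map (CommRingCat.ofHom ψ)
  let h := pullback.fst b σ
  let bX := pullback.snd b σ
  let iS := pullback.fst b (Spec.map (CommRingCat.ofHom (residue R)))
  let iX := pullback.fst bX (Spec.map (CommRingCat.ofHom (residue R')))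
  let u' := Spec.map (CommRingCat.ofHom (ResidueField.map ψ))
  have hu : Spec.map (CommRingCat.ofHom (residue R')) ≫ σ = u' ≫ Spec.map (CommRingCat.ofHom (residue R)) := by
    rw [← Spec.map_comp, ← Spec.map_comp]
    rfl
  let e : pullback bX (Spec.map (CommRingCat.ofHom (residue R'))) ⟶
      pullback b (Spec.map (CommRingCat.ofHom (residue R))) :=
    pullback.map _ _ _ _ h u' σ pullback.condition.symm hu
  have he : IsPullback e (pullback.snd _ _) (pullback.snd b _) u' := by
    have hbig := (IsPullback.of_hasPullback bX (Spec.map (CommRingCat.ofHom (residue R')))).paste_horiz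
      (IsPullback.of_hasPullback b σ)
    rw [hu] at hbig
    refine IsPullback.of_right ?_ (pullback.lift_snd _ _ _) (IsPullback.of_hasPullback _ _)
    rw [pullback.lift_fst]
    exact hbig
  haveI := EtCohDesc.pull_preservesFiniteLimits e
  haveI : IsProper bX := MorphismProperty.pullback_snd _ _ ‹_›
  have hU : EtAcyc.IsLTorsion Set.univ F := fun U s x => by
    obtain ⟨V, g, m, hv, hm, h0⟩ := hF U s x
    exact ⟨V, g, m, hv, ⟨hm.1, fun _ _ _ => Set.mem_univ _⟩, h0⟩
  have hall : ∀ q, Function.Bijective (EtCore.Hpull h F q) := fun q => by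
    haveI := EtCohDesc.pull_preservesFiniteLimits (𝟙 P)
    have hv := EtPBC.bijective_HpullVia_of_fibres (T := P) (n := q) h (𝟙 P) h (Category.comp_id _) iS iX e
      (pullback.lift_fst _ _ _)
      (EtPBC.pb_proper b R (𝟙 _) (𝟙 P) b IsPullback.of_id_fst iS _ (IsPullback.of_hasPullback _ _) q)
      (EtPBC.pb_proper bX R' (𝟙 _) (𝟙 _) bX IsPullback.of_id_fst iX _ (IsPullback.of_hasPullback _ _) q)
      (fun G hG => EtPBC.bijective_Hpull_sepClosed (ResidueField.map ψ) (pullback.snd b _) e _ he G hG q) F hU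
    rw [show ⇑(EtCore.Hpull h F q) = ⇑(EtCore.HpullVia h (𝟙 P) h (Category.comp_id _) F q) ∘
      ⇑(EtCore.Hpull (𝟙 P) F q) from funext fun x => (EtAcycX.Hpull_HpullVia h (𝟙 P) h _ F q x).symm]
    exact hv.comp (EtAcycX.Hpull_bijective_of_isIso (𝟙 P) F q)
  exact ⟨fun q _ => hall q, (hall (n + 1)).1⟩

section RMap

universe w v u₁ u₂ u₃

variable {A : Type u₁} [Category.{v} A] [Abelian A] {C : Type u₂} [Category.{v} C] [Abelian C] [HasExt.{v} C]
  {C₁ : Type u₂} [Category.{v} C₁] [Abelian C₁] [HasExt.{v} C₁]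
  (F' : A ⥤ C) [F'.Additive] [PreservesFiniteLimits F'] [PreservesFiniteColimits F']
  (F₁ : A ⥤ C₁) [F₁.Additive] [PreservesFiniteLimits F₁] [PreservesFiniteColimits F₁]
  (G : C ⥤ C₁) [G.Additive] [PreservesFiniteLimits G] [PreservesFiniteColimits G]
  {P : C} {P₁ : C₁} (c : P₁ ⟶ G.obj P) (ν : F' ⋙ G ⟶ F₁)

/-- restrictions are injective when the pullback part is -/
theorem injective_rMap (M : A) (q : ℕ) [IsIso (ν.app M)] (h : Function.Injective (EtMV.T G c (F'.obj M) q)) :
    Function.Injective (EtBCQ.rMap F' F₁ G c ν M q) := fun a b e => by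
  rw [EtBCQ.rMap_apply, EtBCQ.rMap_apply] at e
  exact h ((EtAcycX.bijective_comp_iso (ν.app M) q).1 e)

end RMap

theorem T_eq_Hpull {W V : Scheme.{u}} (m : W ⟶ V) [PreservesFiniteLimits (EtCoh.pull m)] (G : EtCoh.Ab V)
    (q : ℕ) (x : EtCoh.H V G q) :
    EtMV.T (EtCoh.pull m) (EtCore.pullConst m ℤ).inv G q x = EtCore.Hpull m G q x := by
  rfl

theorem injective_T_of_Hpull {W V : Scheme.{u}} (m : W ⟶ V) [PreservesFiniteLimits (EtCoh.pull m)] (G : EtCoh.Ab V)
    (q : ℕ) (h : Function.Injective (EtCore.Hpull m G q)) :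
    Function.Injective (EtMV.T (EtCoh.pull m) (EtCore.pullConst m ℤ).inv G q) := fun x y e =>
  h ((T_eq_Hpull m G q x).symm.trans (e.trans (T_eq_Hpull m G q y)))

theorem injective_r {X S Y T : Scheme.{u}} {f : X ⟶ S} {g : T ⟶ S} {h : Y ⟶ X} {e : Y ⟶ T}
    (l : EtBCQ.Loc f g h e) (F : EtCoh.Ab T) (q : ℕ)
    (hm : Function.Injective (EtCore.Hpull l.m ((EtCoh.pull l.aS).obj F) q)) : Function.Injective (l.r F q) := by
  haveI : IsIso (l.ν.app F) := by
    dsimp [EtBCQ.Loc.ν]
    infer_instance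
  exact injective_rMap _ _ _ _ l.ν F q (injective_T_of_Hpull l.m _ q hm)

section Pieces

variable {P P' X X' : Scheme.{u}} (h : P' ⟶ P) (j : X ⟶ P) (hb : X' ⟶ X) (pY : X' ⟶ P') (c : IsPullback hb pY j h)
  [IsImmersion j] [IsAffineHom j] {L : Set ℕ} {n : ℕ}

include c in
/-- the pieces of the strict localisations over an immersion compare cohomology -/
theorem compN_piece (hh : EtAcyc.OnStrictLocalizations h (fun _ _ m => EtAcyc.GeomFibresAcyclicN L n m))
    (hhb : EtAcyc.OnStrictLocalizations hb (fun _ _ m => EtAcyc.GeomFibresAcyclicN L n m))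
    {x : P'} (QS : SH P (h.base x)) (QX : SH P' x) (φ : QS.R →+* QX.R) [IsLocalHom φ]
    (hφ : Spec.map (CommRingCat.ofHom φ) ≫ QS.spec = QX.spec ≫ h)
    {PS PX : Scheme.{u}} {aS : PS ⟶ X} {bS : PS ⟶ Spec (CommRingCat.of QS.R)}
    (HS : IsPullback aS bS j QS.spec) {aX : PX ⟶ X} {bX : PX ⟶ Spec (CommRingCat.of QX.R)}
    (HX : IsPullback aX bX j (QX.spec ≫ h)) (m : PX ⟶ PS) (w : m ≫ aS = aX)
    (wb : m ≫ bS = bX ≫ Spec.map (CommRingCat.ofHom φ)) : EtAcyc.CompN m L n := by
  have sqm : IsPullback m bX bS (Spec.map (CommRingCat.ofHom φ)) := by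
    refine IsPullback.of_right (h₁₂ := aS) (v₁₃ := j) (h₂₂ := QS.spec) ?_ wb HS
    rw [w, hφ]
    exact HX
  haveI : WeaklyEtale QS.spec := EtAcycX.weaklyEtale_specOf (h.base x) QS.R
  haveI : WeaklyEtale QX.spec := EtAcycX.weaklyEtale_specOf x QX.R
  haveI : WeaklyEtale aS := MorphismProperty.of_isPullback (P := @WeaklyEtale) HS.flip ‹_›
  haveI : IsAffineHom bS := MorphismProperty.of_isPullback (P := @IsAffineHom) HS (inferInstance : IsAffineHom j)
  haveI : IsImmersion bS := MorphismProperty.of_isPullback (P := @IsImmersion) HS (inferInstance : IsImmersion j)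
  haveI : UniversallyInjective bS := inferInstance
  haveI : IsAffine PS := isAffine_of_isAffineHom bS
  haveI : QuasiCompact m := MorphismProperty.of_isPullback (P := @QuasiCompact) sqm.flip inferInstance
  haveI : QuasiSeparated m := MorphismProperty.of_isPullback (P := @QuasiSeparated) sqm.flip inferInstance
  let aX' : PX ⟶ X' := c.lift aX (bX ≫ QX.spec) (by rw [Category.assoc]; exact HX.w)
  have hsq : IsPullback aX' bX pY QX.spec := by
    refine IsPullback.of_right (h₁₂ := hb) (v₁₃ := j) (h₂₂ := h) ?_ (c.lift_snd _ _ _) c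
    rw [c.lift_fst]
    exact HX
  haveI : WeaklyEtale aX' := MorphismProperty.of_isPullback (P := @WeaklyEtale) hsq.flip ‹_›
  have hloc : EtAcyc.OnStrictLocalizations m (fun _ _ f => EtAcyc.GeomFibresAcyclicN L n f) :=
    EtAcycX.onStrict_of_weaklyEtale aX' aS (by rw [c.lift_fst, w]) hhb
  have hP : EtAcyc.GeomFibresAcyclicN L n (Spec.map (CommRingCat.ofHom φ)) :=
    EtAcycX.apply_onStrict hh QS QX φ hφ
  exact EtAcycX.compN_of_affine m
    (EtAcycX.geomFibres_of_isPullback sqm.flip (EtAcycX.algResidue_of_universallyInjective bS) hP)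
    (onStrict_mono m (Nat.sub_le n 1) hloc)

/-- the base change hypothesis over an immersion -/
theorem bcn_of_fibres [PreservesFiniteLimits (EtCoh.pull hb)] [QuasiCompact j] [CompactSpace X] [QuasiSeparatedSpace X]
    [QuasiCompact pY] [QuasiSeparated pY]
    (hh : EtAcyc.OnStrictLocalizations h (fun _ _ m => EtAcyc.GeomFibresAcyclicN L n m))
    (hhb : EtAcyc.OnStrictLocalizations hb (fun _ _ m => EtAcyc.GeomFibresAcyclicN L n m))
    (F : EtCoh.Ab X) (hF : EtAcyc.IsLTorsion L F) : EtAcycX.BCN h j hb pY c.w n F := by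
  refine ⟨fun i hi => ?_, ?_⟩
  · refine (EtBCQ.isIso_bcQ_iff_restr h j pY hb c F i).1 ?_
    intro x RS _ _ _ _ hS RX _ _ _ _ hX φ _ hφ PS PX aS bS HS aX bX HX m w wb _
    haveI := hS
    haveI := hX
    let QS : SH P (h.base x) := { R := RS }
    let QX : SH P' x := { R := RX }
    have hsp : Spec.map (CommRingCat.ofHom φ) ≫ QS.spec = QX.spec ≫ h :=
      (EtBCQ.specOf_comp h x RS RX φ hφ).symm
    exact EtAcycX.bijective_HpullVia_of_compN m aS aX w
      (compN_piece h j hb pY c hh hhb QS QX φ hsp HS HX m w wb) hF hi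
  · refine EtBCQ.mono_bcQ (w := c.w) c F (n + 1) fun l => ?_
    haveI := l.locρ
    let QS : SH P (h.base l.x) := { R := l.RS }
    let QX : SH P' l.x := { R := l.RX }
    have HX' : IsPullback (l.pY ≫ hb) l.bX j (QX.spec ≫ h) := l.HX.paste_horiz c
    have hc := (compN_piece h j hb pY c hh hhb QS QX l.ρ l.hρ.symm l.HS HX' l.m l.wm l.wb
      ((EtCoh.pull l.aS).obj F) (EtAcycX.isLTorsion_pull l.aS hF)).2
    exact injective_r l F (n + 1) hc

end Pieces

/-- affine schemes immersed in proper ones compare cohomology -/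
theorem compN_immersion {P X : Scheme.{u}} (b : P ⟶ Spec (CommRingCat.of R)) [IsProper b] (j : X ⟶ P) [IsImmersion j]
    [IsAffineHom j] [QuasiCompact j] {L : Set ℕ} {n : ℕ} (hu : UFib ψ L n) :
    EtAcyc.CompN (pullback.fst (j ≫ b) (Spec.map (CommRingCat.ofHom ψ))) L n := by
  let σ := Spec.map (CommRingCat.ofHom ψ)
  let h := pullback.fst b σ
  let hb := pullback.fst (j ≫ b) σ
  let pY : pullback (j ≫ b) σ ⟶ pullback b σ :=
    pullback.lift (hb ≫ j) (pullback.snd (j ≫ b) σ) (by rw [Category.assoc]; exact pullback.condition)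
  have c : IsPullback hb pY j h := by
    refine (IsPullback.of_bot (v₂₁ := pullback.snd b σ) (v₂₂ := b) (h₃₁ := σ) ?_ ?_ (IsPullback.of_hasPullback b σ))
    · rw [pullback.lift_snd]
      exact IsPullback.of_hasPullback (j ≫ b) σ
    · exact (pullback.lift_fst _ _ _).symm
  haveI : QuasiCompact pY := MorphismProperty.of_isPullback (P := @QuasiCompact) c ‹_›
  haveI : QuasiSeparated pY := MorphismProperty.of_isPullback (P := @QuasiSeparated) c inferInstance
  haveI := EtCohDesc.pull_preservesFiniteLimits hb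
  haveI := EtCohDesc.pull_preservesFiniteLimits h
  haveI := EtCohDesc.pull_preservesFiniteLimits j
  haveI : CompactSpace P := QuasiCompact.compactSpace_of_compactSpace b
  haveI : QuasiSeparatedSpace P := quasiSeparatedSpace_of_quasiSeparated b
  haveI : CompactSpace X := QuasiCompact.compactSpace_of_compactSpace j
  haveI : QuasiSeparatedSpace X := quasiSeparatedSpace_of_quasiSeparated j
  exact EtAcycX.compN_bc (h := h) (p := j) (hb := hb) (pY := pY) (w := c.w) (compN_proper_bc b L n)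
    fun F hF => bcn_of_fibres h j hb pY c (hu b) (hu (j ≫ b)) F hF

/-- affine schemes of finite type over the strictly henselian base compare cohomology -/
theorem compN_ft {A : Type u} [CommRing A] [Algebra R A] [Algebra.FiniteType R A] {L : Set ℕ} {n : ℕ}
    (hu : UFib ψ L n) :
    EtAcyc.CompN (pullback.fst (Spec.map (CommRingCat.ofHom (algebraMap R A))) (Spec.map (CommRingCat.ofHom ψ))) L n := by
  obtain ⟨N, i, hi, hib⟩ := DCohShriek.exists_chart_immersion (algebraMap R A)
    (RingHom.finiteType_algebraMap.2 ‹_›)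
  haveI := hi
  haveI := DerPush.hasRpush_sch (CohB1.ProjSpace.toSpec N R)
  haveI : IsProper (CohB1.ProjSpace.toSpec N R) := (PerfGen.proper_flat_lfp N R).1
  haveI : IsAffineHom (i ≫ CohB1.ProjSpace.toSpec N R) := inferInstance
  haveI : IsAffineHom i :=
    MorphismProperty.of_postcomp (W := @IsAffineHom) (W' := @IsSeparated) i (CohB1.ProjSpace.toSpec N R)
      inferInstance inferInstance
  rw [← hib]
  exact compN_immersion _ i hu

/-- connectedness of fibres at geometric points -/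
theorem fibre_connected {L : Set ℕ} {n : ℕ} (hfib : EtAcyc.GeomFibresAcyclicN L n (Spec.map (CommRingCat.ofHom ψ)))
    (Ω : Type u) [Field Ω] (γ : Spec (CommRingCat.of Ω) ⟶ Spec (CommRingCat.of R)) :
    ConnectedSpace ↥(pullback (Spec.map (CommRingCat.ofHom ψ)) γ) := by
  let σ := Spec.map (CommRingCat.ofHom ψ)
  let S := Spec (CommRingCat.of R)
  let Ω' := AlgebraicClosure Ω
  let γ' := Spec.map (CommRingCat.ofHom (algebraMap Ω Ω')) ≫ γ
  haveI : ConnectedSpace ↥(pullback σ γ') := by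
    let y : S := γ'.base (closedPoint Ω')
    let κ := S.residueField y
    letI : Algebra κ Ω' := (S.descResidueField (Scheme.stalkClosedPointTo γ')).hom.toAlgebra
    have hγ : EtAcyc.geomPt S y Ω' = γ' :=
      Scheme.descResidueField_stalkClosedPointTo_fromSpecResidueField (f := γ') ..
    let L₀ := AlgebraicClosure κ
    let τ : L₀ →ₐ[κ] Ω' := IsAlgClosed.lift
    let v := Spec.map (CommRingCat.ofHom τ.toRingHom)
    have hv : v ≫ EtAcyc.geomPt S y L₀ = γ' := by
      refine Eq.trans ?_ hγ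
      rw [EtAcyc.geomPt, EtAcyc.geomPt, ← Category.assoc, ← Spec.map_comp, ← CommRingCat.ofHom_comp]
      exact congrArg (fun f => Spec.map (CommRingCat.ofHom f) ≫ S.fromSpecResidueField y) τ.comp_algebraMap
    let a := pullback.snd σ (EtAcyc.geomPt S y L₀)
    haveI := (hfib y L₀).2.1
    haveI := Groth.Agent.S2501.result a
    haveI hc : ConnectedSpace ↥(pullback a v) :=
      GeometricallyConnected.connectedSpace_of_subsingleton (pullback.snd a v)
    exact ((pullbackLeftPullbackSndIso σ (EtAcyc.geomPt S y L₀) v ≪≫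
      pullback.congrHom rfl hv).hom.homeomorph.connectedSpace_iff).1 hc
  exact connected_of_extension σ Ω Ω' γ

theorem isPullback_stage {A : Type u} [CommRing A] [Algebra R A] :
    IsPullback (pullback.snd (Spec.map (CommRingCat.ofHom ψ)) (FEtSepBC.st R A))
      (pullback.fst (Spec.map (CommRingCat.ofHom ψ)) (FEtSepBC.st R A)) (FEtSepBC.st R A)
      (Spec.map (CommRingCat.ofHom ψ)) :=
  (IsPullback.of_hasPullback _ _).flip

/-- vanishing on the fibres at all geometric points -/
theorem fibre_vanish {L : Set ℕ} {n : ℕ} (hu : UFib ψ L n) (Ω : Type u) [Field Ω] [IsSepClosed Ω] [Algebra R Ω]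
    {ℓ : ℕ} (hℓ : ℓ.Prime) (hℓL : ℓ ∈ L) {q : ℕ} (hq : 1 ≤ q) (hqn : q ≤ n) :
    Subsingleton (EtCoh.H (pullback (Spec.map (CommRingCat.ofHom ψ)) (FEtSepBC.st R Ω))
      (EtCoh.const _ (ZMod ℓ)) q) := by
  let σ := Spec.map (CommRingCat.ofHom ψ)
  let S := Spec (CommRingCat.of R)
  let F : EtCoh.Ab S := EtCoh.const S (ZMod ℓ)
  have hF : EtAcyc.IsLTorsion L F := fun U s x => by
    obtain ⟨V, g, m, hv, hm, h0⟩ := EtAcycX.isLTorsion_const_zmod (W := S) hℓ.pos U s x
    refine ⟨V, g, m, hv, ⟨hm.1, fun p hp hpm => ?_⟩, h0⟩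
    obtain ⟨hp', hpl⟩ := hm.2 p hp hpm
    rwa [(Nat.prime_dvd_prime_iff_eq hp' hℓ).1 hpl]
  haveI : IsCofiltered (FEtSepBC.FGSub R Ω)ᵒᵖ := isCofiltered_op_of_isFiltered _
  let D := FEtSepBC.diagram σ (K := Ω)
  haveI : ∀ {i j : (FEtSepBC.FGSub R Ω)ᵒᵖ} (h : i ⟶ j), IsAffineHom (D.map h) := fun h =>
    MorphismProperty.of_isPullback (P := @IsAffineHom) (FEtSepBC.isPullback_bcm σ _).flip inferInstance
  haveI : ∀ L, CompactSpace (D.obj L) := fun L =>
    QuasiCompact.compactSpace_of_compactSpace (pullback.fst σ (FEtSepBC.st R L.unop.1))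
  haveI : ∀ L, QuasiSeparatedSpace (D.obj L) := fun L =>
    quasiSeparatedSpace_of_quasiSeparated (pullback.fst σ (FEtSepBC.st R L.unop.1))
  let pr : ∀ L : (FEtSepBC.FGSub R Ω)ᵒᵖ, D.obj L ⟶ Spec (CommRingCat.of L.unop.1) := fun L =>
    pullback.snd σ (FEtSepBC.st R L.unop.1)
  let p : ∀ L, D.obj L ⟶ S := fun L => pr L ≫ FEtSepBC.st R L.unop.1
  let g : pullback σ (FEtSepBC.st R Ω) ⟶ S := pullback.snd σ (FEtSepBC.st R Ω) ≫ FEtSepBC.st R Ω
  have hp : ∀ {i j : (FEtSepBC.FGSub R Ω)ᵒᵖ} (h : i ⟶ j), D.map h ≫ p j = p i := fun {i j} h => by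
    show FEtSepBC.bcm σ _ ≫ pullback.snd _ _ ≫ _ = pullback.snd _ _ ≫ _
    rw [FEtSepBC.bcm_snd_assoc, FEtSepBC.stMap_st]
  have hg : ∀ L, (FEtSepBC.cone σ (K := Ω)).π.app L ≫ p L = g := fun L => by
    show FEtSepBC.bcm σ _ ≫ pullback.snd _ _ ≫ _ = pullback.snd _ _ ≫ _
    rw [FEtSepBC.bcm_snd_assoc, FEtSepBC.stMap_st]
  haveI : ∀ L, PreservesFiniteLimits (EtCoh.pull ((FEtSepBC.cone σ (K := Ω)).π.app L)) := fun L =>
    EtPullExact.pull_preservesFiniteLimits _
  haveI : ∀ L, PreservesFiniteLimits (EtCoh.pull (p L)) := fun L => EtPullExact.pull_preservesFiniteLimits _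
  haveI : ∀ {i j : (FEtSepBC.FGSub R Ω)ᵒᵖ} (h : i ⟶ j), PreservesFiniteLimits (EtCoh.pull (D.map h)) := fun h =>
    EtPullExact.pull_preservesFiniteLimits _
  haveI := EtPullExact.pull_preservesFiniteLimits g
  let W := FEtSepBC.cone σ (K := Ω)
  let v : ∀ L : (FEtSepBC.FGSub R Ω)ᵒᵖ, Spec (CommRingCat.of Ω) ⟶ Spec (CommRingCat.of L.unop.1) := fun L =>
    FEtSepBC.stMap L.unop.1.val
  have hc : ∀ L₁ : (FEtSepBC.FGSub R Ω)ᵒᵖ, EtAcyc.CompN (pr L₁) L n := fun L₁ => by
    haveI : Algebra.FiniteType R L₁.unop.1 := (Subalgebra.fg_iff_finiteType _).1 L₁.unop.2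
    have h0 := compN_ft (A := L₁.unop.1) hu
    have h1 := EtAcycX.compN_congr (pullbackSymmetry σ (FEtSepBC.st R L₁.unop.1)).hom _ h0
    rwa [pullbackSymmetry_hom_comp_fst] at h1
  haveI := EtPBC.subsingleton_H_sepClosed Ω ((EtCoh.pull (FEtSepBC.st R Ω)).obj F) q (by omega)
  haveI key := subsingleton_of_stages (FEtSepBC.isLimitCone σ) p hp g hg pr (fun L => FEtSepBC.st R L.unop.1)
    (fun _ => rfl) (pullback.snd σ (FEtSepBC.st R Ω)) (FEtSepBC.st R Ω) v (fun L => FEtSepBC.bcm_snd σ _)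
    (fun L => FEtSepBC.stMap_st _) F hF hc hqn
  exact @Function.Surjective.subsingleton _ _ _ key (EtAcycX.bijective_comp_iso (EtCore.pullConst g (ZMod ℓ)).hom q).2

end Strict

end Groth.Agent.LAcyc
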