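import Groth.Agent.EtH1PBC.Classes
import Groth.Agent.EtH1PBC.Torsor
import Groth.Agent.FEtGal.Galois
import Groth.Agent.EtTrivGen.Basic
import Groth.Agent.HensLine.GeomFibre

/-!
# `H¹(X, ℤ/ℓ) = 0` for a connected scheme without connected Galois covers of order `ℓ`

A class in `H¹(X, ℤ/ℓ)` gives the finite étale torsor of the lifts of a global section; a connected
component of the torsor is a connected Galois cover whose group is killed by `ℓ`.
-/

set_option autoImplicit false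
set_option backward.isDefEq.respectTransparency false
set_option backward.isDefEq.respectTransparency.types false
set_option linter.style.haveILetI false
set_option maxHeartbeats 1000000

universe u

open CategoryTheory CategoryTheory.Limits AlgebraicGeometry Opposite
open Groth.Agent.EtFLC (res res_res res_id app_res)
open Groth.Agent.EtH0Pair (cst toTopX hom_top_eq)

noncomputable section

namespace Groth.Agent.LAcyc

attribute [local instance 100000] EtCoh.H._proof_1 EtMV.hext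
attribute [local instance 200000] EtMV.hextAb

variable {X : Scheme.{u}} {M : Type} [AddCommGroup M] [Finite M]
  {S : ShortComplex (EtCoh.Ab X)}

section Torsor

variable (hS : S.ShortExact) (e : EtCoh.const X M ≅ S.X₁) (s : EtCoh.sect S.X₃ (EtCoh.top X))

/-- the constant sections of `S.X₁`, mapped to `S.X₂` -/
def cM (V : X.Etale) : M →+ EtCoh.sect S.X₂ V :=
  (S.f.hom.app (op V)).hom.comp ((e.hom.hom.app (op V)).hom.comp ((res (EtCoh.const X M) (toTopX V)).comp
    (AddMonoidHom.ofMapSub (cst (X := X) (M := M)) fun a b => (EtH0Pair.cst_sub a b).symm)))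

theorem cM_apply (V : X.Etale) (m : M) : cM e V m =
    (S.f.hom.app (op V)).hom ((e.hom.hom.app (op V)).hom (res (EtCoh.const X M) (toTopX V) (cst m))) := rfl

theorem res_cM {V V' : X.Etale} (f : V' ⟶ V) (m : M) : res S.X₂ f (cM e V m) = cM e V' m := by
  rw [cM_apply, cM_apply, ← app_res, ← app_res, res_res, hom_top_eq (f ≫ toTopX V) (toTopX V')]

theorem g_cM (V : X.Etale) (m : M) : S.g.hom.app (op V) (cM e V m) = 0 :=
  ConcreteCategory.congr_hom (NatTrans.congr_app (congrArg (fun φ => φ.hom) S.zero) (op V)) _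

/-- the sheaf of lifts -/
abbrev lifts : EtDesc.Sh X := ⟨(EtH1PBC.liftsSub S.g s).toFunctor, EtH1PBC.liftsSub_isSheaf S.g s⟩

include hS in
/-- two lifts differ by a constant near every point -/
theorem lift_near {V : X.Etale} {t t' : EtCoh.sect S.X₂ V} (h : S.g.hom.app (op V) t = res S.X₃ (toTopX V) s)
    (h' : S.g.hom.app (op V) t' = res S.X₃ (toTopX V) s) (v : V.left) :
    ∃ (W : X.Etale) (k : W ⟶ V) (m : M), v ∈ Set.range k.left ∧
      res S.X₂ k t' = res S.X₂ k t + cM e W m := by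
  haveI := hS.mono_f
  have hx : S.g.hom.app (op V) (t' - t) = 0 := by rw [map_sub, h, h']; exact sub_self _
  obtain ⟨V₁, h₁, v₁, a, hv₁, ha⟩ := EtFLC.exists_lift_of_exact hS.exact _ hx v
  obtain ⟨m, hm⟩ := EtH0Pair.exists_cst_near (e.inv.hom.app (op V₁) a) v₁
  obtain ⟨V₂, h₂, ⟨v₂, hv₂⟩, h0⟩ := (EtSect.mem_iff _ _ _).1 hm
  rw [map_sub, sub_eq_zero] at h0
  refine ⟨V₂, h₂ ≫ h₁, m, ⟨v₂, (EtFLC.comp_left_apply h₂ h₁ v₂).trans (by rw [hv₂, hv₁])⟩, ?_⟩
  have hinv : e.hom.hom.app (op V₁) (e.inv.hom.app (op V₁) a) = a :=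
    ConcreteCategory.congr_hom (NatTrans.congr_app (congrArg (fun φ => φ.hom) e.inv_hom_id) (op V₁)) a
  have h3 : res S.X₁ h₂ a = e.hom.hom.app (op V₂) (res (EtCoh.const X M) (toTopX V₂) (cst m)) := by
    have h4 := congrArg (fun b => (e.hom.hom.app (op V₂)).hom b) h0
    change (e.hom.hom.app (op V₂)).hom (res (EtCoh.const X M) h₂ ((e.inv.hom.app (op V₁)).hom a)) =
      (e.hom.hom.app (op V₂)).hom (res (EtCoh.const X M) h₂ (res (EtCoh.const X M) (toTopX V₁) (cst m))) at h4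
    rw [app_res, res_res, hom_top_eq (h₂ ≫ toTopX V₁) (toTopX V₂)] at h4
    exact (congrArg (res S.X₁ h₂) hinv).symm.trans h4
  have h5 : res S.X₂ h₂ ((S.f.hom.app (op V₁)).hom a) = res S.X₂ h₂ (res S.X₂ h₁ (t' - t)) :=
    congrArg (res S.X₂ h₂) ha
  rw [← app_res, h3, res_res, map_sub] at h5
  rw [cM_apply]
  exact sub_eq_iff_eq_add'.1 h5.symm

include hS in
/-- constants are seen near every point -/
theorem cM_inj {V : X.Etale} {m m' : M} (h : cM e V m = cM e V m') (v : V.left) : m = m' := by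
  haveI := hS.mono_f
  have h2 : res (EtCoh.const X M) (toTopX V) (cst m) = res (EtCoh.const X M) (toTopX V) (cst m') := by
    rw [cM_apply, cM_apply] at h
    have h1 := congrArg (fun b => e.inv.hom.app (op V) b) (EtFLC.app_injective S.f V h)
    have hh : ∀ b, e.inv.hom.app (op V) (e.hom.hom.app (op V) b) = b := fun b =>
      ConcreteCategory.congr_hom (NatTrans.congr_app (congrArg (fun φ => φ.hom) e.hom_inv_id) (op V)) b
    simpa only [hh] using h1
  rw [← sub_eq_zero]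
  refine EtH0Pair.eq_zero_of_notMem_cst (X := X) (x := (toTopX V).left v) ?_
  refine (EtSect.mem_iff _ _ _).2 ⟨V, toTopX V, ⟨v, rfl⟩, ?_⟩
  rw [← EtH0Pair.cst_sub, map_sub, sub_eq_zero]
  exact h2

include hS e in
/-- the sheaf of lifts is represented by a finite étale scheme with a universal lift -/
theorem exists_torsor : ∃ (U : X.Etale) (t : EtCoh.sect S.X₂ U), IsFinite U.hom ∧ Surjective U.hom ∧
    S.g.hom.app (op U) t = res S.X₃ (toTopX U) s ∧
    ∀ (V : X.Etale) (t' : EtCoh.sect S.X₂ V), S.g.hom.app (op V) t' = res S.X₃ (toTopX V) s →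
      ∃! v : V ⟶ U, res S.X₂ v t = t' := by
  classical
  haveI := hS.epi_g
  have hloc : ∀ x : X, ∃ (W : X.Etale) (w : W.left) (n : ℕ) (σ : Fin n → EtDesc.sect (lifts s) W),
      W.hom w = x ∧ EtDescRep.IsTrivSet (lifts s) W σ := fun x => by
    obtain ⟨W, h, w, t, hw, ht⟩ := EtFLC.exists_lift_of_epi S.g s (V := EtCoh.top X) (show (EtCoh.top X).left from x)
    rw [hom_top_eq h (toTopX W)] at hw ht
    let σ : M → EtDesc.sect (lifts s) W := fun m => ⟨t + cM e W m, by
      change S.g.hom.app (op W) (t + cM e W m) = res S.X₃ (toTopX W) s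
      rw [map_add, g_cM, add_zero, ht]⟩
    have hσ : EtDescRep.IsTrivSet (lifts s) W σ := by
      refine ⟨fun {V} g y v => ?_, fun {V} g m m' hm v => ?_⟩
      · obtain ⟨V₂, k, m, hv, hk⟩ := lift_near hS e s (t := res S.X₂ g t) (t' := y.1)
          (by rw [app_res, ht, res_res, hom_top_eq (g ≫ toTopX W) (toTopX V)]) y.2 v
        refine ⟨V₂, k, m, hv, Subtype.ext ?_⟩
        change res S.X₂ k y.1 = res S.X₂ (k ≫ g) (t + cM e W m)
        rw [hk, map_add, res_cM, res_res]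
      · have h1 := congrArg Subtype.val hm
        change res S.X₂ g (t + cM e W m) = res S.X₂ g (t + cM e W m') at h1
        rw [map_add, map_add, res_cM, res_cM] at h1
        exact cM_inj hS e (add_left_cancel h1) v
    exact ⟨W, w, Nat.card M, σ ∘ (Finite.equivFin M).symm, hw, hσ.congr _⟩
  obtain ⟨U, hU, ⟨ee⟩⟩ := EtDescRep.exists_finite_repSh hloc
  let up : ∀ {V : X.Etale}, (V ⟶ U) → (yoneda.obj U ⋙ uliftFunctor.{u + 1, u}).obj (op V) := fun v => ULift.up v
  let tU : EtDesc.sect (lifts s) U := ee.hom.app (op U) (up (𝟙 U))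
  have hnat : ∀ {V : X.Etale} (v : V ⟶ U), (ee.hom.app (op V) (up v)).1 = res S.X₂ v tU.1 := fun {V} v => by
    have h := congrArg Subtype.val (ConcreteCategory.congr_hom (ee.hom.naturality v.op) (up (𝟙 U)))
    refine Eq.trans ?_ h
    change _ = (ee.hom.app (op V) (up (v ≫ 𝟙 U))).1
    rw [Category.comp_id]
  have huniv : ∀ (V : X.Etale) (t' : EtCoh.sect S.X₂ V), S.g.hom.app (op V) t' = res S.X₃ (toTopX V) s →
      ∃! v : V ⟶ U, res S.X₂ v tU.1 = t' := fun V t' ht' => by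
    let y : EtDesc.sect (lifts s) V := ⟨t', ht'⟩
    have hy : ee.hom.app (op V) (ee.inv.app (op V) y) = y := Iso.inv_hom_id_apply (ee.app (op V)) y
    refine ⟨(ee.inv.app (op V) y).down, (hnat _).symm.trans (congrArg Subtype.val hy), fun v hv => ?_⟩
    have h1 : ee.hom.app (op V) (up v) = y := Subtype.ext ((hnat v).trans hv)
    rw [← h1]
    exact (congrArg ULift.down (Iso.hom_inv_id_apply (ee.app (op V)) (up v))).symm
  refine ⟨U, tU.1, hU, ⟨fun x => ?_⟩, tU.2, huniv⟩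
  obtain ⟨W, w, n, σ, hw, hσ⟩ := hloc x
  obtain ⟨W', h', w', t', hw', ht'⟩ := EtFLC.exists_lift_of_epi S.g (res S.X₃ (toTopX W) s) w
  obtain ⟨v, -, -⟩ := huniv W' t' (by rw [ht', res_res, hom_top_eq (h' ≫ toTopX W) (toTopX W')])
  refine ⟨v.left w', ?_⟩
  rw [← hw, ← hw']
  exact (congrArg (fun m : W'.left ⟶ X => m w') (MorphismProperty.Over.w v)).trans
    (congrArg (fun m : W'.left ⟶ X => m w') (MorphismProperty.Over.w h')).symm

end Torsor

/-- a finite étale scheme over a connected scheme has a connected clopen piece through each point -/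
theorem exists_connected_clopen {X U : Scheme.{u}} [ConnectedSpace X] (f : U ⟶ X) [IsFinite f] [Etale f] [Nonempty U] :
    ∃ C : Set U, IsClopen C ∧ C.Nonempty ∧ _root_.IsPreconnected C := by
  classical
  obtain ⟨x₀⟩ := (inferInstance : Nonempty X)
  have hΦ : (f ⁻¹' {x₀}).Finite := f.finite_preimage_singleton x₀
  have hmeet : ∀ D : Set U, IsClopen D → D.Nonempty → (D ∩ f ⁻¹' {x₀}).Nonempty := fun D hD hne => by
    have h : IsClopen (f '' D) := ⟨f.isClosedMap _ hD.1, f.isOpenMap _ hD.2⟩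
    have h1 := h.eq_univ (hne.image f)
    obtain ⟨d, hd, hd'⟩ := (h1.symm ▸ Set.mem_univ x₀ : x₀ ∈ f '' D)
    exact ⟨d, hd, hd'⟩
  let P : ℕ → Prop := fun n => ∃ D : Set U, IsClopen D ∧ D.Nonempty ∧ (D ∩ f ⁻¹' {x₀}).ncard = n
  have hP : ∃ n, P n := ⟨_, Set.univ, isClopen_univ, Set.univ_nonempty, rfl⟩
  obtain ⟨C, hC, hne, hcard⟩ := Nat.find_spec hP
  refine ⟨C, hC, hne, fun A B hA hB hAB hA' hB' => ?_⟩
  by_contra hno
  rw [Set.not_nonempty_iff_eq_empty] at hno
  have hCA : C ∩ A = C ∩ Bᶜ := by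
    ext x
    refine ⟨fun hx => ⟨hx.1, fun hb => ?_⟩, fun hx => ⟨hx.1, (hAB hx.1).resolve_right hx.2⟩⟩
    exact (Set.eq_empty_iff_forall_notMem.1 hno x) ⟨hx.1, hx.2, hb⟩
  have hcl : IsClopen (C ∩ A) := ⟨hCA ▸ hC.1.inter hB.isClosed_compl, hC.2.inter hA⟩
  have hmin := Nat.find_min' hP (m := ((C ∩ A) ∩ f ⁻¹' {x₀}).ncard) ⟨C ∩ A, hcl, hA', rfl⟩
  rw [← hcard] at hmin
  have hsub : ((C ∩ A) ∩ f ⁻¹' {x₀}) ⊆ C ∩ f ⁻¹' {x₀} := fun x hx => ⟨hx.1.1, hx.2⟩
  have heq := Set.eq_of_subset_of_ncard_le hsub hmin (hΦ.subset Set.inter_subset_right)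
  obtain ⟨x, hx, hx'⟩ := hmeet (C \ A) (hC.diff hcl |> fun h => by
    rwa [Set.diff_self_inter] at h) (by
      obtain ⟨b, hb⟩ := hB'
      exact ⟨b, hb.1, fun ha => Set.eq_empty_iff_forall_notMem.1 hno b ⟨hb.1, ha, hb.2⟩⟩)
  exact hx.2 ((heq.ge ⟨hx.1, hx'⟩).1.2)

section Main

variable [ConnectedSpace X] (ℓ : ℕ) [Fact ℓ.Prime]

/-- `H¹(X, ℤ/ℓ) = 0` if connected Galois covers with group of order a power of `ℓ` are trivial -/
theorem subsingleton_H_one_of_galois
    (hX : ∀ Y : FEt.Cat X, ConnectedSpace Y.left →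
      (∀ (k : Type u) [Field k] [IsAlgClosed k] (ξ : Spec (CommRingCat.of k) ⟶ X) (a a' : FEt.fiberObj ξ Y),
        ∃ σ : Aut Y, (FEt.fiber ξ).map σ.hom a = a') →
      (∀ q : ℕ, q.Prime → q ∣ Nat.card (Aut Y) → q = ℓ) → IsIso Y.hom) :
    Subsingleton (EtCoh.H X (EtCoh.const X (ZMod ℓ)) 1) := by
  classical
  refine subsingleton_of_forall_eq 0 fun x => ?_
  obtain ⟨ψ, rfl⟩ := EtH1PBC.exists_cls _ x
  rw [EtH1PBC.cls_eq_zero_iff_κ]
  have hS := EtMV.injSeq_shortExact (EtCoh.const X (ZMod ℓ))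
  let S := EtMV.injSeq (EtCoh.const X (ZMod ℓ))
  let s : EtCoh.sect S.X₃ (EtCoh.top X) := EtMV.κ ψ
  let e : EtCoh.const X (ZMod ℓ) ≅ S.X₁ := Iso.refl _
  obtain ⟨U, t, hUf, hUs, ht, huniv⟩ := exists_torsor hS e s
  haveI := hUf
  haveI : Etale U.hom := U.prop
  -- translations
  have htr : ∀ m, ∃! v : U ⟶ U, res S.X₂ v t = t + cM e U m := fun m => huniv U _ (by
    rw [map_add, ht, g_cM]; exact add_zero _)
  choose tr htr htru using htr
  have hext : ∀ {V : X.Etale} {v v' : V ⟶ U}, res S.X₂ v t = res S.X₂ v' t → v = v' := fun {V v v'} h =>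
    (huniv V _ (by rw [app_res, ht, res_res, hom_top_eq (v' ≫ toTopX U) (toTopX V)])).unique h rfl
  have hcomp : ∀ m m', tr m ≫ tr m' = tr (m + m') := fun m m' => hext (by
    rw [← res_res, htr, map_add, htr, res_cM, htr, map_add, add_assoc])
  have hzero : tr 0 = 𝟙 U := hext (by rw [htr, map_zero, add_zero, res_id])
  let T : ZMod ℓ → (U.left ⟶ U.left) := fun m => (tr m).left
  have hTw : ∀ m, T m ≫ U.hom = U.hom := fun m => MorphismProperty.Over.w (tr m)
  have hTc : ∀ m m', T m ≫ T m' = T (m + m') := fun m m' => congrArg (fun f : U ⟶ U => f.left) (hcomp m m')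
  have hT0 : T 0 = 𝟙 U.left := congrArg (fun f : U ⟶ U => f.left) hzero
  haveI hTi : ∀ m, IsIso (T m) := fun m => ⟨T (-m), by rw [hTc, add_neg_cancel, hT0], by rw [hTc, neg_add_cancel, hT0]⟩
  -- transitivity on geometric points
  have htrans : ∀ (k : Type u) [Field k] [IsAlgClosed k] (p p' : Spec (CommRingCat.of k) ⟶ U.left),
      p ≫ U.hom = p' ≫ U.hom → ∃ m, p ≫ T m = p' := by
    intro k _ _ p p' hpp
    let W : X.Etale := Scheme.Etale.mk (pullback.fst U.hom U.hom ≫ U.hom)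
    let π₁ : W ⟶ U := MorphismProperty.Over.homMk (pullback.fst U.hom U.hom) rfl
    let π₂ : W ⟶ U := MorphismProperty.Over.homMk (pullback.snd U.hom U.hom) pullback.condition.symm
    let q : Over.mk (p ≫ U.hom) ⟶ (Scheme.Etale.forget X).obj W :=
      Over.homMk (pullback.lift p p' hpp) (pullback.lift_fst_assoc _ _ _ _)
    obtain ⟨V, h, m, hv, hm⟩ := lift_near hS e s (t := res S.X₂ π₁ t) (t' := res S.X₂ π₂ t)
      (by rw [app_res, ht, res_res, hom_top_eq (π₁ ≫ toTopX U) (toTopX W)])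
      (by rw [app_res, ht, res_res, hom_top_eq (π₂ ≫ toTopX U) (toTopX W)]) (q.left (default : Spec (CommRingCat.of k)))
    obtain ⟨y, hy⟩ := EtTrivGen.exists_point_lift h q hv
    have heq : h ≫ π₁ ≫ tr m = h ≫ π₂ := hext (by
      rw [← res_res, ← res_res, htr, map_add, map_add, res_cM, res_cM, ← res_res _ h π₂, hm])
    let y' : Over.mk (p ≫ U.hom) ⟶ (Scheme.Etale.forget X).obj V := y
    have hy' : y'.left ≫ h.left = pullback.lift p p' hpp := congrArg CommaMorphism.left hy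
    have h2 : (y'.left ≫ h.left) ≫ (pullback.fst U.hom U.hom ≫ T m) =
        (y'.left ≫ h.left) ≫ pullback.snd U.hom U.hom := by
      rw [Category.assoc, Category.assoc]
      exact congrArg (y'.left ≫ ·) (congrArg (fun f : V ⟶ U => f.left) heq)
    rw [hy', pullback.lift_fst_assoc, pullback.lift_snd] at h2
    exact ⟨m, h2⟩
  -- a connected component
  haveI : Nonempty U.left := by
    obtain ⟨x₁⟩ := (inferInstance : Nonempty X)
    exact ⟨(hUs.surj x₁).choose⟩
  obtain ⟨C, hC, hne, hpc⟩ := exists_connected_clopen (X := X) (U := U.left) U.hom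
  let f₀ : U.left ⟶ X := U.hom
  let O : U.left.Opens := ⟨C, hC.2⟩
  haveI : IsClosedImmersion O.ι := .of_isPreimmersion _ (by
    rw [Scheme.Opens.range_ι]; exact hC.1)
  haveI : IsFinite (O.ι ≫ U.hom) := inferInstance
  haveI : Etale (O.ι ≫ U.hom) := inferInstance
  let Y : FEt.Cat X := MorphismProperty.Over.mk ⊤ (O.ι ≫ U.hom) ⟨inferInstance, inferInstance⟩
  haveI hYc : ConnectedSpace Y.left := isConnected_iff_connectedSpace.1 ⟨hne, hpc⟩
  have hmove : ∀ (m : ZMod ℓ) (c : U.left), c ∈ C → T m c ∈ C → T m '' C = C := by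
    intro m c hc hc'
    have him : IsClopen (T m '' C) :=
      ⟨(T m).homeomorph.isClosedMap _ hC.1, (T m).homeomorph.isOpenMap _ hC.2⟩
    have h1 : C ⊆ T m '' C := hpc.subset_isClopen him ⟨T m c, hc', ⟨c, hc, rfl⟩⟩
    have h2 : T m '' C ⊆ C := (hpc.image _ (T m).continuous.continuousOn).subset_isClopen hC
      ⟨T m c, ⟨c, hc, rfl⟩, hc'⟩
    exact h2.antisymm h1
  have hρ : ∀ m : ZMod ℓ, T m '' C = C → ∃ σ : Aut Y, σ.hom.left ≫ O.ι = O.ι ≫ T m := by
    intro m hm
    have hm' : T (-m) '' C = C := by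
      conv_lhs => rw [← hm]
      rw [Set.image_image]
      have : ∀ x, T (-m) (T m x) = x := fun x => by
        rw [← Scheme.Hom.comp_apply, hTc, add_neg_cancel, hT0]; rfl
      simp [this]
    have hr : ∀ n : ZMod ℓ, T n '' C = C → Set.range (O.ι ≫ T n).base ⊆ Set.range O.ι.base := fun n hn => by
      rintro _ ⟨x, rfl⟩
      rw [Scheme.Opens.range_ι]
      exact hn.le ⟨O.ι x, x.2, (Scheme.Hom.comp_apply _ _ _).symm⟩
    let f : ∀ n : ZMod ℓ, T n '' C = C → (Y ⟶ Y) := fun n hn => MorphismProperty.Over.homMk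
      (IsOpenImmersion.lift O.ι (O.ι ≫ T n) (hr n hn)) (by
        change IsOpenImmersion.lift O.ι (O.ι ≫ T n) (hr n hn) ≫ O.ι ≫ U.hom = O.ι ≫ U.hom
        rw [IsOpenImmersion.lift_fac_assoc, Category.assoc, hTw])
    have hf : ∀ n hn, (f n hn).left ≫ O.ι = O.ι ≫ T n := fun n hn => IsOpenImmersion.lift_fac _ _ _
    refine ⟨⟨f m hm, f (-m) hm', ?_, ?_⟩, hf m hm⟩
    · refine FEtGal.hom_ext_left ((cancel_mono O.ι).1 ?_)
      change ((f m hm).left ≫ (f (-m) hm').left) ≫ O.ι = 𝟙 _ ≫ O.ι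
      rw [Category.assoc, hf (-m) hm', ← Category.assoc, hf m hm, Category.assoc, hTc, Category.id_comp,
        add_neg_cancel, hT0, Category.comp_id]
    · refine FEtGal.hom_ext_left ((cancel_mono O.ι).1 ?_)
      change ((f (-m) hm').left ≫ (f m hm).left) ≫ O.ι = 𝟙 _ ≫ O.ι
      rw [Category.assoc, hf m hm, ← Category.assoc, hf (-m) hm', Category.assoc, hTc, Category.id_comp,
        neg_add_cancel, hT0, Category.comp_id]
  have hstab : ∀ (k : Type u) [Field k] [IsAlgClosed k] (ξ : Spec (CommRingCat.of k) ⟶ X)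
      (a a' : FEt.fiberObj ξ Y), ∃ (m : ZMod ℓ) (σ : Aut Y),
        σ.hom.left ≫ O.ι = O.ι ≫ T m ∧ (FEt.fiber ξ).map σ.hom a = a' := by
    intro k _ _ ξ a a'
    obtain ⟨m, hm⟩ := htrans k (a.1 ≫ O.ι) (a'.1 ≫ O.ι) (by
      rw [Category.assoc, Category.assoc]; exact a.2.trans a'.2.symm)
    have hC' : T m '' C = C := hmove m ((a.1 ≫ O.ι) default) (a.1 default).2 (by
      rw [← Scheme.Hom.comp_apply, hm]; exact (a'.1 default).2)
    obtain ⟨σ, hσ⟩ := hρ m hC'
    refine ⟨m, σ, hσ, Subtype.ext ?_⟩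
    change a.1 ≫ σ.hom.left = a'.1
    rw [← cancel_mono O.ι, Category.assoc, hσ, ← Category.assoc]
    exact hm
  -- a geometric point of the component
  obtain ⟨c₀⟩ := (inferInstance : Nonempty Y.left)
  let k₀ := AlgebraicClosure (Y.left.residueField c₀)
  let p₀ : Spec (CommRingCat.of k₀) ⟶ Y.left :=
    Spec.map (CommRingCat.ofHom (algebraMap (Y.left.residueField c₀) k₀)) ≫ Y.left.fromSpecResidueField c₀
  let ξ₀ : Spec (CommRingCat.of k₀) ⟶ X := p₀ ≫ Y.hom
  let a₀ : FEt.fiberObj ξ₀ Y := ⟨p₀, rfl⟩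
  haveI := FEtGal.galoisCategory ξ₀
  haveI := FEtGal.fiberFunctor ξ₀
  haveI := HensLine.isConnected_of_connectedSpace Y
  haveI : Finite (Aut Y) := inferInstance
  have hshape : ∀ σ : Aut Y, ∃ m : ZMod ℓ, σ.hom.left ≫ O.ι = O.ι ≫ T m := fun σ => by
    obtain ⟨m, σ', hσ', hval⟩ := hstab k₀ ξ₀ a₀ ((FEt.fiber ξ₀).map σ.hom a₀)
    exact ⟨m, by rw [← Iso.ext (PreGaloisCategory.evaluation_injective_of_isConnected
      (FEtGal.fibre ξ₀) Y Y a₀ hval : σ'.hom = σ.hom)]; exact hσ'⟩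
  have hpow : ∀ σ : Aut Y, σ ^ ℓ = 1 := fun σ => by
    obtain ⟨m, hm⟩ := hshape σ
    have h : ∀ n : ℕ, (σ ^ n).hom.left ≫ O.ι = O.ι ≫ T (n • m) := fun n => by
      induction n with
      | zero =>
        rw [pow_zero, zero_smul, hT0, Category.comp_id]
        exact Category.id_comp _
      | succ n ih =>
        rw [pow_succ]
        change (σ.hom.left ≫ (σ ^ n).hom.left) ≫ O.ι = _
        rw [Category.assoc, ih, ← Category.assoc, hm, Category.assoc, hTc, succ_nsmul, add_comm]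
    refine Iso.ext (FEtGal.hom_ext_left ((cancel_mono O.ι).1 ((h ℓ).trans ?_)))
    rw [show ℓ • m = 0 by simp, hT0, Category.comp_id]
    exact (Category.id_comp _).symm
  have hiso : IsIso Y.hom := hX Y hYc
    (fun k _ _ ξ a a' => by obtain ⟨m, σ, -, h⟩ := hstab k ξ a a'; exact ⟨σ, h⟩)
    (fun q hq hdvd => by
      haveI := Fact.mk hq
      obtain ⟨σ, hσ⟩ := exists_prime_orderOf_dvd_card' q hdvd
      exact (Nat.prime_dvd_prime_iff_eq hq (Fact.out : ℓ.Prime)).1 (hσ ▸ orderOf_dvd_of_pow_eq_one (hpow σ)))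
  haveI : IsIso (O.ι ≫ U.hom) := hiso
  let sec : EtCoh.top X ⟶ U := MorphismProperty.Over.homMk (inv (O.ι ≫ U.hom) ≫ O.ι) (by
    rw [Category.assoc, IsIso.inv_hom_id]; rfl)
  refine ⟨res S.X₂ sec t, ?_⟩
  rw [app_res, ht, res_res, hom_top_eq (sec ≫ toTopX U) (𝟙 _)]
  exact res_id _ _

end Main

end Groth.Agent.LAcyc
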