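import Groth.Agent.LAcyc.Line
import Groth.Agent.LAcyc.H1Galois
import Groth.Agent.HensLine.GeomMain
import Groth.Agent.EtShLib.SmoothStrict
import Groth.Agent.TauTriv.Power
import Groth.Agent.EtPBC.CdDimLoc

/-!
# Geometric fibres of the strict localisation of the line at a rational point

Over a strictly henselian local ring they are connected and have `H¹(ℤ/ℓ) = 0`.
-/

set_option autoImplicit false
set_option backward.isDefEq.respectTransparency false
set_option backward.isDefEq.respectTransparency.types false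
set_option linter.style.haveILetI false
set_option maxHeartbeats 1000000
set_option synthInstance.maxHeartbeats 400000

universe u

open CategoryTheory CategoryTheory.Limits AlgebraicGeometry Opposite IsLocalRing
open scoped TensorProduct

noncomputable section

namespace Groth.Agent.LAcyc

open HensLine (origin fromPoly)

/-- the local ring at a point of an affine scheme -/
theorem fromSpecStalk_eq_loc (R : CommRingCat.{u}) (x : ↥(Spec R)) :
    (Spec R).fromSpecStalk x = Spec.map (Spec.stalkIso R x).inv ≫
      Spec.map (CommRingCat.ofHom (algebraMap R (Localization.AtPrime x.asIdeal))) := by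
  rw [Spec.fromSpecStalk_eq, ← Spec.algebraMap_stalkIso_inv, Spec.map_comp]

/-- the ring map of a strict localisation of an affine scheme -/
theorem spec_eq_map {R : CommRingCat.{u}} {x : ↥(Spec R)} (QX : EtBCQ.SH (Spec R) x) :
    QX.spec = Spec.map (CommRingCat.ofHom (((algebraMap ((Spec R).presheaf.stalk x) QX.R).comp
      (Spec.stalkIso R x).inv.hom).comp (algebraMap R (Localization.AtPrime x.asIdeal)))) := by
  rw [EtBCQ.SH.spec, Hens2.specOf, fromSpecStalk_eq_loc, ← Spec.map_comp, ← Spec.map_comp]
  rfl

variable (A : Type u) [CommRing A]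

/-- the structure map of a strict localisation of the line -/
theorem algebraMap_line {x : ↥(Spec (CommRingCat.of (Polynomial A)))}
    (QX : EtBCQ.SH (Spec (CommRingCat.of (Polynomial A))) x) [Algebra A QX.R]
    (hX : Spec.map (CommRingCat.ofHom (algebraMap A QX.R)) = QX.spec ≫ lineStr A) (a : A) :
    algebraMap A QX.R a = algebraMap ((Spec (CommRingCat.of (Polynomial A))).presheaf.stalk x) QX.R
      ((Spec.stalkIso (CommRingCat.of (Polynomial A)) x).inv
        (algebraMap (Polynomial A) (Localization.AtPrime x.asIdeal) (Polynomial.C a))) := by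
  rw [spec_eq_map, lineStr, ← Spec.map_comp] at hX
  exact congr($(Spec.map_injective hX) a)

instance smooth_lineStr : Smooth (lineStr A) := by
  rw [HasRingHomProperty.Spec_iff (P := @Smooth)]
  exact RingHom.smooth_algebraMap.2 ⟨inferInstance, inferInstance⟩

variable (Ω : Type u) [Field Ω] [Algebra A Ω]

/-- **connectedness of the geometric fibres of the strict localisations of the line** -/
theorem connected_line [HenselianLocalRing A] [IsSepClosed (ResidueField A)] [IsAlgClosed Ω]
    {x : ↥(Spec (CommRingCat.of (Polynomial A)))}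
    (QX : EtBCQ.SH (Spec (CommRingCat.of (Polynomial A))) x) [Algebra A QX.R] [IsLocalHom (algebraMap A QX.R)]
    (hX : Spec.map (CommRingCat.ofHom (algebraMap A QX.R)) = QX.spec ≫ lineStr A) :
    ConnectedSpace ↥(Spec (CommRingCat.of (QX.R ⊗[A] Ω))) := by
  obtain ⟨QY, e, he⟩ := EtShLib.exists_self_SH A
  letI : Algebra QY.R QX.R := ((algebraMap A QX.R).comp e.symm.toRingHom).toAlgebra
  letI : Algebra QY.R Ω := ((algebraMap A Ω).comp e.symm.toRingHom).toAlgebra
  haveI : IsLocalHom (algebraMap QY.R QX.R) := by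
    rw [RingHom.algebraMap_toAlgebra]
    haveI : IsLocalHom e.symm.toRingHom := IsLocalHom.of_surjective _ e.symm.surjective
    exact RingHom.isLocalHom_comp _ _
  have hX' : Spec.map (CommRingCat.ofHom (algebraMap QY.R QX.R)) ≫ QY.spec = QX.spec ≫ lineStr A := by
    rw [← he, ← Spec.map_comp, ← CommRingCat.ofHom_comp, ← hX]
    congr 2
    ext a
    simp [RingHom.algebraMap_toAlgebra]
  haveI : Module.Flat QY.R QX.R := by
    rw [← RingHom.flat_algebraMap_iff, RingHom.algebraMap_toAlgebra]
    refine RingHom.Flat.comp (RingHom.Flat.of_bijective e.symm.bijective) ?_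
    haveI : Flat (Spec.map (CommRingCat.ofHom (algebraMap A QX.R))) := by
      rw [hX, spec_eq_map]
      haveI := Hensel.strictHenselization_faithfullyFlat
        ((Spec (CommRingCat.of (Polynomial A))).presheaf.stalk x) QX.R
      haveI : Flat QX.spec := by
        rw [EtBCQ.SH.spec, Hens2.specOf]
        haveI : Flat (Spec.map (CommRingCat.ofHom
            (algebraMap ((Spec (CommRingCat.of (Polynomial A))).presheaf.stalk x) QX.R))) := by
          rw [HasRingHomProperty.Spec_iff (P := @Flat)]
          exact RingHom.flat_algebraMap_iff.mpr inferInstance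
        haveI : Flat ((Spec (CommRingCat.of (Polynomial A))).fromSpecStalk x) := GrpField.flat_fromSpecStalk _
        infer_instance
      rw [← spec_eq_map]
      infer_instance
    exact (HasRingHomProperty.Spec_iff (P := @Flat)).1 this
  haveI := EtShLib.connectedSpace_tensor_strict (lineStr A) QX QY hX' Ω
  letI : Algebra A QY.R := e.toRingHom.toAlgebra
  haveI : IsScalarTower A QY.R Ω := IsScalarTower.of_algebraMap_eq fun a => by
    simp [RingHom.algebraMap_toAlgebra]
  haveI : IsScalarTower A QY.R QX.R := IsScalarTower.of_algebraMap_eq fun a => by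
    simp [RingHom.algebraMap_toAlgebra]
  haveI hsur : TensorProduct.CompatibleSMul A QY.R QX.R Ω := ⟨fun r m n => by
    obtain ⟨a, rfl⟩ := (RingHom.algebraMap_toAlgebra e.toRingHom ▸ e.surjective :
      Function.Surjective (algebraMap A QY.R)) r
    rw [algebraMap_smul, algebraMap_smul, TensorProduct.smul_tmul]⟩
  haveI hconn := EtShLib.connectedSpace_tensor_strict (lineStr A) QX QY hX' Ω
  exact (PrimeSpectrum.homeomorphOfRingEquiv
    (Algebra.TensorProduct.equivOfCompatibleSMul A QY.R A QX.R Ω).toRingEquiv).connectedSpace_iff.mp hconn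

variable {ℓ : ℕ}

/-- `H¹` of the geometric fibres of the henselised line -/
theorem h1_origin [HenselianLocalRing A] [IsAlgClosed Ω] [Fact ℓ.Prime] (hℓ : (ℓ : ResidueField A) ≠ 0)
    (halg : ∀ w : Ω, ∃ m : A, algebraMap A Ω m ≠ 0 ∧ IsIntegral A (m • w))
    (R : Type u) [CommRing R] [IsLocalRing R] [Algebra (Localization.AtPrime (origin A)) R]
    [IsLocalHom (algebraMap (Localization.AtPrime (origin A)) R)]
    [_root_.Hensel.IsHenselization (Localization.AtPrime (origin A)) R]
    [Algebra A R] (hAR : ∀ a, algebraMap A R a = fromPoly A R (Polynomial.C a))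
    [ConnectedSpace ↥(Spec (CommRingCat.of (R ⊗[A] Ω)))] :
    Subsingleton (EtCoh.H (Spec (CommRingCat.of (R ⊗[A] Ω)))
      (EtCoh.const (Spec (CommRingCat.of (R ⊗[A] Ω))) (ZMod ℓ)) 1) :=
  subsingleton_H_one_of_galois ℓ fun Y hY hgal hcard => by
    haveI := hY
    exact HensLine.isIso_of_galois_geomFibre A R hAR Ω halg (𝟙 _) Y hgal
      fun q hq hdvd => (hcard q hq hdvd).symm ▸ hℓ

/-- transport along isomorphisms of the strict localisation -/
theorem h1_of_origin [HenselianLocalRing A] [IsAlgClosed Ω] [Fact ℓ.Prime] (hℓ : (ℓ : ResidueField A) ≠ 0)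
    (halg : ∀ w : Ω, ∃ m : A, algebraMap A Ω m ≠ 0 ∧ IsIntegral A (m • w))
    (R : Type u) [CommRing R] [IsLocalRing R] [Algebra (Localization.AtPrime (origin A)) R]
    [IsLocalHom (algebraMap (Localization.AtPrime (origin A)) R)]
    [_root_.Hensel.IsHenselization (Localization.AtPrime (origin A)) R]
    [Algebra A R] (hAR : ∀ a, algebraMap A R a = fromPoly A R (Polynomial.C a))
    {R' : Type u} [CommRing R'] [Algebra A R'] (e : R ≃ₐ[A] R')
    [ConnectedSpace ↥(Spec (CommRingCat.of (R' ⊗[A] Ω)))] :
    Subsingleton (EtCoh.H (Spec (CommRingCat.of (R' ⊗[A] Ω)))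
      (EtCoh.const (Spec (CommRingCat.of (R' ⊗[A] Ω))) (ZMod ℓ)) 1) := by
  let c : R' ⊗[A] Ω ≃+* R ⊗[A] Ω := (Algebra.TensorProduct.congr e.symm (AlgEquiv.refl : Ω ≃ₐ[A] Ω)).toRingEquiv
  let i : Spec (CommRingCat.of (R ⊗[A] Ω)) ≅ Spec (CommRingCat.of (R' ⊗[A] Ω)) :=
    Scheme.Spec.mapIso c.toCommRingCatIso.op
  haveI : ConnectedSpace ↥(Spec (CommRingCat.of (R ⊗[A] Ω))) := i.hom.homeomorph.connectedSpace_iff.mpr ‹_›
  exact (subsingleton_H_const_iff i (ZMod ℓ) 1).1 (h1_origin A Ω hℓ halg R hAR)

/-- **`H¹` of the geometric fibres at a rational point** -/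
theorem h1_shift [HenselianLocalRing A] [IsSepClosed (ResidueField A)] [IsAlgClosed Ω] [Fact ℓ.Prime]
    (hℓ : (ℓ : ResidueField A) ≠ 0)
    (halg : ∀ w : Ω, ∃ m : A, algebraMap A Ω m ≠ 0 ∧ IsIntegral A (m • w)) (τ : A)
    {x : ↥(Spec (CommRingCat.of (Polynomial A)))}
    (hx : x.asIdeal = (origin A).comap (Polynomial.algEquivAevalXAddC τ).toRingHom)
    (QX : EtBCQ.SH (Spec (CommRingCat.of (Polynomial A))) x) [Algebra A QX.R] [IsLocalHom (algebraMap A QX.R)]
    (hX : Spec.map (CommRingCat.ofHom (algebraMap A QX.R)) = QX.spec ≫ lineStr A) :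
    Subsingleton (EtCoh.H (Spec (CommRingCat.of (QX.R ⊗[A] Ω)))
      (EtCoh.const (Spec (CommRingCat.of (QX.R ⊗[A] Ω))) (ZMod ℓ)) 1) := by
  let L := Localization.AtPrime (origin A)
  let σ := Polynomial.algEquivAevalXAddC τ
  have hσ : origin A = x.asIdeal.comap σ.symm.toRingHom := by
    rw [hx, Ideal.comap_comap, show σ.toRingHom.comp σ.symm.toRingHom = RingHom.id _ from
      RingHom.ext fun p => σ.apply_symm_apply p, Ideal.comap_id]
  have hM : (origin A).primeCompl.map (σ.symm.toRingEquiv : Polynomial A ≃+* Polynomial A).toMonoidHom =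
      x.asIdeal.primeCompl := by
    ext p
    simp only [Submonoid.mem_map, Ideal.mem_primeCompl_iff]
    constructor
    · rintro ⟨q, hq, rfl⟩ hp
      exact hq (hσ ▸ hp)
    · intro hp
      exact ⟨σ p, fun hq => hp (hx ▸ hq), σ.symm_apply_apply p⟩
  let r : L ≃+* Localization.AtPrime x.asIdeal :=
    IsLocalization.ringEquivOfRingEquiv L (Localization.AtPrime x.asIdeal) σ.symm.toRingEquiv hM
  let g : L ≃+* (Spec (CommRingCat.of (Polynomial A))).presheaf.stalk x :=
    r.trans (Spec.stalkIso (CommRingCat.of (Polynomial A)) x).commRingCatIsoToRingEquiv.symm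
  have hg : ∀ p, g (algebraMap (Polynomial A) L p) = (Spec.stalkIso (CommRingCat.of (Polynomial A)) x).inv
      (algebraMap (Polynomial A) (Localization.AtPrime x.asIdeal) (σ.symm p)) := fun p =>
    congrArg (Spec.stalkIso (CommRingCat.of (Polynomial A)) x).inv
      (IsLocalization.ringEquivOfRingEquiv_eq hM p)
  letI : Algebra ((Spec (CommRingCat.of (Polynomial A))).presheaf.stalk x) L := g.symm.toRingHom.toAlgebra
  letI : Algebra L QX.R := ((algebraMap _ QX.R).comp g.toRingHom).toAlgebra
  haveI : IsScalarTower ((Spec (CommRingCat.of (Polynomial A))).presheaf.stalk x) L QX.R :=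
    IsScalarTower.of_algebraMap_eq fun z => by
      show algebraMap _ QX.R z = algebraMap _ QX.R (g (g.symm z))
      rw [RingEquiv.apply_symm_apply]
  haveI : IsLocalHom (algebraMap L QX.R) := by
    rw [RingHom.algebraMap_toAlgebra]
    haveI : IsLocalHom g.toRingHom := IsLocalHom.of_surjective _ g.surjective
    exact RingHom.isLocalHom_comp _ _
  haveI : _root_.Hensel.IsStrictHenselization L QX.R :=
    EtPBC.isStrictHenselization_of_bijective (A := (Spec (CommRingCat.of (Polynomial A))).presheaf.stalk x)
      g.symm.bijective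
  haveI : IsSepClosed (ResidueField L) := by
    haveI : (origin A).IsMaximal := HensLine.isMaximal_origin A
    let e₁ : (Polynomial A ⧸ origin A) ≃+* ResidueField L := IsLocalization.AtPrime.equivQuotMaximalIdeal (origin A) L
    have hker : origin A = RingHom.ker ((residue A).comp Polynomial.constantCoeff) := by
      ext q
      rw [HensLine.mem_origin_iff, RingHom.mem_ker, RingHom.comp_apply, residue_eq_zero_iff]
      rfl
    let e₂ : (Polynomial A ⧸ origin A) ≃+* ResidueField A :=
      (Ideal.quotEquivOfEq hker).trans (RingHom.quotientKerEquivOfSurjective fun z => by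
        obtain ⟨a, rfl⟩ := residue_surjective z
        exact ⟨Polynomial.C a, by simp⟩)
    exact Hensel.isSepClosed_of_ringEquiv (e₂.symm.trans e₁)
  obtain ⟨_, _⟩ := Hensel.exists_henselization L
  let R := Hensel.Env L (ResidueField L)
  haveI : _root_.Hensel.IsStrictHenselization L R := TauTriv.isStrictHenselization_of_isSepClosed L R
  obtain ⟨e₁⟩ := Hensel.strictHenselization_equiv L R
  obtain ⟨e₂⟩ := Hensel.strictHenselization_equiv L QX.R
  let e : R ≃ₐ[L] QX.R := e₁.trans e₂.symm
  letI : Algebra A R := ((fromPoly A R).comp Polynomial.C).toAlgebra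
  have heA : ∀ a : A, e (algebraMap A R a) = algebraMap A QX.R a := fun a => by
    show e (algebraMap L R (algebraMap (Polynomial A) L (Polynomial.C a))) = _
    rw [e.commutes, algebraMap_line A QX hX, RingHom.algebraMap_toAlgebra]
    show algebraMap _ QX.R (g _) = _
    rw [hg, show σ.symm (Polynomial.C a) = Polynomial.C a from σ.symm.commutes a]
  haveI := connected_line A Ω QX hX
  exact h1_of_origin A Ω hℓ halg R (fun a => rfl) (AlgEquiv.ofRingEquiv (f := e.toRingEquiv) heA)

end Groth.Agent.LAcyc
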