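import Groth.Agent.LAcyc.HenselTensor
import Groth.Agent.LAcyc.AffineSpace
import Groth.Agent.LAcyc.GenAcyclic
import Groth.Agent.LAcyc.Origin
import Groth.Agent.Hensel.LocalBase
import Groth.Agent.S0537
import Groth.Agent.S0539
import Mathlib

/-!
# Fibres of the henselisation of the affine line over a henselian local ring
-/

set_option autoImplicit false
set_option backward.isDefEq.respectTransparency false
set_option backward.isDefEq.respectTransparency.types false
set_option linter.style.haveILetI false
set_option linter.unusedSectionVars false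
set_option linter.overlappingInstances false
set_option maxHeartbeats 1000000
set_option synthInstance.maxHeartbeats 400000

universe u

open CategoryTheory CategoryTheory.Limits AlgebraicGeometry Opposite IsLocalRing
open scoped TensorProduct

noncomputable section

namespace Groth.Agent.LAcyc

attribute [local instance 100000] EtCoh.H._proof_1 Groth.Agent.EtMV.hext
attribute [local instance 200000] Groth.Agent.EtMV.hextAb

/-- strict henselisations do not change along isomorphisms of the ring below -/
theorem isStrictHenselization_source {R₁ R₂ S : Type u} [CommRing R₁] [IsLocalRing R₁] [CommRing R₂] [IsLocalRing R₂]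
    [CommRing S] [IsLocalRing S] [Algebra R₁ S] [Algebra R₂ S] [IsLocalHom (algebraMap R₁ S)]
    [IsLocalHom (algebraMap R₂ S)] (e : R₁ ≃+* R₂) (he : ∀ a, algebraMap R₂ S (e a) = algebraMap R₁ S a)
    [hS : _root_.Hensel.IsStrictHenselization R₂ S] : _root_.Hensel.IsStrictHenselization R₁ S := by
  haveI := hS.isSepClosure.2
  have he' : ∀ a, algebraMap R₁ S (e.symm a) = algebraMap R₂ S a := fun a => by rw [← he, e.apply_symm_apply]
  refine ⟨hS.henselian, ⟨hS.isSepClosure.1, ?_⟩, fun T _ _ f hf τ hτ => ?_⟩
  · refine Algebra.IsSeparable.of_equiv_equiv (ResidueField.mapEquiv e.symm) (RingEquiv.refl (ResidueField S))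
      (RingHom.ext fun z => ?_)
    obtain ⟨a, rfl⟩ := residue_surjective z
    exact congrArg (residue S) (he' a)
  haveI : IsLocalHom e.symm.toRingHom := IsLocalHom.of_surjective _ e.symm.surjective
  haveI : IsLocalHom (f.comp e.symm.toRingHom) := RingHom.isLocalHom_comp _ _
  obtain ⟨g, ⟨hg, hgτ⟩, hgu⟩ := hS.universal T (f.comp e.symm.toRingHom) τ (RingHom.ext fun z => by
    obtain ⟨a, rfl⟩ := residue_surjective z
    refine Eq.trans ?_ (RingHom.congr_fun hτ (residue R₁ (e.symm a)))
    exact congrArg (fun s => τ (residue S s)) (he' a).symm)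
  refine ⟨g, ⟨RingHom.ext fun a => ?_, hgτ⟩, fun g' hg' => hgu g' ⟨RingHom.ext fun a => ?_, hg'.2⟩⟩
  · show g (algebraMap R₁ S a) = f a
    rw [← he]
    exact (RingHom.congr_fun hg (e a)).trans (congrArg f (e.symm_apply_apply a))
  · show g' (algebraMap R₂ S a) = f (e.symm a)
    rw [← he']
    exact RingHom.congr_fun hg'.1 _

section ShSpec

variable (R : Type u) [CommRing R] (p : ↥(Spec (CommRingCat.of R))) (S : Type u) [CommRing S] [IsLocalRing S]
  [Algebra (Localization.AtPrime p.asIdeal) S] [IsLocalHom (algebraMap (Localization.AtPrime p.asIdeal) S)]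
  [_root_.Hensel.IsStrictHenselization (Localization.AtPrime p.asIdeal) S]

/-- the structure map from the stalk -/
abbrev stalkAlg : Algebra ((Spec (CommRingCat.of R)).presheaf.stalk p) S :=
  ((algebraMap (Localization.AtPrime p.asIdeal) S).comp (Spec.stalkIso (CommRingCat.of R) p).hom.hom).toAlgebra

theorem isLocalHom_stalkAlg :
    letI := stalkAlg R p S
    IsLocalHom (algebraMap ((Spec (CommRingCat.of R)).presheaf.stalk p) S) := by
  letI := stalkAlg R p S
  show IsLocalHom ((algebraMap (Localization.AtPrime p.asIdeal) S).comp (Spec.stalkIso (CommRingCat.of R) p).hom.hom)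
  haveI : IsLocalHom (Spec.stalkIso (CommRingCat.of R) p).hom.hom :=
    IsLocalHom.of_surjective _ (Spec.stalkIso (CommRingCat.of R) p).commRingCatIsoToRingEquiv.surjective
  exact RingHom.isLocalHom_comp _ _

theorem isSH_stalkAlg :
    letI := stalkAlg R p S
    haveI := isLocalHom_stalkAlg R p S
    _root_.Hensel.IsStrictHenselization ((Spec (CommRingCat.of R)).presheaf.stalk p) S := by
  letI := stalkAlg R p S
  haveI := isLocalHom_stalkAlg R p S
  exact isStrictHenselization_source (R₂ := Localization.AtPrime p.asIdeal)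
    (Spec.stalkIso (CommRingCat.of R) p).commRingCatIsoToRingEquiv fun a => rfl

/-- strict localisations of affine schemes from strict henselisations of localisations -/
@[reducible] def shSpec : EtBCQ.SH (Spec (CommRingCat.of R)) p where
  R := S
  alg := stalkAlg R p S
  lh := isLocalHom_stalkAlg R p S
  sh := isSH_stalkAlg R p S

theorem shSpec_spec : (shSpec R p S).spec = Spec.map (CommRingCat.ofHom
    ((algebraMap (Localization.AtPrime p.asIdeal) S).comp (algebraMap R (Localization.AtPrime p.asIdeal)))) := by
  rw [spec_eq_map]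
  refine congrArg (fun f => Spec.map (CommRingCat.ofHom f)) (RingHom.ext fun r => ?_)
  show algebraMap (Localization.AtPrime p.asIdeal) S ((Spec.stalkIso (CommRingCat.of R) p).hom
    ((Spec.stalkIso (CommRingCat.of R) p).inv (algebraMap R (Localization.AtPrime p.asIdeal) r))) = _
  rw [Iso.inv_hom_id_apply]
  rfl

end ShSpec

/-- **the geometric fibres of `A{t}` over a henselian local ring `A` are acyclic** -/
theorem isAcyclicSchemeN_henselLine (A : Type u) [CommRing A] [HenselianLocalRing A]
    (P : Ideal (Polynomial A)) (hP : P = (maximalIdeal A).map Polynomial.C ⊔ Ideal.span {Polynomial.X})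
    [P.IsPrime] (B : Type u) [CommRing B] [IsLocalRing B] [Algebra (Localization.AtPrime P) B]
    [IsLocalHom (algebraMap (Localization.AtPrime P) B)] [_root_.Hensel.IsHenselization (Localization.AtPrime P) B]
    [Algebra A B] [IsScalarTower A (Localization.AtPrime P) B] (n : ℕ)
    (Ω : Type u) [Field Ω] [IsSepClosed Ω] (γ : Spec (CommRingCat.of Ω) ⟶ Spec (CommRingCat.of A)) :
    EtAcyc.IsAcyclicSchemeN {ℓ | ℓ.Prime ∧ (ℓ : ResidueField A) ≠ 0} n
      (pullback (Spec.map (CommRingCat.ofHom (algebraMap A B))) γ) := by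
  refine isAcyclicSchemeN_of_algClosure _ Ω _ ?_
  let K := AlgebraicClosure Ω
  generalize Spec.map (CommRingCat.ofHom (algebraMap Ω (AlgebraicClosure Ω))) ≫ γ = γK
  let L := Localization.AtPrime P
  have hmem : ∀ q : Polynomial A, q ∈ P ↔ q.coeff 0 ∈ maximalIdeal A := fun q => by
    refine ⟨fun hq => ?_, fun hq => ?_⟩
    · rw [hP] at hq
      have hle : (maximalIdeal A).map Polynomial.C ⊔ Ideal.span {Polynomial.X} ≤
          (maximalIdeal A).comap Polynomial.constantCoeff :=
        sup_le (Ideal.map_le_iff_le_comap.2 fun a ha => by simpa using ha)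
          (Ideal.span_le.2 (by simp))
      exact hle hq
    · rw [hP, ← Polynomial.X_mul_divX_add q]
      exact add_mem (Ideal.mul_mem_right _ _ (Ideal.mem_sup_right (Ideal.mem_span_singleton_self _)))
        (Ideal.mem_sup_left (Ideal.mem_map_of_mem _ hq))
  have hC : ∀ a : A, algebraMap A L a = algebraMap (Polynomial A) L (Polynomial.C a) := fun a =>
    IsScalarTower.algebraMap_apply A (Polynomial A) L a
  have hL : IsLocalHom (algebraMap A L) := ⟨fun a ha => by
    rw [hC, IsLocalization.AtPrime.isUnit_to_map_iff L P, Ideal.mem_primeCompl_iff, hmem, Polynomial.coeff_C_zero] at ha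
    exact notMem_maximalIdeal.1 ha⟩
  haveI := hL
  have hres : Function.Surjective fun a : A => residue L (algebraMap A L a) := fun z => by
    obtain ⟨w, rfl⟩ := residue_surjective z
    obtain ⟨⟨a, s⟩, hw⟩ := IsLocalization.surj P.primeCompl w
    have hsu : IsUnit ((s : Polynomial A).coeff 0) :=
      notMem_maximalIdeal.1 fun h => s.2 ((hmem _).2 h)
    have hlow : ∀ q : Polynomial A, residue L (algebraMap (Polynomial A) L q) = residue L (algebraMap A L (q.coeff 0)) := fun q => by
      rw [← sub_eq_zero, ← map_sub, hC, ← map_sub, residue_eq_zero_iff, ← IsLocalization.AtPrime.map_eq_maximalIdeal P]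
      exact Ideal.mem_map_of_mem _ ((hmem _).2 (by simp))
    refine ⟨a.coeff 0 * ↑hsu.unit⁻¹, ?_⟩
    have h1 := congrArg (residue L) hw
    rw [map_mul, hlow, hlow] at h1
    show residue L (algebraMap A L (a.coeff 0 * ↑hsu.unit⁻¹)) = residue L w
    rw [map_mul, map_mul, ← h1, mul_assoc, ← map_mul (residue L) (algebraMap A L _), ← map_mul (algebraMap A L),
      hsu.mul_val_inv, map_one, map_one, mul_one]
  obtain ⟨A', cA, lA, algA, lhA, shA⟩ := Groth.Agent.S0537.result A
  haveI hW : IsLocalRing (B ⊗[A] A') := isLocalRing_tensor A L B A' hres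
  haveI := isLocalHom_tensor A L B A' hres
  haveI hWsh := isStrictHenselization_tensor A L B A' hres
  haveI : HenselianLocalRing A' := shA.henselian
  haveI : IsSepClosed (ResidueField A') := shA.isSepClosure.1
  haveI : HenselianLocalRing (B ⊗[A] A') := hWsh.henselian
  haveI : IsSepClosed (ResidueField (B ⊗[A] A')) := hWsh.isSepClosure.1
  let x : ↥(Spec (CommRingCat.of (Polynomial A))) := ⟨P, inferInstance⟩
  letI : Algebra (Localization.AtPrime x.asIdeal) (B ⊗[A] A') := (inferInstance : Algebra L (B ⊗[A] A'))
  let QX := shSpec (Polynomial A) x (B ⊗[A] A')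
  let y : ↥(Spec (CommRingCat.of A)) := ⟨maximalIdeal A, inferInstance⟩
  letI := Hensel.atMaximalAlgebra A A'
  haveI : IsScalarTower A (Localization.AtPrime (maximalIdeal A)) A' :=
    IsScalarTower.of_algebraMap_eq fun a => (IsLocalization.lift_eq _ a).symm
  haveI := Hensel.isLocalHom_atMaximal A A'
  haveI := Hensel.isStrictHenselization_atMaximal A A'
  let QS := shSpec A y A'
  let φ' : A' →+* B ⊗[A] A' := (Algebra.TensorProduct.includeRight (R := A) (A := B) (B := A')).toRingHom
  haveI : IsLocalHom φ' := isLocalHom_right A L B A' hres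
  letI : Algebra QS.R QX.R := φ'.toAlgebra
  haveI : IsLocalHom (algebraMap QS.R QX.R) := ‹IsLocalHom φ'›
  have hsp : Spec.map (CommRingCat.ofHom (algebraMap QS.R QX.R)) ≫ QS.spec = QX.spec ≫ lineStr A := by
    rw [shSpec_spec, shSpec_spec, ← Spec.map_comp, lineStr, ← Spec.map_comp]
    refine congrArg Spec.map (CommRingCat.hom_ext (RingHom.ext fun a => ?_))
    show φ' (algebraMap (Localization.AtPrime (maximalIdeal A)) A' (algebraMap A _ a)) =
      algebraMap L (B ⊗[A] A') (algebraMap (Polynomial A) L (Polynomial.C a))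
    rw [← IsScalarTower.algebraMap_apply, ← hC,
      show algebraMap L (B ⊗[A] A') (algebraMap A L a) = algebraMap L B (algebraMap A L a) ⊗ₜ[A] 1 from rfl,
      ← IsScalarTower.algebraMap_apply A L B]
    show (1 : B) ⊗ₜ[A] (algebraMap A A' a) = algebraMap A B a ⊗ₜ[A] (1 : A')
    rw [Algebra.algebraMap_eq_smul_one, Algebra.algebraMap_eq_smul_one, TensorProduct.smul_tmul]
  let v : Spec (CommRingCat.of A') ⟶ Spec (CommRingCat.of A) := Spec.map (CommRingCat.ofHom (algebraMap A A'))
  haveI := isIntegral_strictHenselization A A'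
  haveI : IsIntegralHom v := IsIntegralHom.SpecMap_iff.2 (algebraMap_isIntegral_iff.2 ‹_›)
  haveI : Surjective v := by
    haveI := Groth.Agent.S0539.result A A'
    exact ⟨PrimeSpectrum.comap_surjective_of_faithfullyFlat⟩
  obtain ⟨γ', rfl⟩ := GenULoc.exists_geom_lift v γK
  letI : Algebra A' K := (Spec.preimage γ').hom.toAlgebra
  have hγ : FEtSepBC.st A' K = γ' := Spec.map_preimage γ'
  have sq : IsPullback (Spec.map (CommRingCat.ofHom (Algebra.TensorProduct.includeLeftRingHom (R := A) (A := B) (B := A'))))
      (Spec.map (CommRingCat.ofHom φ')) (Spec.map (CommRingCat.ofHom (algebraMap A B))) v :=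
    isPullback_SpecMap_of_isPushout _ _ _ _ (CommRingCat.isPushout_tensorProduct A B A')
  let e : pullback (Spec.map (CommRingCat.ofHom φ')) (FEtSepBC.st A' K) ≅
      pullback (Spec.map (CommRingCat.ofHom (algebraMap A B))) (γ' ≫ v) :=
    pullback.congrHom rfl hγ ≪≫
      ((IsPullback.of_hasPullback (Spec.map (CommRingCat.ofHom φ')) γ').flip.paste_vert sq.flip).flip.isoPullback
  haveI : ConnectedSpace ↥(pullback (Spec.map (CommRingCat.ofHom φ')) (FEtSepBC.st A' K)) :=
    connected_fibres_smooth (lineStr A) QS QX hsp K (FEtSepBC.st A' K)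
  refine isAcyclicSchemeN_of_iso e ⟨inferInstance, inferInstance, fun l hl hlL q hq _ => ?_⟩
  have hunit : IsUnit (l : A') := by
    have h1 : IsUnit (l : A) := by
      by_contra h
      exact hlL.2 (by rw [← map_natCast (residue A), (residue_eq_zero_iff _).2 h])
    rw [← map_natCast (algebraMap A A')]
    exact h1.map _
  have hu : UFib (algebraMap QS.R QX.R) {l} q := ufib_smooth (lineStr A) QS QX _ hsp hl hunit q
  exact fibre_vanish hu K hl rfl hq le_rfl

end Groth.Agent.LAcyc
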