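import Groth.Agent.Hensel.Local
import Groth.Agent.S0507
import Groth.Agent.S0508
import Mathlib

/-!
# Strict henselisations over henselian local rings

Over a henselian local ring `A`, a strict henselisation `A'` is integral, and for a local `A`-algebra `L` with
residue field equal to that of `A` the strict henselisation of `L` is `B ⊗[A] A'`, `B` being the henselisation.
-/

set_option autoImplicit false
set_option backward.isDefEq.respectTransparency false
set_option backward.isDefEq.respectTransparency.types false
set_option linter.style.haveILetI false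
set_option linter.unusedSectionVars false
set_option maxHeartbeats 1000000

universe u

open IsLocalRing
open scoped TensorProduct

noncomputable section

namespace Groth.Agent.LAcyc

/-- an integral algebra without idempotents over a henselian local ring is local -/
theorem isLocalRing_of_integral_idem (S : Type u) [CommRing S] [HenselianLocalRing S] (T : Type u) [CommRing T]
    [Nontrivial T] [Algebra S T] [Algebra.IsIntegral S T]
    (hid : ∀ e : T, IsIdempotentElem e → e = 0 ∨ e = 1) : IsLocalRing T := by
  classical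
  obtain ⟨M₀, hM₀⟩ := Ideal.exists_maximal T
  refine IsLocalRing.of_unique_max_ideal ⟨M₀, hM₀, fun M hM => hM.eq_of_le hM₀.ne_top fun x hx => ?_⟩
  set T₀ := Algebra.adjoin S ({x} : Set T) with hT₀
  haveI : Module.Finite S T₀ := Module.Finite.iff_fg.2 (Algebra.IsIntegral.isIntegral (R := S) x).fg_adjoin_singleton
  haveI : Algebra.IsIntegral S T₀ := Algebra.IsIntegral.of_finite S T₀
  obtain ⟨ι, _, e, he, hloc⟩ := Hensel.exists_pi_local S T₀
  obtain ⟨i, hi⟩ : ∃ i, e i ≠ 0 := by
    by_contra hall
    push Not at hall
    have := he.complete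
    simp [hall] at this
  have h1 : e i = 1 := by
    rcases hid (e i).1 (congrArg Subtype.val (he.idem i).eq) with h | h
    · exact absurd (Subtype.ext h) hi
    · exact Subtype.ext h
  have hspan : Ideal.span ({1 - e i} : Set T₀) = ⊥ := by rw [h1, sub_self, Ideal.span_singleton_eq_bot]
  haveI := hloc i
  haveI : IsLocalRing T₀ :=
    ((Ideal.quotEquivOfEq hspan).trans (RingEquiv.quotientBot T₀)).isLocalRing
  have hmax : ∀ N : Ideal T, N.IsMaximal → N.comap T₀.val.toRingHom = maximalIdeal T₀ := fun N hN => by
    refine eq_maximalIdeal ?_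
    haveI : (N.comap T₀.val.toRingHom).IsPrime := Ideal.IsPrime.comap _
    refine Ideal.isMaximal_of_isIntegral_of_isMaximal_comap (R := S) _ ?_
    rw [Ideal.comap_comap, AlgHom.toRingHom_eq_coe, AlgHom.comp_algebraMap]
    exact Ideal.isMaximal_comap_of_isIntegral_of_isMaximal (R := S) N
  have h2 : (⟨x, Algebra.self_mem_adjoin_singleton S x⟩ : T₀) ∈ M.comap T₀.val.toRingHom := hx
  rw [hmax M hM, ← hmax M₀ hM₀] at h2
  exact h2

theorem comap_maximalIdeal_of_local {R S : Type u} [CommRing R] [IsLocalRing R] [CommRing S] [IsLocalRing S]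
    (f : R →+* S) [IsLocalHom f] : (maximalIdeal S).comap f = maximalIdeal R := by
  ext x
  simp only [Ideal.mem_comap, mem_maximalIdeal, mem_nonunits_iff]
  exact not_congr ⟨fun h => isUnit_of_map_unit f x h, fun h => h.map f⟩

/-- **strict henselisations of henselian local rings are integral** -/
theorem isIntegral_strictHenselization (A S : Type u) [CommRing A] [HenselianLocalRing A] [CommRing S] [IsLocalRing S]
    [Algebra A S] [IsLocalHom (algebraMap A S)] [hS : _root_.Hensel.IsStrictHenselization A S] :
    Algebra.IsIntegral A S := by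
  haveI := hS.henselian
  haveI := hS.isSepClosure.2
  let C := integralClosure A S
  haveI : IsLocalRing C := by
    haveI : Algebra.IsIntegral A C := inferInstance
    refine isLocalRing_of_integral_idem A C fun e he => ?_
    have h1 : IsIdempotentElem (e : S) := congrArg Subtype.val he.eq
    by_cases hu : IsUnit (e : S)
    · right
      exact Subtype.ext (hu.mul_left_cancel (h1.eq.trans (mul_one _).symm))
    · left
      have h2 : IsUnit (1 - (e : S)) := (IsLocalRing.isUnit_or_isUnit_one_sub_self _).resolve_left hu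
      refine Subtype.ext (h2.mul_left_cancel ?_)
      show (1 - (e : S)) * e = (1 - (e : S)) * (0 : S)
      rw [sub_mul, one_mul, h1.eq, sub_self, mul_zero]
  haveI : HenselianLocalRing C := Hensel.henselianLocalRing_finite A C
  have hAC : IsLocalHom (algebraMap A C) := ⟨fun a ha => by
    refine isUnit_of_map_unit (algebraMap A S) a ?_
    exact ha.map C.val⟩
  have hCS : IsLocalHom C.val.toRingHom := by
    refine ⟨fun c hc => ?_⟩
    by_contra hcu
    have hmax : (Ideal.comap C.val.toRingHom (maximalIdeal S)).IsMaximal := by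
      haveI : (Ideal.comap C.val.toRingHom (maximalIdeal S)).IsPrime := Ideal.IsPrime.comap _
      refine Ideal.isMaximal_of_isIntegral_of_isMaximal_comap (R := A) _ ?_
      rw [Ideal.comap_comap, AlgHom.toRingHom_eq_coe, AlgHom.comp_algebraMap]
      rw [comap_maximalIdeal_of_local (algebraMap A S)]
      infer_instance
    have h := eq_maximalIdeal hmax
    have hcm : c ∈ Ideal.comap C.val.toRingHom (maximalIdeal S) := h ▸ hcu
    exact hcm hc
  haveI := hCS
  let ι : ResidueField C →+* ResidueField S := ResidueField.map C.val.toRingHom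
  have hsurj : Function.Surjective ι := fun a => by
    have hsep := Algebra.IsSeparable.isSeparable (ResidueField A) a
    obtain ⟨F, hF, -, hFm⟩ := Polynomial.lifts_and_degree_eq_and_monic
      ((Polynomial.lifts_iff_coeff_lifts (minpoly (ResidueField A) a)).2 fun k => residue_surjective _)
      (minpoly.monic hsep.isIntegral)
    obtain ⟨a₀, ha₀⟩ := residue_surjective a
    have key : ∀ P : Polynomial A, residue S ((P.map (algebraMap A S)).eval a₀) =
        Polynomial.aeval a (P.map (residue A)) := fun P => by
      rw [Polynomial.eval_map, Polynomial.hom_eval₂, ha₀, Polynomial.aeval_def, Polynomial.eval₂_map]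
      congr 1
    obtain ⟨x, hx, hxa⟩ := HenselianLocalRing.is_henselian (F.map (algebraMap A S)) (hFm.map _) a₀
      ((residue_eq_zero_iff _).1 (by rw [key, hF, minpoly.aeval]))
      (by
        by_contra hu
        have h0 := (residue_eq_zero_iff _).2 hu
        rw [Polynomial.derivative_map, key, ← Polynomial.derivative_map, hF] at h0
        exact hsep.aeval_derivative_ne_zero (minpoly.aeval _ a) h0)
    have hxi : IsIntegral A x := ⟨F, hFm, by rw [← Polynomial.eval_map]; exact hx⟩
    refine ⟨residue C ⟨x, hxi⟩, ?_⟩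
    show residue S x = a
    rw [← ha₀, ← sub_eq_zero, ← map_sub]
    exact (residue_eq_zero_iff _).2 hxa
  let eι : ResidueField C ≃+* ResidueField S := RingEquiv.ofBijective ι ⟨ι.injective, hsurj⟩
  haveI := hAC
  obtain ⟨g, ⟨hg, hgτ⟩, -⟩ := hS.universal C (algebraMap A C) eι.symm.toRingHom (RingHom.ext fun z => by
    obtain ⟨a, rfl⟩ := residue_surjective z
    apply eι.injective
    simp only [RingHom.comp_apply, RingEquiv.toRingHom_eq_coe, RingEquiv.coe_toRingHom, RingEquiv.apply_symm_apply]
    rfl)
  have hid : C.val.toRingHom.comp g = RingHom.id S := by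
    obtain ⟨g₀, -, huniq⟩ := hS.universal S (algebraMap A S) (RingHom.id _) (RingHom.id_comp _)
    refine (huniq _ ⟨?_, fun z => ?_⟩).trans (huniq _ ⟨RingHom.id_comp _, fun z => rfl⟩).symm
    · rw [RingHom.comp_assoc, hg]; rfl
    · show ι (residue C (g z)) = residue S z
      rw [hgτ]
      exact eι.apply_symm_apply _
  exact ⟨fun z => by
    have h := RingHom.congr_fun hid z
    rw [← show (g z : S) = z from h]
    exact (g z).2⟩

section Tensor

variable (A L B A' : Type u) [CommRing A] [HenselianLocalRing A] [CommRing L] [IsLocalRing L] [Algebra A L]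
  [IsLocalHom (algebraMap A L)] [CommRing B] [IsLocalRing B] [Algebra L B] [IsLocalHom (algebraMap L B)]
  [_root_.Hensel.IsHenselization L B] [Algebra A B] [IsScalarTower A L B] [CommRing A'] [IsLocalRing A'] [Algebra A A']
  [IsLocalHom (algebraMap A A')] [_root_.Hensel.IsStrictHenselization A A']

theorem residue_surjective_henselization (hres : Function.Surjective fun a : A => residue L (algebraMap A L a)) :
    Function.Surjective fun a : A => residue B (algebraMap A B a) := fun z => by
  obtain ⟨w, rfl⟩ := (Groth.Agent.S0508.result L B).2 z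
  obtain ⟨a, rfl⟩ := hres w
  refine ⟨a, ?_⟩
  show residue B (algebraMap A B a) = _
  rw [IsScalarTower.algebraMap_apply A L B]; rfl

variable (hres : Function.Surjective fun a : A => residue L (algebraMap A L a))

include hres in
theorem exists_resB : ∃ π : B →+* ResidueField A,
    (∀ a : A, π (algebraMap A B a) = residue A a) ∧ ∀ b, π b = 0 → b ∈ maximalIdeal B := by
  haveI := (show IsLocalHom (algebraMap A B) from (IsScalarTower.algebraMap_eq A L B) ▸ RingHom.isLocalHom_comp _ _)
  let e : ResidueField A →+* ResidueField B := ResidueField.map (algebraMap A B)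
  have he : Function.Bijective e := ⟨e.injective, fun z => by
    obtain ⟨a, rfl⟩ := residue_surjective_henselization A L B hres z
    exact ⟨residue A a, rfl⟩⟩
  refine ⟨(RingEquiv.ofBijective e he).symm.toRingHom.comp (residue B), fun a => ?_, fun b hb => ?_⟩
  · exact (RingEquiv.ofBijective e he).symm_apply_apply (residue A a)
  · refine (residue_eq_zero_iff b).1 ?_
    exact (RingEquiv.ofBijective e he).symm.injective (hb.trans (map_zero _).symm)

include hres in
/-- the residue map of the tensor product -/
theorem exists_resW : ∃ π : B ⊗[A] A' →+* ResidueField A',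
    (∀ a : A', π (1 ⊗ₜ a) = residue A' a) ∧ (∀ b ∈ maximalIdeal B, π (b ⊗ₜ 1) = 0) := by
  obtain ⟨π, hπ, hπ0⟩ := exists_resB A L B hres
  haveI : IsLocalHom (algebraMap A B) := (IsScalarTower.algebraMap_eq A L B) ▸ RingHom.isLocalHom_comp _ _
  let f : B →ₐ[A] ResidueField A' :=
    { toRingHom := (algebraMap (ResidueField A) (ResidueField A')).comp π
      commutes' := fun a => by
        show algebraMap (ResidueField A) (ResidueField A') (π (algebraMap A B a)) = _
        rw [hπ]
        rfl }
  refine ⟨(Algebra.TensorProduct.lift f (IsScalarTower.toAlgHom A A' (ResidueField A'))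
    fun _ _ => Commute.all _ _).toRingHom, fun a => by simp [ResidueField.algebraMap_eq], fun b hb => ?_⟩
  have hb0 : π b = 0 := by
    by_contra h
    obtain ⟨a, ha⟩ := residue_surjective (π b)
    have h1 : π (b - algebraMap A B a) = 0 := by rw [map_sub, hπ, ha, sub_self]
    have h2 : algebraMap A B a ∈ maximalIdeal B := by
      have := sub_mem hb (hπ0 _ h1); rwa [sub_sub_cancel] at this
    exact h (ha.symm.trans ((residue_eq_zero_iff a).2 ((comap_maximalIdeal_of_local (algebraMap A B)).le h2)))
  simp [f, hb0]

include hres in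
/-- elements of the tensor product up to the two maximal ideals -/
theorem exists_approx (w : B ⊗[A] A') :
    ∃ a : A', w - (1 : B) ⊗ₜ[A] a ∈ (maximalIdeal B).map (algebraMap B (B ⊗[A] A')) := by
  induction w using TensorProduct.induction_on with
  | zero => exact ⟨0, by simp⟩
  | tmul b c =>
    obtain ⟨a₀, ha₀⟩ := residue_surjective_henselization A L B hres (residue B b)
    refine ⟨a₀ • c, ?_⟩
    have hb : b - algebraMap A B a₀ ∈ maximalIdeal B := (residue_eq_zero_iff _).1 (by rw [map_sub]; exact sub_eq_zero.2 ha₀.symm)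
    have e : b ⊗ₜ[A] c - (1 : B) ⊗ₜ[A] (a₀ • c) = algebraMap B (B ⊗[A] A') (b - algebraMap A B a₀) * ((1 : B) ⊗ₜ[A] c) := by
      rw [← TensorProduct.smul_tmul a₀ (1 : B) c, ← Algebra.algebraMap_eq_smul_one, ← TensorProduct.sub_tmul,
        show algebraMap B (B ⊗[A] A') (b - algebraMap A B a₀) = (b - algebraMap A B a₀) ⊗ₜ[A] (1 : A') from rfl,
        Algebra.TensorProduct.tmul_mul_tmul, mul_one, one_mul]
    rw [e]
    exact Ideal.mul_mem_right _ _ (Ideal.mem_map_of_mem _ hb)
  | add x y hx hy =>
    obtain ⟨a, ha⟩ := hx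
    obtain ⟨c, hc⟩ := hy
    exact ⟨a + c, by rw [TensorProduct.tmul_add, add_sub_add_comm]; exact add_mem ha hc⟩

include hres in
/-- **the tensor product is local** -/
theorem isLocalRing_tensor : IsLocalRing (B ⊗[A] A') := by
  haveI := isIntegral_strictHenselization A A'
  obtain ⟨π, hπ, hπ0⟩ := exists_resW A L B A' hres
  have hπs : Function.Surjective π := fun z => by
    obtain ⟨a, rfl⟩ := residue_surjective z
    exact ⟨_, hπ a⟩
  haveI : (RingHom.ker π).IsMaximal := RingHom.ker_isMaximal_of_surjective π hπs
  refine IsLocalRing.of_unique_max_ideal ⟨RingHom.ker π, inferInstance, fun M hM => ?_⟩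
  refine (Ideal.IsMaximal.eq_of_le inferInstance hM.ne_top fun w hw => ?_).symm
  have h1 : M.comap (algebraMap B (B ⊗[A] A')) = maximalIdeal B :=
    eq_maximalIdeal (Ideal.isMaximal_comap_of_isIntegral_of_isMaximal (R := B) M)
  obtain ⟨a, ha⟩ := exists_approx A L B A' hres w
  have ha0 : π (w - (1 : B) ⊗ₜ[A] a) = 0 := by
    have : (maximalIdeal B).map (algebraMap B (B ⊗[A] A')) ≤ RingHom.ker π := Ideal.map_le_iff_le_comap.2 fun b hb => hπ0 b hb
    exact this ha
  have ham : a ∈ maximalIdeal A' := (residue_eq_zero_iff a).1 (by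
    rw [← hπ a]; rw [map_sub, (show π w = 0 from hw), zero_sub, neg_eq_zero] at ha0; exact ha0)
  have h2 : (M.comap (Algebra.TensorProduct.includeRight (R := A) (A := B) (B := A')).toRingHom) = maximalIdeal A' := by
    haveI : (M.comap (Algebra.TensorProduct.includeRight (R := A) (A := B) (B := A')).toRingHom).IsPrime := Ideal.IsPrime.comap _
    refine eq_maximalIdeal (Ideal.isMaximal_of_isIntegral_of_isMaximal_comap (R := A) _ ?_)
    rw [Ideal.comap_comap, AlgHom.toRingHom_eq_coe, AlgHom.comp_algebraMap, IsScalarTower.algebraMap_eq A B (B ⊗[A] A'),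
      ← Ideal.comap_comap, h1, IsScalarTower.algebraMap_eq A L B,
      comap_maximalIdeal_of_local ((algebraMap L B).comp (algebraMap A L))]
    infer_instance
  have ha' : (1 : B) ⊗ₜ[A] a ∈ M := (h2.ge ham :)
  have := add_mem (Ideal.map_le_iff_le_comap.2 h1.ge ha) ha'
  rwa [sub_add_cancel] at this

include hres in
theorem henselianLocalRing_tensor [IsLocalRing (B ⊗[A] A')] : HenselianLocalRing (B ⊗[A] A') := by
  haveI := isIntegral_strictHenselization A A'
  haveI := (inferInstance : _root_.Hensel.IsHenselization L B).henselian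
  exact Hensel.henselianLocalRing_finite B _

include hres in
theorem isLocalHom_tensor [IsLocalRing (B ⊗[A] A')] : IsLocalHom (algebraMap L (B ⊗[A] A')) := by
  obtain ⟨π, hπ, hπ0⟩ := exists_resW A L B A' hres
  refine ⟨fun l hl => ?_⟩
  by_contra hlu
  have h1 : algebraMap L B l ∈ maximalIdeal B := fun hu => hlu (isUnit_of_map_unit (algebraMap L B) l hu)
  have h2 := hl.map π
  rw [show algebraMap L (B ⊗[A] A') l = algebraMap L B l ⊗ₜ[A] 1 from rfl, hπ0 _ h1] at h2
  exact not_isUnit_zero h2

theorem isLocalHom_right [IsLocalRing (B ⊗[A] A')]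
    (hres : Function.Surjective fun a : A => residue L (algebraMap A L a)) :
    IsLocalHom (Algebra.TensorProduct.includeRight (R := A) (A := B) (B := A')).toRingHom := by
  obtain ⟨π, hπ, hπ0⟩ := exists_resW A L B A' hres
  refine ⟨fun a ha => ?_⟩
  by_contra hau
  have h2 := ha.map π
  rw [show (Algebra.TensorProduct.includeRight (R := A) (A := B) (B := A')).toRingHom a = (1 : B) ⊗ₜ[A] a from rfl,
    hπ, (residue_eq_zero_iff a).2 hau] at h2
  exact not_isUnit_zero h2

include hres in
/-- **the strict henselisation of `L` is `B ⊗[A] A'`** -/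
theorem isStrictHenselization_tensor [IsLocalRing (B ⊗[A] A')] [IsLocalHom (algebraMap L (B ⊗[A] A'))] :
    _root_.Hensel.IsStrictHenselization L (B ⊗[A] A') := by
  haveI hA' : _root_.Hensel.IsStrictHenselization A A' := inferInstance
  haveI := hA'.isSepClosure.2
  haveI hB : _root_.Hensel.IsHenselization L B := inferInstance
  let inR := (Algebra.TensorProduct.includeRight (R := A) (A := B) (B := A'))
  haveI : IsLocalHom inR.toRingHom := isLocalHom_right A L B A' hres
  let ρ : ResidueField A' →+* ResidueField (B ⊗[A] A') := ResidueField.map inR.toRingHom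
  obtain ⟨π, hπ, hπ0⟩ := exists_resW A L B A' hres
  have hρs : Function.Surjective ρ := fun z => by
    obtain ⟨w, rfl⟩ := residue_surjective z
    obtain ⟨a, ha⟩ := exists_approx A L B A' hres w
    refine ⟨residue A' a, sub_eq_zero.1 ?_⟩
    rw [← neg_eq_zero, neg_sub]
    show residue (B ⊗[A] A') w - residue (B ⊗[A] A') ((1 : B) ⊗ₜ[A] a) = 0
    rw [← map_sub, residue_eq_zero_iff]
    refine le_maximalIdeal ?_ ha
    intro htop
    have h1 : (1 : B ⊗[A] A') ∈ RingHom.ker π :=
      (Ideal.map_le_iff_le_comap.2 fun b hb => hπ0 b hb : (maximalIdeal B).map (algebraMap B (B ⊗[A] A')) ≤ RingHom.ker π)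
        (htop ▸ Submodule.mem_top)
    rw [RingHom.mem_ker, map_one] at h1
    exact one_ne_zero h1
  let eρ : ResidueField A' ≃+* ResidueField (B ⊗[A] A') := RingEquiv.ofBijective ρ ⟨ρ.injective, hρs⟩
  let κAL : ResidueField A →+* ResidueField L := ResidueField.map (algebraMap A L)
  let eAL : ResidueField A ≃+* ResidueField L := RingEquiv.ofBijective κAL
    ⟨κAL.injective, fun z => (hres z).elim fun a ha => ⟨residue A a, ha⟩⟩
  have hsq : ∀ a : A, inR.toRingHom (algebraMap A A' a) = algebraMap L (B ⊗[A] A') (algebraMap A L a) := fun a => by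
    show (1 : B) ⊗ₜ[A] (algebraMap A A' a) = algebraMap L B (algebraMap A L a) ⊗ₜ[A] 1
    rw [← IsScalarTower.algebraMap_apply A L B, Algebra.algebraMap_eq_smul_one, Algebra.algebraMap_eq_smul_one,
      TensorProduct.smul_tmul]
  refine ⟨henselianLocalRing_tensor A L B A' hres, ⟨(haveI := hA'.isSepClosure.1; Hensel.isSepClosed_of_ringEquiv eρ), ?_⟩, ?_⟩
  · refine Algebra.IsSeparable.of_equiv_equiv eAL eρ (RingHom.ext fun z => ?_)
    obtain ⟨a, rfl⟩ := residue_surjective z
    exact congrArg (residue (B ⊗[A] A')) (hsq a).symm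
  intro T _ _ f hf τ hτ
  obtain ⟨gB, hgB, hgBu⟩ := hB.universal T f hf
  have hτA : (τ.comp ρ).comp (ResidueField.map (algebraMap A A')) =
      ResidueField.map (f.comp (algebraMap A L)) := by
    refine RingHom.ext fun z => ?_
    obtain ⟨a, rfl⟩ := residue_surjective z
    refine Eq.trans ?_ (RingHom.congr_fun hτ (residue L (algebraMap A L a)))
    exact congrArg (fun w => τ (residue (B ⊗[A] A') w)) (hsq a)
  obtain ⟨gA, ⟨hgA, hgAτ⟩, hgAu⟩ := hA'.universal T (f.comp (algebraMap A L)) (τ.comp ρ) hτA
  letI : Algebra A T := (f.comp (algebraMap A L)).toAlgebra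
  let fB : B →ₐ[A] T :=
    { toRingHom := gB
      commutes' := fun a => by
        rw [IsScalarTower.algebraMap_apply A L B]
        exact RingHom.congr_fun hgB (algebraMap A L a) }
  let fA : A' →ₐ[A] T := { toRingHom := gA, commutes' := fun a => RingHom.congr_fun hgA a }
  let g := Algebra.TensorProduct.lift fB fA fun _ _ => Commute.all _ _
  have hgm : ∀ b ∈ maximalIdeal B, residue T (gB b) = 0 := by
    intro b hb
    rw [← Groth.Agent.S0507.result L B] at hb
    have hle : (maximalIdeal L).map (algebraMap L B) ≤ RingHom.ker ((residue T).comp gB) :=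
      Ideal.map_le_iff_le_comap.2 fun l hl => by
        show residue T (gB (algebraMap L B l)) = 0
        rw [show gB (algebraMap L B l) = f l from RingHom.congr_fun hgB l, residue_eq_zero_iff]
        exact map_nonunit f l hl
    exact hle hb
  refine ⟨g.toRingHom, ⟨RingHom.ext fun l => ?_, fun w => ?_⟩, fun g' hg' => ?_⟩
  · show g (algebraMap L B l ⊗ₜ[A] 1) = f l
    rw [Algebra.TensorProduct.lift_tmul, map_one, mul_one]
    exact RingHom.congr_fun hgB l
  · obtain ⟨a, ha⟩ := exists_approx A L B A' hres w
    have h1 : residue T (g (w - (1 : B) ⊗ₜ[A] a)) = 0 := by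
      have hle : (maximalIdeal B).map (algebraMap B (B ⊗[A] A')) ≤ RingHom.ker ((residue T).comp g.toRingHom) :=
        Ideal.map_le_iff_le_comap.2 fun b hb => by
          show residue T (g (b ⊗ₜ[A] 1)) = 0
          rw [Algebra.TensorProduct.lift_tmul, map_one, mul_one]
          exact hgm b hb
      exact hle ha
    have h2 : residue (B ⊗[A] A') (w - (1 : B) ⊗ₜ[A] a) = 0 := by
      have hle : (maximalIdeal B).map (algebraMap B (B ⊗[A] A')) ≤ RingHom.ker (residue (B ⊗[A] A')) :=
        Ideal.map_le_iff_le_comap.2 fun b hb => by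
          show residue (B ⊗[A] A') (algebraMap B (B ⊗[A] A') b) = 0
          rw [residue_eq_zero_iff]
          intro hu
          have h3 := hu.map π
          rw [show algebraMap B (B ⊗[A] A') b = b ⊗ₜ[A] 1 from rfl, hπ0 b hb] at h3
          exact not_isUnit_zero h3
      exact hle ha
    rw [map_sub, map_sub, sub_eq_zero] at h1
    rw [map_sub, sub_eq_zero] at h2
    show residue T (g w) = τ (residue (B ⊗[A] A') w)
    rw [h1, h2, show g ((1 : B) ⊗ₜ[A] a) = gA a by rw [Algebra.TensorProduct.lift_tmul, map_one, one_mul]; rfl]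
    exact hgAτ a
  · have hB' : g'.comp (algebraMap B (B ⊗[A] A')) = gB := hgBu _ (RingHom.ext fun l => RingHom.congr_fun hg'.1 l)
    have hA'' : g'.comp inR.toRingHom = gA := hgAu _ ⟨RingHom.ext fun a => by
      show g' (inR.toRingHom (algebraMap A A' a)) = f (algebraMap A L a)
      rw [hsq]
      exact RingHom.congr_fun hg'.1 _, fun a => hg'.2 _⟩
    refine RingHom.ext fun w => ?_
    induction w using TensorProduct.induction_on with
    | zero => simp
    | tmul b c =>
      show g' (b ⊗ₜ[A] c) = g (b ⊗ₜ[A] c)
      rw [Algebra.TensorProduct.lift_tmul, show b ⊗ₜ[A] c = algebraMap B (B ⊗[A] A') b * inR.toRingHom c by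
        simp [inR, Algebra.TensorProduct.algebraMap_apply], map_mul]
      exact congrArg₂ (· * ·) (RingHom.congr_fun hB' b) (RingHom.congr_fun hA'' c)
    | add x y hx hy => rw [map_add, map_add, hx, hy]

end Tensor

end Groth.Agent.LAcyc
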