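import Groth.Agent.EtAcycX.LAChange
import Groth.Agent.EtAcycX.Fibres
import Groth.Agent.LAcyc.GenAcyclic
import Groth.Agent.LAcyc.ConstCoeff
import Groth.Agent.LAcyc.FieldInv
import Mathlib

/-!
# Maps inducing integral maps of strict localisations, and composition of locally acyclic morphisms
-/

set_option autoImplicit false
set_option backward.isDefEq.respectTransparency false
set_option backward.isDefEq.respectTransparency.types false
set_option linter.style.haveILetI false
set_option linter.unusedSectionVars false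
set_option linter.overlappingInstances false
set_option maxHeartbeats 1000000
set_option synthInstance.maxHeartbeats 400000

universe u

open CategoryTheory CategoryTheory.Limits AlgebraicGeometry Opposite IsLocalRing
open scoped TensorProduct

noncomputable section

namespace Groth.Agent.LAcyc

attribute [local instance 100000] EtCoh.H._proof_1 Groth.Agent.EtMV.hext
attribute [local instance 200000] Groth.Agent.EtMV.hextAb

open EtBCQ (SH mkSH)

/-- the maps of strict localisations are integral -/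
def IntSH {S' S : Scheme.{u}} (g : S' ⟶ S) : Prop :=
  ∀ (s : S) (QS : SH S s) (s' : S') (QS' : SH S' s') (φ : QS.R →+* QS'.R), IsLocalHom φ →
    Spec.map (CommRingCat.ofHom φ) ≫ QS.spec = QS'.spec ≫ g → φ.IsIntegral

theorem apply_spec_closed {S' S : Scheme.{u}} {g : S' ⟶ S} {s : S} (QS : SH S s) {s' : S'} (QS' : SH S' s')
    (φ : QS.R →+* QS'.R) [IsLocalHom φ] (hφ : Spec.map (CommRingCat.ofHom φ) ≫ QS.spec = QS'.spec ≫ g) :
    g s' = s := by
  have h1 := congrArg (fun f : Spec (CommRingCat.of QS'.R) ⟶ S => f (closedPoint QS'.R)) hφ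
  have h2 : QS.spec (Spec.map (CommRingCat.ofHom φ) (closedPoint QS'.R)) = g (QS'.spec (closedPoint QS'.R)) :=
    ((Scheme.Hom.comp_apply _ _ _).symm.trans h1).trans (Scheme.Hom.comp_apply _ _ _)
  exact ((congrArg g QS'.spec_closed).symm.trans h2.symm).trans
    ((congrArg QS.spec (EtBCQ.Spec_closedPoint' φ)).trans QS.spec_closed)

theorem intSH_weaklyEtale {S' S : Scheme.{u}} (e : S' ⟶ S) [WeaklyEtale e] : IntSH e := by
  intro s QS s' QS' φ hφl hφ
  haveI := hφl
  obtain rfl := apply_spec_closed QS QS' φ hφ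
  obtain ⟨aX, lX, sX, hX⟩ := EtAcycX.exists_push_SH e QS'
  let PX : SH S (e s') := { R := QS'.R, alg := aX, lh := lX, sh := sX }
  haveI : HenselianLocalRing QS.R := QS.sh.henselian
  haveI : IsSepClosed (ResidueField QS.R) := QS.sh.isSepClosure.1
  haveI : HenselianLocalRing QS'.R := QS'.sh.henselian
  haveI : IsLocalHom (RingHom.id PX.R) := inferInstance
  obtain ⟨ψ, ⟨-, hψ⟩, -⟩ := EtBCQ.existsUnique_strict PX (B := QS.R) (C := QS'.R) QS.spec (RingHom.id QS'.R) φ (by
    rw [hφ, CommRingCat.ofHom_id, Spec.map_id, Category.id_comp]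
    exact hX.symm)
  exact RingHom.isIntegral_of_surjective φ fun a => ⟨ψ a, RingHom.congr_fun hψ a⟩

theorem intSH_comp {S'' S' S : Scheme.{u}} {a : S'' ⟶ S'} {b : S' ⟶ S} (ha : IntSH a) (hb : IntSH b) :
    IntSH (a ≫ b) := by
  intro s QS s'' QS'' φ hφl hφ
  haveI := hφl
  let QM := mkSH S' (a s'')
  haveI : HenselianLocalRing QS''.R := QS''.sh.henselian
  haveI : IsSepClosed (ResidueField QS''.R) := QS''.sh.isSepClosure.1
  obtain ⟨φ₁, hφ₁l, hφ₁⟩ := EtBCQ.exists_strict_hom QM (QS''.spec ≫ a) (by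
    rw [Scheme.Hom.comp_apply, QS''.spec_closed])
  haveI := hφ₁l
  obtain ⟨ψ, ⟨hψ, hψ₁⟩, -⟩ := EtBCQ.existsUnique_strict QS (B := QM.R) (C := QS''.R) (QM.spec ≫ b) φ φ₁ (by
    rw [← Category.assoc, hφ₁, Category.assoc, hφ])
  haveI : IsLocalHom ψ := ⟨fun x hx => isUnit_of_map_unit φ x (by rw [← hψ₁]; exact hx.map φ₁)⟩
  rw [← hψ₁]
  exact RingHom.IsIntegral.trans _ _ (hb s QS _ QM ψ inferInstance hψ) (ha _ QM s'' QS'' φ₁ hφ₁l hφ₁)

theorem intSH_integral {S' S : Scheme.{u}} (g : S' ⟶ S) [IsIntegralHom g] : IntSH g := by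
  intro s QS s' QS' φ hφl hφ
  haveI := hφl
  let b := pullback.snd g QS.spec
  haveI : IsIntegralHom b := MorphismProperty.pullback_snd _ _ inferInstance
  haveI : IsAffine (pullback g QS.spec) := isAffine_of_isAffineHom b
  let k : Spec (CommRingCat.of QS'.R) ⟶ pullback g QS.spec :=
    pullback.lift QS'.spec (Spec.map (CommRingCat.ofHom φ)) hφ.symm
  let D := Γ(pullback g QS.spec, ⊤)
  let j := (pullback g QS.spec).isoSpec.inv
  obtain ⟨a, ha⟩ := Spec.map_surjective (j ≫ b)
  obtain ⟨l, hl⟩ := Spec.map_surjective (k ≫ (pullback g QS.spec).isoSpec.hom)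
  letI : Algebra QS.R D := a.hom.toAlgebra
  have hai : a.hom.IsIntegral := by
    rw [← IsIntegralHom.SpecMap_iff, ha]
    infer_instance
  haveI : Algebra.IsIntegral QS.R D := ⟨hai⟩
  haveI : HenselianLocalRing QS.R := QS.sh.henselian
  haveI : IsSepClosed (ResidueField QS.R) := QS.sh.isSepClosure.1
  refine EtAcycX.isIntegral_of_model QS' φ D (j ≫ pullback.fst g QS.spec) l.hom ?_ ?_ ?_
  · refine congrArg CommRingCat.Hom.hom (show a ≫ l = CommRingCat.ofHom φ from Spec.map_injective ?_)
    rw [Spec.map_comp, hl, ha, Category.assoc, Iso.hom_inv_id_assoc, pullback.lift_snd]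
  · show Spec.map l ≫ _ = _
    rw [hl, Category.assoc, Iso.hom_inv_id_assoc, pullback.lift_fst]
  · intro hp hlo
    refine Hensel.isIntegral_atPrime QS.R D _ fun t => ?_
    haveI : Module.Finite QS.R (Algebra.adjoin QS.R (t : Set D)) :=
      Module.Finite.of_fg (fg_adjoin_of_finite t.finite_toSet fun x _ => Algebra.IsIntegral.isIntegral x)
    exact ⟨Algebra.adjoin QS.R (t : Set D), inferInstance, inferInstance, Subalgebra.val _,
      fun z hz => ⟨⟨z, Algebra.subset_adjoin hz⟩, rfl⟩, inferInstance, inferInstance⟩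

/-- base changes of algebraic geometric points induce integral maps of strict localisations -/
theorem intSH_geomPt {S W V : Scheme.{u}} (b : W ⟶ S) (y : S) (K : Type u) [Field K] [Algebra (S.residueField y) K]
    [Algebra.IsAlgebraic (S.residueField y) K] {a : V ⟶ W} {c : V ⟶ Spec (CommRingCat.of K)}
    (sq : IsPullback a c b (EtAcyc.geomPt S y K)) : IntSH a := by
  let t₁ := Spec.map (CommRingCat.ofHom (algebraMap (S.residueField y) K))
  let t₂ := Spec.map (S.residue y)
  let t₃ := S.fromSpecStalk y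
  haveI : IsIntegralHom t₁ :=
    IsIntegralHom.SpecMap_iff.2 (algebraMap_isIntegral_iff.2 Algebra.IsAlgebraic.isIntegral)
  haveI : IsIntegralHom t₂ := IsIntegralHom.SpecMap_iff.2 (RingHom.isIntegral_of_surjective _ (S.residue_surjective y))
  haveI : Flat (S.fromSpecStalk y) := GrpField.flat_fromSpecStalk _
  haveI : IsIso (pullback.diagonal (S.fromSpecStalk y)) := (pullback.isIso_diagonal_iff _).2 inferInstance
  haveI : WeaklyEtale (S.fromSpecStalk y) := ⟨inferInstance, inferInstance⟩
  haveI : WeaklyEtale t₃ := ‹WeaklyEtale (S.fromSpecStalk y)›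
  have ht : t₁ ≫ t₂ ≫ t₃ = EtAcyc.geomPt S y K := rfl
  let w₃ := pullback.fst b t₃
  let w₂ := pullback.fst (pullback.snd b t₃) t₂
  let w₁ := pullback.fst (pullback.snd (pullback.snd b t₃) t₂) t₁
  haveI : WeaklyEtale w₃ := MorphismProperty.pullback_fst _ _ ‹_›
  haveI : IsIntegralHom w₂ := MorphismProperty.pullback_fst _ _ ‹_›
  haveI : IsIntegralHom w₁ := MorphismProperty.pullback_fst _ _ ‹_›
  have sq' : IsPullback (w₁ ≫ w₂ ≫ w₃) (pullback.snd (pullback.snd (pullback.snd b t₃) t₂) t₁) b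
      (t₁ ≫ t₂ ≫ t₃) :=
    (IsPullback.of_hasPullback _ t₁).paste_horiz
      ((IsPullback.of_hasPullback _ t₂).paste_horiz (IsPullback.of_hasPullback b t₃))
  rw [ht] at sq'
  rw [← sq.isoIsPullback_hom_fst _ _ sq']
  exact intSH_comp (intSH_weaklyEtale _)
    (intSH_comp (intSH_integral w₁) (intSH_comp (intSH_integral w₂) (intSH_weaklyEtale w₃)))

/-- strict localisations of a morphism after a base change of the target -/
theorem onStrict_bc {X Y : Scheme.{u}} (g : X ⟶ Y) {x : X} {y : Y} (QS : SH Y y) (QX : SH X x) (φ : QS.R →+* QX.R)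
    (hφ : Spec.map (CommRingCat.ofHom φ) ≫ QS.spec = QX.spec ≫ g) {L : Set ℕ} {n : ℕ} {Z : Scheme.{u}}
    (c : Z ⟶ Spec (CommRingCat.of QS.R))
    (H : EtAcyc.OnStrictLocalizations (pullback.snd g (c ≫ QS.spec))
      (fun _ _ m => EtAcyc.GeomFibresAcyclicN L n m)) :
    EtAcyc.OnStrictLocalizations (pullback.fst c (Spec.map (CommRingCat.ofHom φ)))
      (fun _ _ m => EtAcyc.GeomFibresAcyclicN L n m) := by
  let σ := Spec.map (CommRingCat.ofHom φ)
  let v : Spec (CommRingCat.of QX.R) ⟶ pullback g QS.spec := pullback.lift QX.spec σ hφ.symm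
  haveI : WeaklyEtale QS.spec := EtAcycX.weaklyEtale_specOf y QS.R
  haveI : WeaklyEtale QX.spec := EtAcycX.weaklyEtale_specOf x QX.R
  haveI : WeaklyEtale (v ≫ pullback.fst g QS.spec) := by
    rw [pullback.lift_fst]
    infer_instance
  haveI : WeaklyEtale (pullback.fst g QS.spec) := MorphismProperty.pullback_fst _ _ ‹_›
  haveI : WeaklyEtale v := WeaklyEtale.of_comp v (pullback.fst g QS.spec)
  let X₁ := pullback g (c ≫ QS.spec)
  let r : X₁ ⟶ pullback g QS.spec := pullback.lift (pullback.fst g (c ≫ QS.spec)) (pullback.snd g (c ≫ QS.spec) ≫ c)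
    (by rw [Category.assoc]; exact pullback.condition)
  have sq1 : IsPullback r (pullback.snd g (c ≫ QS.spec)) (pullback.snd g QS.spec) c := by
    refine IsPullback.of_right (h₁₂ := pullback.fst g QS.spec) (v₁₃ := g) (h₂₂ := QS.spec) ?_ (pullback.lift_snd _ _ _)
      (IsPullback.of_hasPullback g QS.spec)
    rw [pullback.lift_fst]
    exact IsPullback.of_hasPullback g (c ≫ QS.spec)
  let eX : pullback c σ ⟶ X₁ := sq1.lift (pullback.snd c σ ≫ v) (pullback.fst c σ)
    (by rw [Category.assoc, pullback.lift_snd]; exact pullback.condition.symm)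
  have sq2 : IsPullback (pullback.snd c σ) eX v r := by
    refine IsPullback.of_bot (v₂₁ := pullback.snd g (c ≫ QS.spec)) (v₂₂ := pullback.snd g QS.spec) (h₃₁ := c) ?_
      (sq1.lift_fst _ _ _).symm sq1
    rw [sq1.lift_snd, pullback.lift_snd]
    exact (IsPullback.of_hasPullback c σ).flip
  haveI : WeaklyEtale eX := MorphismProperty.of_isPullback (P := @WeaklyEtale) sq2 ‹_›
  exact EtAcycX.onStrict_of_weaklyEtale eX (𝟙 Z) (by rw [sq1.lift_snd, Category.comp_id]) H

end Groth.Agent.LAcyc
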