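import Groth.Agent.LAcyc.BaseChange
import Groth.Agent.EtBCQ.StrictSys
import Groth.Agent.EtBCQ.PbSys
import Groth.Agent.EtPBC.Via
import Mathlib.AlgebraicGeometry.AffineTransitionLimit
import Mathlib.CategoryTheory.Limits.Connected

/-!
# Acyclicity of fibres on strict localisations passes to limits
-/

set_option autoImplicit false
set_option backward.isDefEq.respectTransparency false
set_option backward.isDefEq.respectTransparency.types false
set_option linter.style.haveILetI false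
set_option linter.unusedSectionVars false
set_option linter.overlappingInstances false
set_option maxHeartbeats 1000000
set_option synthInstance.maxHeartbeats 400000

universe u

open CategoryTheory CategoryTheory.Limits AlgebraicGeometry Opposite IsLocalRing

noncomputable section

namespace Groth.Agent.LAcyc

attribute [local instance 100000] EtCoh.H._proof_1 Groth.Agent.EtMV.hext
attribute [local instance 200000] Groth.Agent.EtMV.hextAb

open EtBCQ (SH SHSys mkSH)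

/-- restrictions factoring through acyclic schemes vanish -/
theorem eq_zero_of_factor {W' W V X : Scheme.{u}} (m' : W' ⟶ W) (m : W ⟶ V) (mm : W' ⟶ V) (hmm : m' ≫ m = mm)
    (a : V ⟶ X) (a' : W ⟶ X) (a'' : W' ⟶ X) (w : m ≫ a = a') (w' : m' ≫ a' = a'') (w'' : mm ≫ a = a'')
    [PreservesFiniteLimits (EtCoh.pull m)] [PreservesFiniteLimits (EtCoh.pull m')]
    [PreservesFiniteLimits (EtCoh.pull mm)] (F : EtCoh.Ab X) (q : ℕ) (x : EtCoh.H V ((EtCoh.pull a).obj F) q)
    [hj : Subsingleton (EtCoh.H W ((EtCoh.pull a').obj F) q)] :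
    EtCore.HpullVia mm a a'' w'' F q x = 0 := by
  refine (EtPBC.HpullVia_HpullVia m' m mm hmm a a' a'' w w' w'' F q x).symm.trans ?_
  exact (congrArg _ (Subsingleton.elim _ 0)).trans (map_zero _)

section General

variable {I : Type u} [SmallCategory I] [IsCofiltered I] {D : I ⥤ Scheme.{u}}
  [∀ {i j : I} (h : i ⟶ j), IsAffineHom (D.map h)] [∀ i, CompactSpace (D.obj i)]
  [∀ i, QuasiSeparatedSpace (D.obj i)] {c : Cone D} (hc : IsLimit c)

include hc in
/-- limits of connected quasi-compact schemes are connected -/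
theorem connectedSpace_limit (hgood : ∀ i, ∃ (j : I) (_ : j ⟶ i), ConnectedSpace (D.obj j)) :
    ConnectedSpace c.pt := by
  haveI : ∀ i, Nonempty (D.obj i) := fun i => by
    obtain ⟨j, a, h⟩ := hgood i
    obtain ⟨z⟩ := h.toNonempty
    exact ⟨(D.map a).base z⟩
  haveI := Scheme.compactSpace_of_isLimit D c hc
  refine connectedSpace_iff_clopen.2 ⟨Scheme.nonempty_of_isLimit D c hc, fun s hs => ?_⟩
  let U : c.pt.Opens := ⟨s, hs.isOpen⟩
  let U' : c.pt.Opens := ⟨sᶜ, hs.compl.isOpen⟩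
  obtain ⟨i₁, V₁, hV₁, e₁⟩ := exists_preimage_eq D c hc U hs.isClosed.isCompact
  obtain ⟨i₂, V₂, hV₂, e₂⟩ := exists_preimage_eq D c hc U' hs.compl.isClosed.isCompact
  let i := IsCofiltered.min i₁ i₂
  let a₁ := D.map (IsCofiltered.minToLeft i₁ i₂)
  let a₂ := D.map (IsCofiltered.minToRight i₁ i₂)
  let W₁ := a₁ ⁻¹ᵁ V₁
  let W₂ := a₂ ⁻¹ᵁ V₂
  have f₁ : c.π.app i ⁻¹ᵁ W₁ = U := by
    rw [← Scheme.Hom.comp_preimage, c.w, e₁]
  have f₂ : c.π.app i ⁻¹ᵁ W₂ = U' := by
    rw [← Scheme.Hom.comp_preimage, c.w, e₂]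
  have hW₁ : IsCompact (W₁ : Set (D.obj i)) := QuasiCompact.isCompact_preimage _ V₁.2 hV₁
  have hW₂ : IsCompact (W₂ : Set (D.obj i)) := QuasiCompact.isCompact_preimage _ V₂.2 hV₂
  obtain ⟨j, b, hb⟩ := exists_map_eq_top D c hc (W₁ ⊔ W₂) (by
    refine (Scheme.Hom.preimage_sup _).trans (((congrArg₂ (· ⊔ ·) f₁ f₂)).trans ?_)
    ext x
    exact iff_of_true (Classical.em (x ∈ s)) trivial)
  obtain ⟨k, b', hb'⟩ := exists_map_preimage_eq_map_preimage D c hc (i := i) (U := W₁ ⊓ W₂) (V := ⊥)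
    (by
      rw [TopologicalSpace.Opens.coe_inf]
      exact QuasiSeparatedSpace.inter_isCompact _ _ W₁.2 hW₁ W₂.2 hW₂) (by simp) (by
    refine (Scheme.Hom.preimage_inf _).trans (((congrArg₂ (· ⊓ ·) f₁ f₂)).trans ?_)
    rw [Scheme.Hom.preimage_bot]
    ext x
    exact iff_of_false (fun h => h.2 h.1) id)
  obtain ⟨l, lj, lk, hl⟩ := IsCofiltered.cospan b b'
  obtain ⟨m, d, hm⟩ := hgood l
  let φ := D.map (d ≫ lj ≫ b)
  have hsup : φ ⁻¹ᵁ W₁ ⊔ φ ⁻¹ᵁ W₂ = ⊤ := by
    rw [← Scheme.Hom.preimage_sup, show φ = D.map (d ≫ lj) ≫ D.map b by rw [← D.map_comp, Category.assoc],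
      Scheme.Hom.comp_preimage, hb, Scheme.Hom.preimage_top]
  have hinf : φ ⁻¹ᵁ W₁ ⊓ φ ⁻¹ᵁ W₂ = ⊥ := by
    rw [← Scheme.Hom.preimage_inf, show φ = D.map (d ≫ lk) ≫ D.map b' by rw [← D.map_comp, Category.assoc, ← hl],
      Scheme.Hom.comp_preimage, hb', Scheme.Hom.preimage_bot, Scheme.Hom.preimage_bot]
  have hmem₁ : ∀ x : c.pt, x ∈ s ↔ (c.π.app m).base x ∈ φ ⁻¹ᵁ W₁ := fun x => by
    rw [show x ∈ s ↔ x ∈ c.π.app i ⁻¹ᵁ W₁ by rw [f₁]; exact Iff.rfl, ← c.w (d ≫ lj ≫ b)]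
    exact Iff.rfl
  have hcl : IsClopen ((φ ⁻¹ᵁ W₁ : (D.obj m).Opens) : Set (D.obj m)) := by
    refine ⟨⟨?_⟩, (φ ⁻¹ᵁ W₁).2⟩
    convert (φ ⁻¹ᵁ W₂).2 using 1
    ext x
    have h1 : x ∈ φ ⁻¹ᵁ W₁ ∨ x ∈ φ ⁻¹ᵁ W₂ := TopologicalSpace.Opens.mem_sup.1 (hsup ▸ trivial)
    have h2 : x ∈ φ ⁻¹ᵁ W₁ → x ∉ φ ⁻¹ᵁ W₂ := fun p q =>
      (show x ∈ (⊥ : (D.obj m).Opens) → False from id) (hinf ▸ (⟨p, q⟩ : x ∈ φ ⁻¹ᵁ W₁ ⊓ φ ⁻¹ᵁ W₂))
    exact ⟨fun h => h1.resolve_left h, fun h h' => h2 h' h⟩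
  rcases (connectedSpace_iff_clopen.1 hm).2 _ hcl with h | h
  · exact Or.inl (Set.eq_empty_iff_forall_notMem.2 fun x hx => (Set.eq_empty_iff_forall_notMem.1 h) _ ((hmem₁ x).1 hx))
  · exact Or.inr (Set.eq_univ_of_forall fun x => (hmem₁ x).2 (Set.eq_univ_iff_forall.1 h _))

include hc in
/-- vanishing passes to limits -/
theorem subsingleton_H_limit {S : Scheme.{u}} (p : ∀ i, D.obj i ⟶ S)
    (hp : ∀ {i j : I} (h : i ⟶ j), D.map h ≫ p j = p i) (g : c.pt ⟶ S) (hg : ∀ i, c.π.app i ≫ p i = g)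
    (F : EtCoh.Ab S) (q : ℕ)
    (hgood : ∀ i, ∃ (j : I) (_ : j ⟶ i), Subsingleton (EtCoh.H (D.obj j) ((EtCoh.pull (p j)).obj F) q)) :
    Subsingleton (EtCoh.H c.pt ((EtCoh.pull g).obj F) q) := by
  haveI : ∀ i, PreservesFiniteLimits (EtCoh.pull (c.π.app i)) := fun i => EtPullExact.pull_preservesFiniteLimits _
  haveI : ∀ {i j : I} (h : i ⟶ j), PreservesFiniteLimits (EtCoh.pull (D.map h)) := fun h =>
    EtPullExact.pull_preservesFiniteLimits _
  refine subsingleton_of_forall_eq 0 fun ξ => ?_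
  obtain ⟨i, x, hx⟩ := EtPBC.exists_stage_surj hc p hp g hg F q ξ
  obtain ⟨j, a, hj⟩ := hgood i
  exact hx.symm.trans (eq_zero_of_factor (c.π.app j) (D.map a) (c.π.app i) (c.w a) (p i) (p j) g (hp a) (hg j)
    (hg i) F q x)

include hc in
/-- vanishing of cohomology with constant coefficients passes to limits -/
theorem subsingleton_const_limit {S : Scheme.{u}} (p : ∀ i, D.obj i ⟶ S)
    (hp : ∀ {i j : I} (h : i ⟶ j), D.map h ≫ p j = p i) (g : c.pt ⟶ S) (hg : ∀ i, c.π.app i ≫ p i = g)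
    (M : Type) [AddCommGroup M] (q : ℕ)
    (hgood : ∀ i, ∃ (j : I) (_ : j ⟶ i), Subsingleton (EtCoh.H (D.obj j) (EtCoh.const (D.obj j) M) q)) :
    Subsingleton (EtCoh.H c.pt (EtCoh.const c.pt M) q) := by
  haveI key : Subsingleton (EtCoh.H c.pt ((EtCoh.pull g).obj (EtCoh.const S M)) q) :=
    subsingleton_H_limit hc p hp g hg (EtCoh.const S M) q fun a => by
      obtain ⟨b, m, h⟩ := hgood a
      exact ⟨b, m, @Function.Surjective.subsingleton _ _ _ h
        (EtAcycX.bijective_comp_iso (EtCore.pullConst (p b) M).inv q).2⟩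
  exact @Function.Surjective.subsingleton _ _ _ key (EtAcycX.bijective_comp_iso (EtCore.pullConst g M).hom q).2

end General

theorem comp_constCone_π {J : Type u} [SmallCategory J] {X A : Scheme.{u}} (f : A ⟶ X) (i : J) :
    f ≫ (constCone J X).π.app i = f := Category.comp_id f

section Fibre

variable {I : Type u} [SmallCategory I] [IsCofiltered I] {E : I ⥤ Scheme.{u}} [∀ i, IsAffine (E.obj i)]
  {c : Cone E} (hc : IsLimit c) {S W : Scheme.{u}} [IsAffine S] [IsAffine W] (α : E ⟶ (Functor.const I).obj S)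
  (g : c.pt ⟶ S) (hg : ∀ i, c.π.app i ≫ α.app i = g) (γ : W ⟶ S)

/-- the base changes of a system over a fixed affine scheme -/
abbrev fibSys : I ⥤ Scheme.{u} := EtBCQ.pbSys α ((Functor.const I).map γ)

instance (i : I) : IsAffine ((fibSys α γ).obj i) :=
  haveI : IsAffine (((Functor.const I).obj S).obj i) := ‹IsAffine S›
  haveI : IsAffine (((Functor.const I).obj W).obj i) := ‹IsAffine W›
  haveI : IsAffineHom (pullback.snd (α.app i) (((Functor.const I).map γ).app i)) :=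
    MorphismProperty.pullback_snd _ _ inferInstance
  isAffine_of_isAffineHom (pullback.snd (α.app i) (((Functor.const I).map γ).app i))

include hc hg in
/-- the fibre of a limit is acyclic when those of a cofinal set of stages are -/
theorem isAcyclicSchemeN_limit {L : Set ℕ} {n : ℕ}
    (hfib : ∀ a, ∃ (b : I) (_ : b ⟶ a), EtAcyc.IsAcyclicSchemeN L n (pullback (α.app b) γ)) :
    EtAcyc.IsAcyclicSchemeN L n (pullback g γ) := by
  haveI : IsConnected I := IsCofiltered.isConnected _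
  haveI : ∀ {a b : I} (h : a ⟶ b), IsAffineHom ((fibSys α γ).map h) := fun h => inferInstance
  have h1 : ∀ i, g ≫ (constCone I S).π.app i = c.π.app i ≫ α.app i := fun i =>
    (Category.comp_id g).trans (hg i).symm
  have h2 : ∀ i, γ ≫ (constCone I S).π.app i = (constCone I W).π.app i ≫ ((Functor.const I).map γ).app i :=
    fun i => (Category.comp_id γ).trans (Category.id_comp γ).symm
  obtain ⟨hP⟩ := EtBCQ.nonempty_isLimit_pbCone α ((Functor.const I).map γ) (cT := c) (cS := constCone I S)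
    (cB := constCone I W) g γ h1 h2 (pullback.fst g γ) (pullback.snd g γ) hc (isLimitConstCone I S)
    (isLimitConstCone I W) (IsPullback.of_hasPullback g γ)
  haveI hconn : ConnectedSpace ↥(pullback g γ) := connectedSpace_limit hP fun a => by
    obtain ⟨b, m, h⟩ := hfib a
    exact ⟨b, m, h.2.1⟩
  refine ⟨hconn.toNonempty, hconn, fun ℓ hℓ hℓL q hq hqn => ?_⟩
  have hgd : ∀ a, ∃ (b : I) (_ : b ⟶ a),
      Subsingleton (EtCoh.H ((fibSys α γ).obj b) (EtCoh.const _ (ZMod ℓ)) q) := fun a => by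
    obtain ⟨b, m, h⟩ := hfib a
    exact ⟨b, m, h.2.2 ℓ hℓ hℓL q hq hqn⟩
  let π₂ := EtBCQ.pbSnd α ((Functor.const I).map γ)
  let p₂ : ∀ i, (fibSys α γ).obj i ⟶ W := fun i => π₂.app i
  have hp₂ : ∀ {i j : I} (h : i ⟶ j), (fibSys α γ).map h ≫ p₂ j = p₂ i := fun {i j} h =>
    (π₂.naturality h).trans (Category.comp_id _)
  let cn : Cone (fibSys α γ) := EtBCQ.pbCone α ((Functor.const I).map γ) (cT := c) (cS := constCone I S)
    (cB := constCone I W) g γ h1 h2 (pullback.fst g γ) (pullback.snd g γ) pullback.condition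
  have hg₂ : ∀ i, cn.π.app i ≫ p₂ i = pullback.snd g γ := fun i => by
    have h3 := EtBCQ.pbCone_snd α ((Functor.const I).map γ) (cT := c) (cS := constCone I S) (cB := constCone I W)
      g γ h1 h2 (pullback.fst g γ) (pullback.snd g γ) pullback.condition i
    exact h3.trans (comp_constCone_π (pullback.snd g γ) i)
  exact subsingleton_const_limit (c := cn) hP p₂ hp₂ (pullback.snd g γ) hg₂ (ZMod ℓ) q hgd

end Fibre

section Strict

variable {ι : Type u} [Preorder ι] [Nonempty ι] [IsDirectedOrder ι] {D : ιᵒᵖ ⥤ Scheme.{u}} {c : Cone D}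
  (hc : IsLimit c) {Y : Scheme.{u}} (g : c.pt ⟶ Y) (p : ∀ i, D.obj i ⟶ Y) (hg : ∀ i, c.π.app i ≫ p i = g)
  (hp : ∀ {i j : ιᵒᵖ} (h : i ⟶ j), D.map h ≫ p j = p i) {L : Set ℕ} {n : ℕ}

include hc hg hp in
/-- **acyclicity of fibres on strict localisations passes to limits** -/
theorem onStrict_fibres_limit
    (hgood : ∀ i : ι, ∃ j, i ≤ j ∧
      EtAcyc.OnStrictLocalizations (p (op j)) (fun _ _ m => EtAcyc.GeomFibresAcyclicN L n m)) :
    EtAcyc.OnStrictLocalizations g (fun _ _ m => EtAcyc.GeomFibresAcyclicN L n m) := by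
  intro x RY RX _ _ _ _ _ _ _ _ _ _ _ _ hc'
  let QX : SH c.pt x := { R := RX }
  let QY : SH Y (g.base x) := { R := RY }
  let φ : QY.R →+* QX.R := algebraMap RY RX
  haveI : IsLocalHom φ := ‹IsLocalHom (algebraMap RY RX)›
  haveI : HenselianLocalRing QX.R := QX.sh.henselian
  haveI : IsSepClosed (ResidueField QX.R) := QX.sh.isSepClosure.1
  have hφ : Spec.map (CommRingCat.ofHom φ) ≫ QY.spec = QX.spec ≫ g := EtAcycX.spec_of_comp_alg g QY QX φ hc'
  let zi : ∀ i : ι, D.obj (op i) := fun i => (c.π.app (op i)).base x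
  obtain ⟨Φs⟩ := EtBCQ.exists_SHSys QX zi (fun i => rfl)
  haveI : ∀ i, IsLocalHom (Φs.g i) := Φs.hg
  have h1 : ∀ i : ι, ∃ θ : QY.R →+* (mkSH (D.obj (op i)) (zi i)).R,
      Spec.map (CommRingCat.ofHom θ) ≫ QY.spec = (mkSH (D.obj (op i)) (zi i)).spec ≫ p (op i) ∧
        (Φs.g i).comp θ = φ := fun i =>
    (EtBCQ.existsUnique_strict QY (B := (mkSH (D.obj (op i)) (zi i)).R) (C := QX.R)
      ((mkSH (D.obj (op i)) (zi i)).spec ≫ p (op i)) φ (Φs.g i)
      (by rw [← Category.assoc, Φs.g_spec, Category.assoc, hg, hφ])).exists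
  choose θ hθs hθg using h1
  have hθl : ∀ i, IsLocalHom (θ i) := fun i => by
    haveI : IsLocalHom ((Φs.g i).comp (θ i)) := hθg i ▸ ‹IsLocalHom φ›
    exact isLocalHom_of_comp (θ i) (Φs.g i)
  have hθT : ∀ i j (h : i ≤ j), (Φs.T i j h).comp (θ i) = θ j := fun i j h => by
    haveI := hθl i
    haveI := hθl j
    refine (EtBCQ.existsUnique_strict QY (B := (mkSH (D.obj (op j)) (zi j)).R) (C := QX.R)
      ((mkSH (D.obj (op j)) (zi j)).spec ≫ p (op j)) φ (Φs.g j)
      (by rw [← Category.assoc, Φs.g_spec, Category.assoc, hg, hφ])).unique ⟨?_, ?_⟩ ⟨hθs j, hθg j⟩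
    · rw [CommRingCat.ofHom_comp, Spec.map_comp, Category.assoc, hθs, ← Category.assoc, Φs.T_spec, Category.assoc, hp]
    · rw [← RingHom.comp_assoc, Φs.g_T, hθg]
  obtain ⟨hlim⟩ := Φs.nonempty_isLimit hc
  intro y Ω _ _ _ _
  let SR := Spec (CommRingCat.of QY.R)
  haveI : IsCofiltered ιᵒᵖ := isCofiltered_op_of_isFiltered _
  let α : Φs.specs ⟶ (Functor.const ιᵒᵖ).obj SR :=
    { app := fun a => Spec.map (CommRingCat.ofHom (θ a.unop))
      naturality := fun a b m => by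
        refine Eq.trans ?_ (Category.comp_id _).symm
        show Spec.map (CommRingCat.ofHom (Φs.T b.unop a.unop (leOfHom m.unop))) ≫ _ = _
        rw [← Spec.map_comp, ← CommRingCat.ofHom_comp, hθT] }
  have hgφ : ∀ a, Φs.specCone.π.app a ≫ α.app a = Spec.map (CommRingCat.ofHom φ) := fun a => by
    show Spec.map (CommRingCat.ofHom (Φs.g a.unop)) ≫ Spec.map (CommRingCat.ofHom (θ a.unop)) = _
    rw [← Spec.map_comp, ← CommRingCat.ofHom_comp, hθg]
  haveI : ∀ a, IsAffine (Φs.specs.obj a) := fun a =>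
    inferInstanceAs (IsAffine (Spec (CommRingCat.of (mkSH (D.obj (op a.unop)) (zi a.unop)).R)))
  refine isAcyclicSchemeN_limit hlim α _ hgφ (EtAcyc.geomPt SR y Ω) fun a => ?_
  obtain ⟨j, hij, hj⟩ := hgood a.unop
  haveI := hθl j
  refine ⟨op j, (homOfLE hij).op, EtAcycX.apply_onStrict' hj (y := g.base x) ?_ QY (mkSH (D.obj (op j)) (zi j))
    (θ j) (hθs j) y Ω⟩
  show (p (op j)).base ((c.π.app (op j)).base x) = g.base x
  exact congrArg (fun f : c.pt ⟶ Y => f.base x) (hg (op j))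

end Strict

end Groth.Agent.LAcyc
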