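import Groth.Agent.LAcyc.Closed
import Groth.Agent.EtSect.Locus

/-!
# The geometric fibres of the strict localisations of the line are acyclic
-/

set_option autoImplicit false
set_option backward.isDefEq.respectTransparency false
set_option backward.isDefEq.respectTransparency.types false
set_option linter.style.haveILetI false
set_option maxHeartbeats 1000000
set_option synthInstance.maxHeartbeats 400000

universe u

open CategoryTheory CategoryTheory.Limits AlgebraicGeometry Opposite IsLocalRing
open scoped TensorProduct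

noncomputable section

namespace Groth.Agent.LAcyc

variable (A : Type u) [CommRing A] [HenselianLocalRing A]
  (Ω : Type u) [Field Ω] [Algebra A Ω] {ℓ : ℕ}

/-- strict localisations of the line are algebras over the base -/
theorem exists_line_alg {x : ↥(Spec (CommRingCat.of (Polynomial A)))} (hx : lineStr A x = closedPoint A)
    (QX : EtBCQ.SH (Spec (CommRingCat.of (Polynomial A))) x) :
    ∃ (_ : Algebra A QX.R) (_ : IsLocalHom (algebraMap A QX.R)),
      Spec.map (CommRingCat.ofHom (algebraMap A QX.R)) = QX.spec ≫ lineStr A := by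
  let ψ : A →+* QX.R := (Spec.preimage (QX.spec ≫ lineStr A)).hom
  have hψ : Spec.map (CommRingCat.ofHom ψ) = QX.spec ≫ lineStr A := Spec.map_preimage _
  letI : Algebra A QX.R := ψ.toAlgebra
  refine ⟨‹Algebra A QX.R›, ?_, hψ⟩
  refine ((local_hom_TFAE ψ).out 0 4).2 ?_
  refine congrArg PrimeSpectrum.asIdeal (?_ : (PrimeSpectrum.comap ψ) (closedPoint QX.R) = closedPoint A)
  refine Eq.trans ?_ ((congrArg (lineStr A) QX.spec_closed).trans hx)
  exact congrArg (fun m : Spec (CommRingCat.of QX.R) ⟶ Spec (CommRingCat.of A) => m (closedPoint QX.R)) hψ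

variable [IsSepClosed (ResidueField A)] [IsAlgClosed Ω] [Fact ℓ.Prime]

/-- the first direct image vanishes at closed points of the closed fibre -/
theorem zeroAt_closed (hℓ : (ℓ : ResidueField A) ≠ 0)
    (halg : ∀ w : Ω, ∃ m : A, algebraMap A Ω m ≠ 0 ∧ IsIntegral A (m • w))
    {x : ↥(Spec (CommRingCat.of (Polynomial A)))} (hxc : IsClosed ({x} : Set _)) (hx : lineStr A x = closedPoint A) :
    EtPBC.ZeroAt ((EtCoh.Rpush (jLine A Ω) 1).obj
      (EtCoh.const (Spec (CommRingCat.of (Polynomial Ω))) (ZMod ℓ))) x := by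
  haveI : x.asIdeal.IsMaximal := (PrimeSpectrum.isClosed_singleton_iff_isMaximal x).1 hxc
  have hm : maximalIdeal A ≤ x.asIdeal.comap Polynomial.C :=
    (congrArg PrimeSpectrum.asIdeal hx).ge
  let QX := EtBCQ.mkSH (Spec (CommRingCat.of (Polynomial A))) x
  obtain ⟨_, _, hX⟩ := exists_line_alg A hx QX
  exact (zeroAt_rpush_line_iff A Ω ℓ 1 QX hX).2 (h1_closed A Ω hℓ halg hm QX hX)

/-- the first direct image vanishes along the closed fibre -/
theorem zeroAt_line (hℓ : (ℓ : ResidueField A) ≠ 0)
    (halg : ∀ w : Ω, ∃ m : A, algebraMap A Ω m ≠ 0 ∧ IsIntegral A (m • w))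
    {x : ↥(Spec (CommRingCat.of (Polynomial A)))} (hx : lineStr A x = closedPoint A) :
    EtPBC.ZeroAt ((EtCoh.Rpush (jLine A Ω) 1).obj
      (EtCoh.const (Spec (CommRingCat.of (Polynomial Ω))) (ZMod ℓ))) x := by
  intro V s v hv hsupp
  let r := Spec.map (CommRingCat.ofHom (residue A))
  haveI : IsClosedImmersion r := IsClosedImmersion.spec_of_surjective _ residue_surjective
  have hr : r (default : ↥(Spec (CommRingCat.of (ResidueField A)))) = closedPoint A :=
    (congrArg r (Subsingleton.elim (α := PrimeSpectrum (ResidueField A)) _ (closedPoint (ResidueField A)))).trans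
      (IsLocalRing.comap_closedPoint (residue A))
  let iT := pullback.fst (lineStr A) r
  haveI : JacobsonSpace ↥(Spec (CommRingCat.of (ResidueField A))) := inferInstance
  haveI : LocallyOfFiniteType (pullback.snd (lineStr A) r) := inferInstance
  haveI : JacobsonSpace ↥(pullback (lineStr A) r) :=
    LocallyOfFiniteType.jacobsonSpace (pullback.snd (lineStr A) r)
  haveI : Etale V.hom := V.prop
  let iV := pullback.fst V.hom iT
  let qV := pullback.snd V.hom iT
  haveI : Etale qV := MorphismProperty.pullback_snd _ _ inferInstance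
  haveI : JacobsonSpace ↥(pullback V.hom iT) := LocallyOfFiniteType.jacobsonSpace qV
  have hv' : v ∈ Set.range iV := by
    rw [Scheme.Pullback.range_fst, Set.mem_preimage, Scheme.Pullback.range_fst, Set.mem_preimage]
    exact ⟨default, hr.trans ((congrArg (lineStr A) hv).trans hx).symm⟩
  obtain ⟨v', rfl⟩ := hv'
  let Z : Set _ := iV ⁻¹' EtShriek.sectSupp _ V s
  have hZ : IsClosed Z := (EtSect.isClosed_sectSupp _ s).preimage iV.continuous
  obtain ⟨z, hz, hzc⟩ := nonempty_inter_closedPoints (Z := Z) ⟨v', hsupp⟩ hZ.isLocallyClosed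
  have h1 : qV z ∈ closedPoints ↥(pullback (lineStr A) r) :=
    qV.closePoints_subset_preimage_closedPoints hzc
  have h2 : IsClosed ({iT (qV z)} : Set _) := by
    rw [← Set.image_singleton]
    exact iT.isClosedEmbedding.isClosedMap _ h1
  have h3 : V.hom (iV z) = iT (qV z) := by
    rw [← Scheme.Hom.comp_apply, ← Scheme.Hom.comp_apply, pullback.condition]
    rfl
  refine zeroAt_closed A Ω hℓ halg h2 ?_ V s (iV z) h3 hz
  rw [← Scheme.Hom.comp_apply, pullback.condition, Scheme.Hom.comp_apply]
  exact (congrArg r (Subsingleton.elim _ _)).trans hr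

/-- **the geometric fibres of the strict localisations of the line are acyclic** -/
theorem line_acyclic (hℓ : (ℓ : ResidueField A) ≠ 0)
    (halg : ∀ w : Ω, ∃ m : A, algebraMap A Ω m ≠ 0 ∧ IsIntegral A (m • w))
    {x : ↥(Spec (CommRingCat.of (Polynomial A)))} (hx : lineStr A x = closedPoint A)
    (QX : EtBCQ.SH (Spec (CommRingCat.of (Polynomial A))) x) [Algebra A QX.R] [IsLocalHom (algebraMap A QX.R)]
    (hX : Spec.map (CommRingCat.ofHom (algebraMap A QX.R)) = QX.spec ≫ lineStr A) :
    ConnectedSpace ↥(Spec (CommRingCat.of (QX.R ⊗[A] Ω))) ∧ ∀ q : ℕ, 1 ≤ q →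
      Subsingleton (EtCoh.H (Spec (CommRingCat.of (QX.R ⊗[A] Ω)))
        (EtCoh.const (Spec (CommRingCat.of (QX.R ⊗[A] Ω))) (ZMod ℓ)) q) := by
  refine ⟨connected_line A Ω QX hX, fun q hq => (zeroAt_rpush_line_iff A Ω ℓ q QX hX).1 ?_⟩
  rcases q with _ | _ | q
  · omega
  · exact zeroAt_line A Ω hℓ halg hx
  · refine (EtPBC.isZero_stalk_iff_zeroAt (ξ := Hens2.geomPt (Spec (CommRingCat.of (Polynomial A))) x QX.R)
      (EtBCQ.geomPt_apply x QX.R) _).1 ?_
    haveI : (EtCoh.stalk (Hens2.geomPt (Spec (CommRingCat.of (Polynomial A))) x QX.R)).PreservesZeroMorphisms :=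
      inferInstance
    exact Functor.map_isZero _ (isZero_rpush_line A Ω ℓ (Fact.out : ℓ.Prime).pos q)

end Groth.Agent.LAcyc
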