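import Groth.Agent.LAcyc.ProperFLCMain
import Groth.Agent.EtPBC.GeomPt
import Mathlib

/-!
# Specialisation of cohomology in proper smooth families
-/

set_option autoImplicit false
set_option backward.isDefEq.respectTransparency false
set_option backward.isDefEq.respectTransparency.types false
set_option linter.style.haveILetI false
set_option linter.unusedSectionVars false
set_option linter.overlappingInstances false
set_option maxHeartbeats 1000000
set_option synthInstance.maxHeartbeats 400000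

universe u

open CategoryTheory CategoryTheory.Limits AlgebraicGeometry Opposite IsLocalRing

noncomputable section

namespace Groth.Agent.LAcyc

/-- stalks of finite locally constant sheaves near a point -/
theorem exists_nhd_stalk_iso {Y : Scheme.{u}} {G : EtCoh.Ab Y} (hG : EtCoh.IsFiniteLocallyConstant G) (y : Y) :
    ∃ O : Set Y, IsOpen O ∧ y ∈ O ∧ ∀ (Ω : Type u) [Field Ω] [IsSepClosed Ω] (ξ : Spec (CommRingCat.of Ω) ⟶ Y)
      (Ω' : Type u) [Field Ω'] [IsSepClosed Ω'] (ξ' : Spec (CommRingCat.of Ω') ⟶ Y),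
      ξ (default : Spec (CommRingCat.of Ω)) ∈ O → ξ' (default : Spec (CommRingCat.of Ω')) ∈ O →
      Nonempty ((EtCoh.stalk ξ).obj G ≃+ (EtCoh.stalk ξ').obj G) := by
  obtain ⟨U, u₀, M, iM, fM, σ, hu, hσ⟩ := (EtFLC.isFLC_iff G).1 hG y
  haveI : Etale U.hom := U.prop
  refine ⟨Set.range U.hom, (Scheme.Hom.isOpenMap U.hom).isOpen_range, ⟨u₀, hu⟩, ?_⟩
  intro Ω _ _ ξ Ω' _ _ ξ' h h'
  have key : ∀ (K : Type u) [Field K] [IsSepClosed K] (ζ : Spec (CommRingCat.of K) ⟶ Y),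
      ζ (default : Spec (CommRingCat.of K)) ∈ Set.range U.hom → Nonempty (M ≃+ (EtCoh.stalk ζ).obj G) := by
    intro K _ _ ζ hζ
    obtain ⟨v, hv⟩ := hζ
    obtain ⟨z, -⟩ := Scheme.pointSmallEtaleFiberObjToPreimage_surjective ζ rfl U ⟨v, hv⟩
    exact ⟨AddEquiv.ofBijective (((Scheme.pointSmallEtale ζ).toPresheafFiber U z G.obj).hom.comp σ)
      (EtCons.bijective_germ_of_isTriv σ hσ ζ z)⟩
  obtain ⟨e⟩ := key Ω ξ h
  obtain ⟨e'⟩ := key Ω' ξ' h'
  exact ⟨e.symm.trans e'⟩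

/-- stalks of finite locally constant sheaves on connected schemes -/
theorem nonempty_stalk_addEquiv {Y : Scheme.{u}} [ConnectedSpace Y] {G : EtCoh.Ab Y}
    (hG : EtCoh.IsFiniteLocallyConstant G) {Ω Ω' : Type u} [Field Ω] [IsSepClosed Ω] [Field Ω'] [IsSepClosed Ω']
    (a : Spec (CommRingCat.of Ω) ⟶ Y) (b : Spec (CommRingCat.of Ω') ⟶ Y) :
    Nonempty ((EtCoh.stalk a).obj G ≃+ (EtCoh.stalk b).obj G) := by
  let T : Set Y := {y | ∀ (K : Type u) [Field K] [IsSepClosed K] (ξ : Spec (CommRingCat.of K) ⟶ Y),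
    ξ (default : Spec (CommRingCat.of K)) = y → Nonempty ((EtCoh.stalk a).obj G ≃+ (EtCoh.stalk ξ).obj G)}
  have ho : IsOpen T := by
    rw [isOpen_iff_forall_mem_open]
    intro y hy
    obtain ⟨O, hO, hyO, h⟩ := exists_nhd_stalk_iso hG y
    refine ⟨O, fun z hz K _ _ ξ hξ => ?_, hO, hyO⟩
    obtain ⟨K₀, _, _, ξ₀, hξ₀⟩ := EtPBC.exists_geomPt y
    obtain ⟨e⟩ := hy K₀ ξ₀ hξ₀
    obtain ⟨e'⟩ := h K₀ ξ₀ K ξ (by rw [hξ₀]; exact hyO) (by rw [hξ]; exact hz)
    exact ⟨e.trans e'⟩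
  have hc : IsOpen Tᶜ := by
    rw [isOpen_iff_forall_mem_open]
    intro y hy
    obtain ⟨O, hO, hyO, h⟩ := exists_nhd_stalk_iso hG y
    refine ⟨O, fun z hz hzT => hy fun K _ _ ξ hξ => ?_, hO, hyO⟩
    obtain ⟨K₀, _, _, ξ₀, hξ₀⟩ := EtPBC.exists_geomPt z
    obtain ⟨e⟩ := hzT K₀ ξ₀ hξ₀
    obtain ⟨e'⟩ := h K₀ ξ₀ K ξ (by rw [hξ₀]; exact hz) (by rw [hξ]; exact hyO)
    exact ⟨e.trans e'⟩
  obtain ⟨O, -, hyO, h⟩ := exists_nhd_stalk_iso hG (a (default : Spec (CommRingCat.of Ω)))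
  have hne : T.Nonempty := ⟨a (default : Spec (CommRingCat.of Ω)), fun K _ _ ξ hξ =>
    h Ω a K ξ hyO (by rw [hξ]; exact hyO)⟩
  have huniv : T = Set.univ := IsClopen.eq_univ ⟨⟨hc⟩, ho⟩ hne
  exact (huniv ▸ Set.mem_univ (b (default : Spec (CommRingCat.of Ω'))) :
    b (default : Spec (CommRingCat.of Ω')) ∈ T) Ω' b rfl

/-- the case of a fixed invertible annihilator -/
theorem isFLC_rpush_killed (h : ProperConsStmt.{u}) {X Y : Scheme.{u}} (f : X ⟶ Y) [IsProper f] [Smooth f]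
    (n : ℕ) (hn : IsUnit (n : Γ(Y, ⊤))) (F : EtCoh.Ab X) (hF : EtCoh.IsFiniteLocallyConstant F)
    (hFn : EtCoh.KilledBy n F) (q : ℕ) : EtCoh.IsFiniteLocallyConstant ((EtCoh.Rpush f q).obj F) := by
  refine isFLC_rpush_smooth h f F hF (fun Ω _ _ ξ => ?_) q
  have hu : IsUnit (n : Ω) := by
    have h1 := (hn.map f.appTop.hom).map ((ξ.appTop ≫ (Scheme.ΓSpecIso (CommRingCat.of Ω)).hom).hom)
    rwa [map_natCast, map_natCast] at h1
  refine ⟨n, Nat.pos_of_ne_zero fun h0 => ?_, hu.ne_zero, fun s => ?_⟩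
  · exact hu.ne_zero (by rw [h0, Nat.cast_zero])
  · obtain ⟨V, y, t, rfl⟩ := GrothendieckTopology.Point.toPresheafFiber_jointly_surjective
      (Φ := Scheme.pointSmallEtale ξ) (P := F.obj) s
    exact (map_nsmul ((Scheme.pointSmallEtale ξ).toPresheafFiber V y F.obj).hom n t).symm.trans
      ((congrArg _ (hFn V t)).trans (map_zero _))

end Groth.Agent.LAcyc
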