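import Groth.Agent.LAcyc.ProperFLC
import Groth.Agent.LAcyc.Smooth
import Groth.Agent.EtPBC.ShriekTor
import Mathlib

/-!
# Proper locally acyclic and proper smooth morphisms: reduction to constructibility
-/

set_option autoImplicit false
set_option backward.isDefEq.respectTransparency false
set_option backward.isDefEq.respectTransparency.types false
set_option linter.style.haveILetI false
set_option linter.unusedSectionVars false
set_option linter.overlappingInstances false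
set_option maxHeartbeats 1000000
set_option synthInstance.maxHeartbeats 400000

universe u

open CategoryTheory CategoryTheory.Limits AlgebraicGeometry Opposite IsLocalRing

noncomputable section

namespace Groth.Agent.LAcyc

/-- finiteness of proper direct images: the shape of the statement used -/
def ProperConsStmt : Prop :=
  ∀ {X S : Scheme.{u}} (f : X ⟶ S) [IsProper f] [LocallyOfFinitePresentation f] [EtCoh.BCCont f] (n : ℕ), 0 < n →
    ∀ (F : EtCoh.Ab X), EtPBC.IsConstructible F → EtCoh.KilledBy n F → ∀ q : ℕ,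
      EtPBC.IsConstructible ((EtCoh.Rpush f q).obj F)

/-- higher direct images of finite locally constant sheaves are constructible -/
theorem isConstructible_rpush (h : ProperConsStmt.{u}) {X Y : Scheme.{u}} (f : X ⟶ Y) [IsProper f]
    [LocallyOfFinitePresentation f] (F : EtCoh.Ab X) (hF : EtCoh.IsFiniteLocallyConstant F)
    (hU : EtAcyc.IsLTorsion Set.univ F) (q : ℕ) : EtPBC.IsConstructible ((EtCoh.Rpush f q).obj F) := by
  refine EtCons.isConstructible_of_openCover _ (fun V : Y.affineOpens => (V : Y.Opens)) (iSup_affineOpens_eq_top Y)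
    fun V => ?_
  obtain ⟨b⟩ := nonempty_pull_rpush f (V : Y.Opens).ι F hU q
  haveI : IsAffine (V : Y.Opens).toScheme := V.2
  haveI : IsProper (pullback.snd f (V : Y.Opens).ι) := MorphismProperty.pullback_snd _ _ ‹_›
  haveI : LocallyOfFinitePresentation (pullback.snd f (V : Y.Opens).ι) := MorphismProperty.pullback_snd _ _ ‹_›
  haveI : CompactSpace ↥(pullback f (V : Y.Opens).ι) :=
    QuasiCompact.compactSpace_of_compactSpace (pullback.snd f (V : Y.Opens).ι)
  haveI : QuasiSeparatedSpace ↥(pullback f (V : Y.Opens).ι) :=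
    quasiSeparatedSpace_of_quasiSeparated (pullback.snd f (V : Y.Opens).ι)
  have hc : EtPBC.IsConstructible ((EtCoh.pull (pullback.fst f (V : Y.Opens).ι)).obj F) :=
    EtCons.isConstructible_of_isFLC (EtCons.isFLC_pull _ hF)
  obtain ⟨m, hm, hk⟩ := EtCons.exists_killedBy _ hc
  exact EtCons.isConstructible_of_iso b.symm (h (pullback.snd f (V : Y.Opens).ι) m hm _ hc hk q)

/-- the locally acyclic case -/
theorem isFLC_rpush_locAcyclic (h : ProperConsStmt.{u}) {X Y : Scheme.{u}} (f : X ⟶ Y) [IsProper f]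
    [LocallyOfFinitePresentation f] (L : Set ℕ) (n : ℕ) (hf : EtAcyc.IsLocAcyclicN f L n)
    (F : EtCoh.Ab X) (hF : EtAcyc.IsLTorsion L F) (hlc : EtCoh.IsFiniteLocallyConstant F) (q : ℕ) (hq : q ≤ n) :
    EtCoh.IsFiniteLocallyConstant ((EtCoh.Rpush f q).obj F) := by
  have hU := isLTorsion_mono (Set.subset_univ L) hF
  by_cases hL : ∃ ℓ ∈ L, ℓ.Prime
  · exact isFLC_rpush f F hU (isLocallyConstant_of_isFLC hlc) hq (isConstructible_rpush h f F hlc hU q)
      fun A _ _ _ t ht => ⟨L, isLocAcyclicN_pullback_intSH f t ht hL hf, EtAcycX.isLTorsion_pull _ hF⟩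
  · have hz : IsZero ((EtCoh.Rpush f q).obj F) := Functor.map_isZero _ (EtAcycX.isZero_of_noPrimes hL hF)
    haveI : (constantSheaf Y.smallEtaleTopology AddCommGrpCat.{u + 1}).IsLeftAdjoint :=
      (EtCore.constAdj Y).isLeftAdjoint
    exact EtCons.isFLC_of_iso
      ((Functor.map_isZero (constantSheaf Y.smallEtaleTopology AddCommGrpCat.{u + 1})
        (AddCommGrpCat.isZero_of_subsingleton (AddCommGrpCat.of (ULift.{u + 1} PUnit.{1})))).iso hz)
      (EtCons.isFLC_const PUnit.{1})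

/-- the torsion of a finite locally constant sheaf on a scheme proper over a local scheme -/
theorem isLTorsion_pull_invertible {X Y : Scheme.{u}} (f : X ⟶ Y) [IsProper f] (F : EtCoh.Ab X)
    (hF : EtCoh.IsFiniteLocallyConstant F)
    (htor : ∀ (Ω : Type u) [Field Ω] [IsSepClosed Ω] (ξ : Spec (CommRingCat.of Ω) ⟶ X),
      ∃ n : ℕ, 0 < n ∧ (n : Ω) ≠ 0 ∧ ∀ s : (EtCoh.stalk ξ).obj F, n • s = 0)
    (A : Type u) [CommRing A] [IsLocalRing A] (t : Spec (CommRingCat.of A) ⟶ Y) :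
    EtAcyc.IsLTorsion (EtAcyc.primesInvertibleOn (pullback f t)) ((EtCoh.pull (pullback.fst f t)).obj F) := by
  let P := pullback f t
  let g := pullback.fst f t
  let b := pullback.snd f t
  let FA := (EtCoh.pull g).obj F
  haveI : IsProper b := MorphismProperty.pullback_snd _ _ ‹_›
  have hflc : EtCoh.IsFiniteLocallyConstant FA := EtCons.isFLC_pull g hF
  rw [Groth.Agent.S8525.result]
  intro Ω _ _ ξ s
  let x := ξ (default : Spec (CommRingCat.of Ω))
  obtain ⟨x₀, hx₀, hbx₀⟩ : ∃ x₀, x ⤳ x₀ ∧ b x₀ = closedPoint A := by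
    have hcl : IsClosed (b '' closure {x}) := b.isClosedMap _ isClosed_closure
    obtain ⟨x₀, hx₀, hb⟩ : closedPoint A ∈ b '' closure {x} :=
      (IsLocalRing.specializes_closedPoint (b x)).mem_closed hcl ⟨x, subset_closure rfl, rfl⟩
    exact ⟨x₀, specializes_iff_mem_closure.2 hx₀, hb⟩
  obtain ⟨Ω₀, _, _, ξ₀, hξ₀⟩ := EtPBC.exists_geomPt x₀
  obtain ⟨n, hn, hnΩ, hkill⟩ := htor Ω₀ (ξ₀ ≫ g)
  have hunit : IsUnit (n : A) := by
    obtain ⟨φ, hφ⟩ := Spec.map_surjective (ξ₀ ≫ b)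
    have hc : Spec.map φ (closedPoint Ω₀) = closedPoint A := by
      rw [hφ, Scheme.Hom.comp_apply, show ξ₀ (closedPoint Ω₀) = x₀ by
        rw [← hξ₀]; exact congrArg ξ₀ (Subsingleton.elim (α := Spec (CommRingCat.of Ω₀)) _ _)]
      exact hbx₀
    by_contra hu
    have hm : (n : A) ∈ (closedPoint A).asIdeal := hu
    rw [← hc] at hm
    exact ((Ideal.mem_comap (f := φ.hom)).1 hm) (by rw [map_natCast]; exact isUnit_iff_ne_zero.2 hnΩ)
  have hprimes : EtAcyc.PrimesIn (EtAcyc.primesInvertibleOn P) n := ⟨hn, fun p hp hpn => ⟨hp, fun z h0 => by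
    obtain ⟨r, rfl⟩ := hpn
    have h1 := hunit.map ((Spec.preimage ((P.fromSpecResidueField z) ≫ b)).hom)
    rw [map_natCast, Nat.cast_mul, h0, zero_mul] at h1
    exact not_isUnit_zero h1⟩⟩
  obtain ⟨U, u₀, M, iM, fM, σ, hu, hσ⟩ := (EtFLC.isFLC_iff FA).1 hflc x₀
  haveI : Etale U.hom := U.prop
  obtain ⟨v, hv⟩ : x ∈ Set.range U.hom :=
    hx₀.mem_open (Scheme.Hom.isOpenMap U.hom).isOpen_range ⟨u₀, hu⟩
  obtain ⟨y, -⟩ := Scheme.pointSmallEtaleFiberObjToPreimage_surjective ξ (s₀ := x) rfl U ⟨v, hv⟩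
  obtain ⟨y₀, -⟩ := Scheme.pointSmallEtaleFiberObjToPreimage_surjective ξ₀ (s₀ := x₀) hξ₀ U ⟨u₀, hu⟩
  have hb₀ := EtCons.bijective_germ_of_isTriv σ hσ ξ₀ y₀
  have hM : ∀ m : M, n • m = 0 := fun m => hb₀.1 (by
    show (Scheme.pointSmallEtale ξ₀).toPresheafFiber U y₀ FA.obj (σ (n • m)) =
      (Scheme.pointSmallEtale ξ₀).toPresheafFiber U y₀ FA.obj (σ 0)
    rw [map_nsmul, map_nsmul, map_zero, map_zero]
    let e := ((EtStalk.stalkPullIso g ξ₀).app F).addCommGroupIsoToAddEquiv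
    obtain ⟨z, hz⟩ := e.surjective ((Scheme.pointSmallEtale ξ₀).toPresheafFiber U y₀ FA.obj (σ m))
    show n • ((Scheme.pointSmallEtale ξ₀).toPresheafFiber U y₀ FA.obj (σ m) : (EtCoh.stalk ξ₀).obj FA) = 0
    exact ((congrArg (n • ·) hz).symm.trans (map_nsmul e n z).symm).trans ((congrArg e (hkill z)).trans (map_zero e)))
  obtain ⟨m, rfl⟩ := (EtCons.bijective_germ_of_isTriv σ hσ ξ y).2 s
  refine ⟨n, hprimes, ?_⟩
  show n • ((Scheme.pointSmallEtale ξ).toPresheafFiber U y FA.obj (σ m) : (EtCoh.stalk ξ).obj FA) = 0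
  rw [← map_nsmul, ← map_nsmul, hM m, map_zero, map_zero]

/-- the smooth case -/
theorem isFLC_rpush_smooth (h : ProperConsStmt.{u}) {X S : Scheme.{u}} (f : X ⟶ S) [IsProper f] [Smooth f]
    (F : EtCoh.Ab X) (hF : EtCoh.IsFiniteLocallyConstant F)
    (htor : ∀ (Ω : Type u) [Field Ω] [IsSepClosed Ω] (ξ : Spec (CommRingCat.of Ω) ⟶ X),
      ∃ n : ℕ, 0 < n ∧ (n : Ω) ≠ 0 ∧ ∀ s : (EtCoh.stalk ξ).obj F, n • s = 0)
    (i : ℕ) : EtCoh.IsFiniteLocallyConstant ((EtCoh.Rpush f i).obj F) := by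
  have hU : EtAcyc.IsLTorsion Set.univ F := by
    refine EtPBC.isLTorsion_univ_of_isTorsion (EtPBC.isTorsion_of_stalks F fun x => ?_)
    obtain ⟨Ω, _, _, ξ, hξ⟩ := EtPBC.exists_geomPt x
    obtain ⟨n, hn, -, hs⟩ := htor Ω ξ
    exact ⟨Ω, inferInstance, inferInstance, ξ, hξ, fun z => isOfFinAddOrder_iff_nsmul_eq_zero.2 ⟨n, hn, hs z⟩⟩
  refine isFLC_rpush f F hU (isLocallyConstant_of_isFLC hF) (n := i) le_rfl (isConstructible_rpush h f F hF hU i)
    fun A _ _ _ t _ => ?_
  haveI : Smooth (pullback.snd f t) := MorphismProperty.pullback_snd _ _ ‹_›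
  exact ⟨_, isLocAcyclic_smooth (pullback.snd f t) i, isLTorsion_pull_invertible f F hF htor A t⟩

end Groth.Agent.LAcyc
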