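import Groth.Agent.LAcyc.Limit
import Groth.Agent.LAcyc.Smooth
import Groth.Agent.LAcyc.BaseChange
import Groth.Agent.EtBCQ.PbSys
import Mathlib

/-!
# Limits of smooth morphisms are universally locally acyclic
-/

set_option autoImplicit false
set_option backward.isDefEq.respectTransparency false
set_option backward.isDefEq.respectTransparency.types false
set_option linter.style.haveILetI false
set_option linter.unusedSectionVars false
set_option linter.overlappingInstances false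
set_option maxHeartbeats 1000000
set_option synthInstance.maxHeartbeats 400000

universe u

open CategoryTheory CategoryTheory.Limits AlgebraicGeometry Opposite IsLocalRing

noncomputable section

namespace Groth.Agent.LAcyc

/-- **limits of smooth morphisms are universally locally acyclic** -/
theorem isULocAcyclicN_limit_smooth {ι : Type u} [Preorder ι] [IsDirectedOrder ι] [Nonempty ι]
    {S : Scheme.{u}} (D : ιᵒᵖ ⥤ Over S) (hsm : ∀ i, Smooth (D.obj i).hom)
    (c : Cone (D ⋙ Over.forget S)) (hc : IsLimit c) (g : c.pt ⟶ S) (hg : ∀ i, c.π.app i ≫ (D.obj i).hom = g)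
    (n : ℕ) : EtAcyc.IsULocAcyclicN g (EtAcyc.primesInvertibleOn S) n := by
  intro X₁ Y₁ g₁ b' b sq
  haveI : IsCofiltered ιᵒᵖ := isCofiltered_op_of_isFiltered _
  haveI : IsConnected ιᵒᵖ := IsCofiltered.isConnected _
  let α : D ⋙ Over.forget S ⟶ (Functor.const ιᵒᵖ).obj S :=
    { app := fun i => (D.obj i).hom
      naturality := fun a a' m => (Over.w (D.map m)).trans (Category.comp_id _).symm }
  let β : (Functor.const ιᵒᵖ).obj Y₁ ⟶ (Functor.const ιᵒᵖ).obj S := (Functor.const ιᵒᵖ).map b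
  have h1 : ∀ i, g ≫ (constCone ιᵒᵖ S).π.app i = c.π.app i ≫ α.app i := fun i =>
    (comp_constCone_π g i).trans (hg i).symm
  have h2 : ∀ i, b ≫ (constCone ιᵒᵖ S).π.app i = (constCone ιᵒᵖ Y₁).π.app i ≫ β.app i := fun i =>
    (comp_constCone_π b i).trans (Category.id_comp b).symm
  obtain ⟨hP⟩ := EtBCQ.nonempty_isLimit_pbCone α β (cT := c) (cS := constCone ιᵒᵖ S)
    (cB := constCone ιᵒᵖ Y₁) g b h1 h2 b' g₁ hc (isLimitConstCone ιᵒᵖ S) (isLimitConstCone ιᵒᵖ Y₁) sq
  refine EtAcycX.isLocAcyclicN_of_fibres g₁ ?_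
  let cn : Cone (EtBCQ.pbSys α β) := EtBCQ.pbCone α β (cT := c) (cS := constCone ιᵒᵖ S)
    (cB := constCone ιᵒᵖ Y₁) g b h1 h2 b' g₁ sq.w
  let p : ∀ i, (EtBCQ.pbSys α β).obj i ⟶ Y₁ := fun i => (EtBCQ.pbSnd α β).app i
  have hp : ∀ {i j : ιᵒᵖ} (h : i ⟶ j), (EtBCQ.pbSys α β).map h ≫ p j = p i := fun {i j} h =>
    ((EtBCQ.pbSnd α β).naturality h).trans (Category.comp_id _)
  have hgp : ∀ i, cn.π.app i ≫ p i = g₁ := fun i =>
    (EtBCQ.pbCone_snd α β (cT := c) (cS := constCone ιᵒᵖ S) (cB := constCone ιᵒᵖ Y₁) g b h1 h2 b' g₁ sq.w i).trans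
      (comp_constCone_π g₁ i)
  refine onStrict_fibres_limit (c := cn) hP g₁ p hgp hp fun i => ⟨i, le_rfl, ?_⟩
  haveI := hsm (op i)
  have hs : Smooth (p (op i)) := MorphismProperty.of_isPullback (P := @Smooth)
    (EtBCQ.pbIsPullback α β (op i)) ‹_›
  haveI := hs
  exact onStrict_fibres_setMono' (p (op i)) ((primesInvertibleOn_subset b).trans (primesInvertibleOn_subset (p (op i))))
    (onStrict_fibres_smooth (p (op i)) n)
where
  onStrict_fibres_setMono' {X Y : Scheme.{u}} (h : X ⟶ Y) {L L' : Set ℕ} (hL : L ⊆ L')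
      (H : EtAcyc.OnStrictLocalizations h (fun _ _ m => EtAcyc.GeomFibresAcyclicN L' n m)) :
      EtAcyc.OnStrictLocalizations h (fun _ _ m => EtAcyc.GeomFibresAcyclicN L n m) := by
    intro x RS RX _ _ _ _ _ _ _ _ _ _ _ _ hc' y Ω _ _ _ _
    obtain ⟨h1, h2, h3⟩ := H x RS RX hc' y Ω
    exact ⟨h1, h2, fun q hq hq' => h3 q hq (hL hq')⟩

end Groth.Agent.LAcyc
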