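import Groth.Agent.LAcyc.BaseChangeInt
import Groth.Agent.LAcyc.GenFib
import Groth.Agent.LAcyc.BaseChange
import Groth.Agent.EtAcycX.GenPt
import Groth.Agent.RatBlow.Base
import Groth.Agent.Hensel.Branches
import Groth.Agent.Hensel.NormRed
import Groth.Agent.S6642
import Mathlib

/-!
# Specialisation of cohomology for proper locally acyclic morphisms
-/

set_option autoImplicit false
set_option backward.isDefEq.respectTransparency false
set_option backward.isDefEq.respectTransparency.types false
set_option linter.style.haveILetI false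
set_option linter.unusedSectionVars false
set_option linter.overlappingInstances false
set_option maxHeartbeats 1000000
set_option synthInstance.maxHeartbeats 400000

universe u

open CategoryTheory CategoryTheory.Limits AlgebraicGeometry Opposite IsLocalRing

noncomputable section

namespace Groth.Agent.LAcyc

attribute [local instance 100000] EtCoh.H._proof_1 Groth.Agent.EtMV.hext
attribute [local instance 200000] Groth.Agent.EtMV.hextAb

/-- comparison for one sheaf along a composite -/
theorem compAt_comp {A B S : Scheme.{u}} (a : A ⟶ B) (b : B ⟶ S) [PreservesFiniteLimits (EtCoh.pull a)]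
    [PreservesFiniteLimits (EtCoh.pull b)] [PreservesFiniteLimits (EtCoh.pull (a ≫ b))] (F : EtCoh.Ab S) (n : ℕ)
    (hb : (∀ q, q ≤ n → Function.Bijective (EtCore.Hpull b F q)) ∧ Function.Injective (EtCore.Hpull b F (n + 1)))
    (ha : (∀ q, q ≤ n → Function.Bijective (EtCore.Hpull a ((EtCoh.pull b).obj F) q)) ∧
      Function.Injective (EtCore.Hpull a ((EtCoh.pull b).obj F) (n + 1))) :
    (∀ q, q ≤ n → Function.Bijective (EtCore.Hpull (a ≫ b) F q)) ∧
      Function.Injective (EtCore.Hpull (a ≫ b) F (n + 1)) := by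
  haveI := EtAcycX.isIso_ψh a b (a ≫ b) rfl F
  have e : ∀ q, ⇑(EtCore.Hpull (a ≫ b) F q) =
      ⇑(EtCore.HpullVia a b (a ≫ b) rfl F q) ∘ ⇑(EtCore.Hpull b F q) :=
    fun q => funext fun x => (EtAcycX.Hpull_HpullVia a b (a ≫ b) rfl F q x).symm
  refine ⟨fun q hq => ?_, ?_⟩
  · rw [e]
    exact ((EtAcycX.bijective_comp_iso (EtLimit.ψh a b (a ≫ b) rfl F) q).comp (ha.1 q hq)).comp (hb.1 q hq)
  · rw [e]
    exact ((EtAcycX.bijective_comp_iso (EtLimit.ψh a b (a ≫ b) rfl F) (n + 1)).1.comp ha.2).comp hb.2

theorem compAt_congr {A S : Scheme.{u}} {m m' : A ⟶ S} (e : m = m') [PreservesFiniteLimits (EtCoh.pull m)]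
    [PreservesFiniteLimits (EtCoh.pull m')] {F : EtCoh.Ab S} {n : ℕ}
    (h : (∀ q, q ≤ n → Function.Bijective (EtCore.Hpull m F q)) ∧ Function.Injective (EtCore.Hpull m F (n + 1))) :
    (∀ q, q ≤ n → Function.Bijective (EtCore.Hpull m' F q)) ∧ Function.Injective (EtCore.Hpull m' F (n + 1)) := by
  subst e
  exact h

/-- **specialisation**: restriction to geometric fibres of proper locally acyclic morphisms over a strictly
henselian base -/
theorem specialization (R : Type u) [CommRing R] [HenselianLocalRing R] [IsSepClosed (ResidueField R)]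
    {X : Scheme.{u}} (f : X ⟶ Spec (CommRingCat.of R)) [IsProper f] {L : Set ℕ} {n : ℕ}
    (hf : EtAcyc.IsLocAcyclicN f L n) {F : EtCoh.Ab X} (hF : EtAcyc.IsLTorsion L F)
    (hlc : EtRest.IsLocallyConstant F) (y : Spec (CommRingCat.of R)) (Ω : Type u) [Field Ω] [IsSepClosed Ω]
    [Algebra ((Spec (CommRingCat.of R)).residueField y) Ω]
    [Algebra.IsAlgebraic ((Spec (CommRingCat.of R)).residueField y) Ω]
    [PreservesFiniteLimits (EtCoh.pull (pullback.fst f (EtAcyc.geomPt (Spec (CommRingCat.of R)) y Ω)))] :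
    (∀ q : ℕ, q ≤ n →
      Function.Bijective (EtCore.Hpull (pullback.fst f (EtAcyc.geomPt (Spec (CommRingCat.of R)) y Ω)) F q)) ∧
    Function.Injective (EtCore.Hpull (pullback.fst f (EtAcyc.geomPt (Spec (CommRingCat.of R)) y Ω)) F (n + 1)) := by
  by_cases hL : ∃ ℓ ∈ L, ℓ.Prime
  swap
  · have hz := EtAcycX.isZero_of_noPrimes hL hF
    exact ⟨fun q _ => bijective_Hpull_of_isZero _ hz q, (bijective_Hpull_of_isZero _ hz (n + 1)).1⟩
  let t₀ := EtAcyc.geomPt (Spec (CommRingCat.of R)) y Ω
  let p := y.asIdeal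
  let eκ := Scheme.Spec.residueFieldIso (CommRingCat.of R) y
  letI : Algebra ((Spec (CommRingCat.of R)).residueField y) p.ResidueField := eκ.hom.hom.toAlgebra
  letI : Algebra p.ResidueField Ω :=
    ((algebraMap ((Spec (CommRingCat.of R)).residueField y) Ω).comp eκ.inv.hom).toAlgebra
  haveI : IsScalarTower ((Spec (CommRingCat.of R)).residueField y) p.ResidueField Ω :=
    IsScalarTower.of_algebraMap_eq fun a =>
      congrArg (algebraMap ((Spec (CommRingCat.of R)).residueField y) Ω) (Iso.hom_inv_id_apply eκ a).symm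
  haveI : Algebra.IsAlgebraic p.ResidueField Ω :=
    Algebra.IsAlgebraic.tower_top (K := (Spec (CommRingCat.of R)).residueField y) p.ResidueField
  letI : Algebra (R ⧸ p) Ω := ((algebraMap p.ResidueField Ω).comp (algebraMap (R ⧸ p) p.ResidueField)).toAlgebra
  haveI : IsScalarTower (R ⧸ p) p.ResidueField Ω := IsScalarTower.of_algebraMap_eq' rfl
  haveI : Algebra.IsAlgebraic (R ⧸ p) Ω :=
    (IsFractionRing.comap_isAlgebraic_iff (A := R ⧸ p) (K := p.ResidueField) (C := Ω)).2 ‹_›
  letI : Algebra R Ω := ((algebraMap (R ⧸ p) Ω).comp (Ideal.Quotient.mk p)).toAlgebra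
  haveI : IsScalarTower R (R ⧸ p) Ω := IsScalarTower.of_algebraMap_eq' rfl
  have ht₀ : t₀ = Spec.map (CommRingCat.ofHom (algebraMap R Ω)) := by
    show Spec.map _ ≫ (Spec (CommRingCat.of R)).fromSpecResidueField y = _
    rw [← Scheme.Spec.map_residueFieldIso_inv_eq_fromSpecResidueField, ← Category.assoc, ← Spec.map_comp, ← Spec.map_comp]
    rfl
  let A := integralClosure (R ⧸ p) Ω
  haveI : IsFractionRing A Ω := integralClosure.isFractionRing_of_algebraic fun a ha => by
    have h1 : algebraMap (R ⧸ p) p.ResidueField a = 0 :=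
      (algebraMap p.ResidueField Ω).injective (ha.trans (map_zero _).symm)
    exact IsFractionRing.injective (R ⧸ p) p.ResidueField (h1.trans (map_zero _).symm)
  letI : Algebra R A := ((algebraMap (R ⧸ p) A).comp (Ideal.Quotient.mk p)).toAlgebra
  haveI : IsScalarTower R (R ⧸ p) A := IsScalarTower.of_algebraMap_eq' rfl
  haveI : Algebra.IsIntegral R A := Algebra.IsIntegral.trans (R ⧸ p)
  haveI : IsLocalRing A := Hensel.isLocalRing_of_integral_domain R A
  haveI : HenselianLocalRing A := Hensel.henselianLocalRing_finite R A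
  haveI : IsLocalHom (algebraMap R A) := ⟨fun a ha => by
    by_contra hau
    have hm : ((maximalIdeal A).comap (algebraMap R A)).IsMaximal :=
      Ideal.isMaximal_comap_of_isIntegral_of_isMaximal (R := R) (maximalIdeal A)
    exact ((eq_maximalIdeal hm).ge hau) ha⟩
  haveI : IsSepClosed (ResidueField A) := by
    haveI : Algebra.IsIntegral R (ResidueField A) :=
      Algebra.IsIntegral.of_surjective (IsScalarTower.toAlgHom R A _) residue_surjective
    haveI : Algebra.IsIntegral (ResidueField R) (ResidueField A) := Algebra.IsIntegral.tower_top R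
    haveI : Algebra.IsAlgebraic (ResidueField R) (ResidueField A) := inferInstance
    exact Algebra.IsAlgebraic.isSepClosed (F := ResidueField R)
  haveI : IsIntegrallyClosed A := Hensel.isIntegrallyClosed_integralClosure_field (R ⧸ p) Ω
  let σ := Spec.map (CommRingCat.ofHom (algebraMap R A))
  haveI : IsIntegralHom σ := IsIntegralHom.SpecMap_iff.2 (algebraMap_isIntegral_iff.2 ‹_›)
  let fA := pullback.snd f σ
  let h := pullback.fst f σ
  haveI : IsProper fA := MorphismProperty.pullback_snd _ _ ‹_›
  let Y := Spec (CommRingCat.of A)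
  let η := genericPoint Y
  let τ : Spec (CommRingCat.of Ω) ⟶ Y := Spec.map (CommRingCat.ofHom (algebraMap A Ω))
  have hτ : τ (closedPoint Ω) = η := by
    rw [show η = ⟨⊥, Ideal.isPrime_bot⟩ from genericPoint_eq_bot_of_affine (CommRingCat.of A)]
    refine PrimeSpectrum.ext ?_
    show (maximalIdeal Ω).comap (algebraMap A Ω) = ⊥
    rw [IsLocalRing.isField_iff_maximalIdeal_eq.1 (Field.toIsField Ω), ← RingHom.ker_eq_comap_bot,
      RingHom.ker_eq_bot_iff_eq_zero]
    exact fun a ha => IsFractionRing.injective A Ω (ha.trans (map_zero _).symm)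
  obtain ⟨ρ, hρ⟩ : ∃ ρ : Y.residueField η ⟶ CommRingCat.of Ω, Spec.map ρ ≫ Y.fromSpecResidueField η = τ := by
    rw [← hτ]
    exact ⟨Y.descResidueField (Scheme.stalkClosedPointTo τ),
      Scheme.descResidueField_stalkClosedPointTo_fromSpecResidueField (f := τ) ..⟩
  have hρA : (Spec.preimage (Y.fromSpecResidueField η)) ≫ ρ = CommRingCat.ofHom (algebraMap A Ω) := by
    refine Spec.map_injective ?_
    rw [Spec.map_comp, Spec.map_preimage, hρ]
  have hρb : Function.Bijective ρ.hom := ⟨ρ.hom.injective, fun w => by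
    obtain ⟨a, s, hs, rfl⟩ := IsFractionRing.div_surjective (A := A) w
    refine ⟨(Spec.preimage (Y.fromSpecResidueField η)).hom a / (Spec.preimage (Y.fromSpecResidueField η)).hom s, ?_⟩
    rw [map_div₀]
    exact congrArg₂ (· / ·) (ConcreteCategory.congr_hom hρA a) (ConcreteCategory.congr_hom hρA s)⟩
  haveI : IsIso ρ := (ConcreteCategory.isIso_iff_bijective _).2 hρb
  haveI : IsSepClosed (Y.residueField η) := Hensel.isSepClosed_of_ringEquiv (RingEquiv.ofBijective ρ.hom hρb).symm
  let j := Y.fromSpecResidueField η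
  haveI : IsAffineHom j := isAffineHom_of_isAffine j
  haveI : IsAffineHom (pullback.fst fA j) := MorphismProperty.pullback_fst _ _ ‹_›
  haveI := EtCohDesc.pull_preservesFiniteLimits h
  haveI := EtCohDesc.pull_preservesFiniteLimits (pullback.fst fA j)
  haveI := EtCohDesc.pull_preservesFiniteLimits (pullback.fst fA j ≫ h)
  have hh : (∀ q, q ≤ n → Function.Bijective (EtCore.Hpull h F q)) ∧
      Function.Injective (EtCore.Hpull h F (n + 1)) :=
    compN_proper_bc (ψ := algebraMap R A) f L n F hF
  have hfA : EtAcyc.IsLocAcyclicN fA L n := isLocAcyclicN_pullback_intSH f σ (intSH_integral σ) hL hf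
  have hj := EtAcycX.comp_genericFibre (Y := Y) (RatBlow.isNormal_spec (A := A)) fA hL hfA
    (EtAcycX.isLTorsion_pull h hF) ((Groth.Agent.S6642.result h).1 F hlc)
  have h1 := compAt_comp (pullback.fst fA j) h F n hh hj
  have hcomp : Spec.map ρ ≫ j ≫ σ = t₀ := by
    rw [← Category.assoc, hρ, ht₀, ← Spec.map_comp]
    rfl
  have sq := (IsPullback.of_hasPullback fA j).paste_horiz (IsPullback.of_hasPullback f σ)
  let i : pullback f t₀ ⟶ pullback fA j := sq.lift (pullback.fst f t₀) (pullback.snd f t₀ ≫ Spec.map ρ) (by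
    rw [pullback.condition, Category.assoc, hcomp])
  have hi : IsPullback i (pullback.snd f t₀) (pullback.snd fA j) (Spec.map ρ) := by
    refine IsPullback.of_right ?_ (sq.lift_snd _ _ _) sq
    rw [sq.lift_fst, hcomp]
    exact IsPullback.of_hasPullback f t₀
  haveI : IsIso i := MorphismProperty.of_isPullback (P := MorphismProperty.isomorphisms Scheme.{u}) hi.flip
    (inferInstanceAs (IsIso (Spec.map ρ)))
  haveI := EtCohDesc.pull_preservesFiniteLimits i
  haveI := EtCohDesc.pull_preservesFiniteLimits (i ≫ pullback.fst fA j ≫ h)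
  have h2 := compAt_comp i (pullback.fst fA j ≫ h) F n h1
    ⟨fun q _ => EtAcycX.Hpull_bijective_of_isIso i _ q, (EtAcycX.Hpull_bijective_of_isIso i _ (n + 1)).1⟩
  exact compAt_congr (sq.lift_fst _ _ _) h2

end Groth.Agent.LAcyc
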